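import Mathlib
import Groth.Agent.AdicRing.Basic
import Groth.Agent.S9604

/-! A finite domain over a complete Noetherian local ring is complete local. -/
universe u

namespace Groth.Agent.CAlgMisc2

open IsLocalRing

theorem isLocalRing_of_finite_domain_complete {A B : Type u} [CommRing A] [IsLocalRing A]
    [IsNoetherianRing A] [IsAdicComplete (maximalIdeal A) A] [CommRing B] [IsDomain B] [Algebra A B]
    [Module.Finite A B] : IsLocalRing B := by
  haveI hcB : IsAdicComplete ((maximalIdeal A).map (algebraMap A B)) B :=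
    (IsAdicComplete.map_algebraMap_iff _ _).2 (AdicRing.isAdicComplete_of_finite (maximalIdeal A) B)
  obtain ⟨M₁, hM₁⟩ := Ideal.exists_maximal B
  refine IsLocalRing.of_unique_max_ideal ⟨M₁, hM₁, fun M₂ hM₂ => ?_⟩
  by_contra hne
  set J : Ideal B := (maximalIdeal A).map (algebraMap A B) with hJ
  have hJle : ∀ M : Ideal B, M.IsMaximal → J ≤ M := fun M hM =>
    le_trans (IsAdicComplete.le_jacobson_bot J) (sInf_le ⟨bot_le, hM⟩)
  obtain ⟨x, hx1, hx2⟩ : ∃ x ∈ M₁, x ∉ M₂ := by
    by_contra h
    push_neg at h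
    exact hne (hM₁.eq_of_le hM₂.ne_top h).symm
  haveI : IsArtinianRing (B ⧸ J) := by
    letI : Algebra (ResidueField A) (B ⧸ J) :=
      (Ideal.Quotient.lift (maximalIdeal A) ((Ideal.Quotient.mk J).comp (algebraMap A B))
        (fun a ha => Ideal.Quotient.eq_zero_iff_mem.2 (Ideal.mem_map_of_mem _ ha))).toAlgebra
    haveI : IsScalarTower A (ResidueField A) (B ⧸ J) := IsScalarTower.of_algebraMap_eq (fun a => rfl)
    haveI : Module.Finite A (B ⧸ J) := Module.Finite.of_surjective (Ideal.Quotient.mkₐ A J).toLinearMap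
      Ideal.Quotient.mk_surjective
    haveI : Module.Finite (ResidueField A) (B ⧸ J) := Module.Finite.of_restrictScalars_finite A _ _
    exact IsArtinianRing.of_finite (ResidueField A) (B ⧸ J)
  obtain ⟨n, y, hy⟩ := IsArtinian.exists_pow_succ_smul_dvd (Ideal.Quotient.mk J x) (1 : B ⧸ J)
  obtain ⟨y, rfl⟩ := Ideal.Quotient.mk_surjective y
  simp only [smul_eq_mul, mul_one] at hy
  set a : B ⧸ J := Ideal.Quotient.mk J x with ha
  set b : B ⧸ J := Ideal.Quotient.mk J y with hb
  have key : ∀ k, a ^ n = a ^ (n + k) * b ^ k := by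
    intro k
    induction k with
    | zero => simp
    | succ k ih =>
      calc a ^ n = a ^ (n + k) * b ^ k := ih
        _ = a ^ k * a ^ n * b ^ k := by ring
        _ = a ^ k * (a ^ (n + 1) * b) * b ^ k := by rw [hy]
        _ = _ := by ring
  set e : B := x ^ (n + 1) * y ^ (n + 1) with he
  have hidem : e * e - e ∈ J := by
    rw [← Ideal.Quotient.eq_zero_iff_mem, map_sub, sub_eq_zero, map_mul, he, map_mul, map_pow, map_pow,
      ← ha, ← hb]
    calc a ^ (n + 1) * b ^ (n + 1) * (a ^ (n + 1) * b ^ (n + 1))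
        = a * (a ^ (n + (n + 1)) * b ^ (n + 1)) * b ^ (n + 1) := by ring
      _ = a * a ^ n * b ^ (n + 1) := by rw [← key (n + 1)]
      _ = _ := by ring
  have he1 : e ∈ M₁ := Ideal.mul_mem_right _ _ (Ideal.pow_mem_of_mem _ hx1 _ n.succ_pos)
  have he2 : e ∉ M₂ := by
    intro h
    apply hx2
    haveI := hM₂.isPrime
    refine (hM₂.isPrime.mem_of_pow_mem (n + 1) ?_)
    have h1 : x ^ (n + 1) - x ^ (n + 1) * e ∈ J := by
      rw [← Ideal.Quotient.eq_zero_iff_mem, map_sub, sub_eq_zero, map_mul, he, map_mul, map_pow, map_pow,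
        ← ha, ← hb]
      calc a ^ (n + 1) = a * a ^ n := by ring
        _ = a * (a ^ (n + (n + 1)) * b ^ (n + 1)) := by rw [← key (n + 1)]
        _ = _ := by ring
    have h2 := M₂.add_mem (hJle M₂ hM₂ h1) (M₂.mul_mem_left (x ^ (n + 1)) h)
    simpa using h2
  let f : Polynomial B := Polynomial.X ^ 2 - Polynomial.X
  have hfm : f.Monic := by
    have : f = Polynomial.X ^ (1 + 1) + (-Polynomial.X) := by ring
    rw [this]
    apply Polynomial.monic_X_pow_add
    rw [Polynomial.degree_neg]
    exact lt_of_le_of_lt Polynomial.degree_X_le (by norm_num)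
  obtain ⟨r, hr, hre⟩ := HenselianRing.is_henselian (I := J) f hfm e
    (by simpa [f, sq] using hidem)
    (by
      refine ⟨⟨Ideal.Quotient.mk J (2 * e - 1), Ideal.Quotient.mk J (2 * e - 1), ?_, ?_⟩, ?_⟩
      · rw [← map_mul, ← map_one (Ideal.Quotient.mk J), Ideal.Quotient.eq]
        have : (2 * e - 1) * (2 * e - 1) - 1 = 4 * (e * e - e) := by ring
        rw [this]; exact J.mul_mem_left _ hidem
      · rw [← map_mul, ← map_one (Ideal.Quotient.mk J), Ideal.Quotient.eq]
        have : (2 * e - 1) * (2 * e - 1) - 1 = 4 * (e * e - e) := by ring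
        rw [this]; exact J.mul_mem_left _ hidem
      · simp [f, map_ofNat]; norm_num)
  have hr' : r * (r - 1) = 0 := by
    have : r ^ 2 - r = 0 := by simpa [f, Polynomial.IsRoot.def] using hr
    linear_combination this
  rcases mul_eq_zero.1 hr' with h | h
  · apply he2
    have := hJle M₂ hM₂ hre
    rw [h, zero_sub] at this
    exact neg_mem_iff.1 this
  · apply hM₁.ne_top
    rw [Ideal.eq_top_iff_one]
    have := M₁.add_mem (hJle M₁ hM₁ hre) he1
    rw [sub_add_cancel, sub_eq_zero.1 h] at this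
    exact this

theorem isAdicComplete_maximalIdeal_of_finite {A B : Type u} [CommRing A] [IsLocalRing A]
    [IsNoetherianRing A] [IsAdicComplete (maximalIdeal A) A] [CommRing B] [IsLocalRing B] [Algebra A B]
    [Module.Finite A B] : IsAdicComplete (maximalIdeal B) B := by
  haveI hcB : IsAdicComplete ((maximalIdeal A).map (algebraMap A B)) B :=
    (IsAdicComplete.map_algebraMap_iff _ _).2 (AdicRing.isAdicComplete_of_finite (maximalIdeal A) B)
  set J : Ideal B := (maximalIdeal A).map (algebraMap A B) with hJ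
  haveI : IsNoetherianRing B := IsNoetherianRing.of_finite A B
  have hle : J ≤ maximalIdeal B :=
    le_trans (IsAdicComplete.le_jacobson_bot J) (sInf_le ⟨bot_le, maximalIdeal.isMaximal B⟩)
  have hrad : maximalIdeal B ≤ J.radical := by
    rw [Ideal.radical_eq_sInf]
    refine le_sInf fun P ⟨hP, hPp⟩ => ?_
    haveI := hPp
    have hc : P.comap (algebraMap A B) = maximalIdeal A :=
      ((maximalIdeal.isMaximal A).eq_of_le (Ideal.IsPrime.comap _).ne_top (Ideal.map_le_iff_le_comap.1 hP)).symm
    haveI : (P.comap (algebraMap A B)).IsMaximal := hc ▸ maximalIdeal.isMaximal A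
    exact (IsLocalRing.eq_maximalIdeal (Ideal.isMaximal_of_isIntegral_of_isMaximal_comap (R := A) P this)).ge
  obtain ⟨d, hd⟩ := Ideal.exists_pow_le_of_le_radical_of_fg hrad (IsNoetherian.noetherian _)
  rcases Nat.eq_zero_or_pos d with rfl | hd'
  · have : J = ⊤ := by simpa using hd
    exact absurd (top_le_iff.1 (this ▸ hle)) (maximalIdeal.isMaximal B).ne_top
  exact (Groth.Agent.S9604.result (maximalIdeal B) J d 1 hd' one_pos hd (by simpa using hle) B).2 hcB

end Groth.Agent.CAlgMisc2
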