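import Groth.Agent.CAlgH3.Serre

/-! Height-one description of normal Noetherian domains. -/

universe u

open IsLocalRing

namespace Groth.Agent.CAlgMisc2

variable {R : Type u} [CommRing R] [IsDomain R] [IsNoetherianRing R] [IsIntegrallyClosed R]

/-- Every "associated prime" `(bR : z)` has height one. -/
theorem height_eq_one_of_colon_prime {b z : R} (hb : b ≠ 0) (p : Ideal R) [p.IsPrime]
    (hp : ∀ y, y ∈ p ↔ y * z ∈ Ideal.span {b}) : p.height = 1 := by
  obtain ⟨hc, hkill⟩ := CAlgH3.killed_localization hp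
  rw [Ideal.map_span, Set.image_singleton] at hc hkill
  let A := Localization.AtPrime p
  have : IsDomain A := IsLocalization.isDomain_localization p.primeCompl_le_nonZeroDivisors
  have : IsIntegrallyClosed A :=
    isIntegrallyClosed_of_isLocalization A p.primeCompl p.primeCompl_le_nonZeroDivisors
  have hbp : b ∈ p := (hp b).2 (Ideal.mul_mem_right _ _ (Ideal.mem_span_singleton_self _))
  have hbm : algebraMap R A b ∈ maximalIdeal A := by
    rw [← Localization.AtPrime.map_eq_maximalIdeal]; exact Ideal.mem_map_of_mem _ hbp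
  have hb0 : algebraMap R A b ≠ 0 :=
    (map_ne_zero_iff _ (IsLocalization.injective A p.primeCompl_le_nonZeroDivisors)).2 hb
  have hreg : IsSMulRegular A (algebraMap R A b) := fun x y hxy => mul_left_cancel₀ hb0 hxy
  have hnt := CAlgH3.nontrivial_quotSMulTop (M := A) hbm
  have hd1 : _root_.LocCoh.depth A A = 1 := by
    have h0 : _root_.LocCoh.depth A (QuotSMulTop (algebraMap R A b) A) = 0 := by
      rw [CAlgH3.depth_congr (CAlgH3.quotSMulTopSelf (algebraMap R A b))]
      by_contra hne
      have : Nontrivial (A ⧸ Ideal.span {algebraMap R A b}) :=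
        (CAlgH3.quotSMulTopSelf (algebraMap R A b)).symm.toEquiv.nontrivial
      obtain ⟨w, hw, hwreg⟩ := CAlgH3.exists_regular_of_one_le_depth
        (M := A ⧸ Ideal.span {algebraMap R A b}) (Order.one_le_iff_pos.2 (pos_iff_ne_zero.2 hne))
      refine hc ((Submodule.Quotient.mk_eq_zero _).1 (hwreg.right_eq_zero_of_smul ?_))
      rw [← Submodule.Quotient.mk_smul, Submodule.Quotient.mk_eq_zero]
      exact hkill w hw
    rw [← CAlgH3.depth_quotSMulTop_add_one hbm hreg, h0, zero_add]
  have hdim : ¬ 2 ≤ ringKrullDim A := fun h => by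
    have := CAlgH3.two_le_depth_of_normal h
    rw [hd1] at this
    exact absurd this (by decide)
  rw [IsLocalization.AtPrime.ringKrullDim_eq_height p A,
    show (2 : WithBot ℕ∞) = ((2 : ℕ∞) : WithBot ℕ∞) from rfl, WithBot.coe_le_coe, not_le,
    ← one_add_one_eq_two, ENat.lt_add_one_iff ENat.one_ne_top] at hdim
  refine le_antisymm hdim (Order.one_le_iff_pos.2 (pos_iff_ne_zero.2 fun h => ?_))
  rw [Ideal.height_eq_zero_iff, IsDomain.minimalPrimes_eq_singleton_bot, Set.mem_singleton_iff] at h
  exact hb (by simpa [h] using hbp)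

theorem mem_range_of_forall_height_one (x : FractionRing R)
    (hx : ∀ (p : Ideal R) [p.IsPrime], p.height = 1 →
      ∃ (a s : R), s ∉ p ∧ x * algebraMap R (FractionRing R) s = algebraMap R (FractionRing R) a) :
    x ∈ Set.range (algebraMap R (FractionRing R)) := by
  obtain ⟨a, b, hb, rfl⟩ := IsFractionRing.div_surjective R x
  have hb0 : b ≠ 0 := nonZeroDivisors.ne_zero hb
  by_cases hab : b ∣ a
  · obtain ⟨c, rfl⟩ := hab
    refine ⟨c, ?_⟩
    rw [map_mul, mul_div_cancel_left₀]
    exact IsFractionRing.to_map_ne_zero_of_mem_nonZeroDivisors hb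
  exfalso
  have hne : (Submodule.Quotient.mk a : R ⧸ Ideal.span {b}) ≠ 0 := by
    rwa [Ne, Submodule.Quotient.mk_eq_zero, Ideal.mem_span_singleton]
  obtain ⟨p, hp, hle⟩ := exists_le_isAssociatedPrime_of_isNoetherianRing R
    (Submodule.Quotient.mk a : R ⧸ Ideal.span {b}) hne
  obtain ⟨hprime, zb, hz⟩ := isAssociatedPrime_iff.1 hp
  obtain ⟨z, rfl⟩ := Submodule.Quotient.mk_surjective _ zb
  have hmem : ∀ y, y ∈ p ↔ y * z ∈ Ideal.span {b} := fun y => by
    rw [hz, Submodule.mem_colon_singleton, Submodule.mem_bot, ← Submodule.Quotient.mk_smul,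
      Submodule.Quotient.mk_eq_zero, smul_eq_mul]
  obtain ⟨c, s, hs, hcs⟩ := hx p (height_eq_one_of_colon_prime hb0 p hmem)
  have hbK : algebraMap R (FractionRing R) b ≠ 0 := IsFractionRing.to_map_ne_zero_of_mem_nonZeroDivisors hb
  rw [div_mul_eq_mul_div, div_eq_iff hbK, ← map_mul, ← map_mul] at hcs
  refine hs (hle ?_)
  rw [Submodule.mem_colon_singleton, Submodule.mem_bot, ← Submodule.Quotient.mk_smul,
    Submodule.Quotient.mk_eq_zero, smul_eq_mul, mul_comm, IsFractionRing.injective R _ hcs]
  exact Ideal.mul_mem_left _ _ (Ideal.mem_span_singleton_self b)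

end Groth.Agent.CAlgMisc2
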