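import Groth.Agent.CAlgH3.Depth
import Groth.Agent.CAlgMisc1.Imports
import Mathlib.RingTheory.Noetherian.Basic
import Mathlib.Algebra.Module.FinitePresentation

/-! Depth and Serre conditions of Hom modules. -/

universe u

open IsLocalRing
open scoped Pointwise

namespace Groth.Agent.CAlgMisc2

variable {R : Type u} [CommRing R] [IsNoetherianRing R] {M N : Type u} [AddCommGroup M] [Module R M]
  [Module.Finite R M] [AddCommGroup N] [Module R N] [Module.Finite R N]

variable (M N) in
theorem min_two_depth_le_depth_hom [IsLocalRing R] :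
    min 2 (_root_.LocCoh.depth R N) ≤ _root_.LocCoh.depth R (M →ₗ[R] N) := by
  rcases subsingleton_or_nontrivial (M →ₗ[R] N) with h | h
  · rw [CAlgH3.depth_eq_top_of_subsingleton (M := M →ₗ[R] N)]; exact le_top
  have : Nontrivial N := by
    by_contra hN
    rw [not_nontrivial_iff_subsingleton] at hN
    exact not_subsingleton (M →ₗ[R] N) ⟨fun a b => LinearMap.ext fun x => Subsingleton.elim _ _⟩
  rcases lt_or_ge (_root_.LocCoh.depth R N) 1 with h0 | h0
  · rw [ENat.lt_one_iff_eq_zero] at h0
    rw [h0]
    simp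
  obtain ⟨x, hx, hreg⟩ := CAlgH3.exists_regular_of_one_le_depth h0
  have hregH : IsSMulRegular (M →ₗ[R] N) x := fun a b hab =>
    LinearMap.ext fun m => hreg (LinearMap.congr_fun hab m)
  rcases lt_or_ge (_root_.LocCoh.depth R N) 2 with h1 | h1
  · refine (min_le_right _ _).trans (le_trans ?_ (CAlgH3.one_le_depth_iff.2
      (CAlgH3.exists_regular_iff_notMem_associatedPrimes.1 ⟨x, hx, hregH⟩)))
    rw [← ENat.lt_add_one_iff ENat.one_ne_top, one_add_one_eq_two]
    exact h1
  · refine (min_le_left _ _).trans ?_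
    have := nontrivial_quotSMulTop_of_mem_maximalIdeal N hx
    have := nontrivial_quotSMulTop_of_mem_maximalIdeal (M →ₗ[R] N) hx
    rw [← CAlgH3.depth_quotSMulTop_add_one hx hregH, ← one_add_one_eq_two]
    rw [← CAlgH3.depth_quotSMulTop_add_one hx hreg, ← one_add_one_eq_two,
      ENat.add_le_add_iff_right ENat.one_ne_top] at h1
    obtain ⟨y, hy, hyreg⟩ := CAlgH3.exists_regular_of_one_le_depth h1
    refine add_le_add (CAlgH3.one_le_depth_iff.2
      (CAlgH3.exists_regular_iff_notMem_associatedPrimes.1 ⟨y, hy, ?_⟩)) le_rfl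
    rw [isSMulRegular_iff_right_eq_zero_of_smul]
    intro q hq
    obtain ⟨φ, rfl⟩ := Submodule.Quotient.mk_surjective _ q
    rw [← Submodule.Quotient.mk_smul, Submodule.Quotient.mk_eq_zero,
      Submodule.mem_smul_pointwise_iff_exists] at hq
    obtain ⟨ψ, -, hψ⟩ := hq
    have hm : ∀ m, φ m ∈ (x • ⊤ : Submodule R N) := fun m => by
      rw [← Submodule.Quotient.mk_eq_zero]
      refine hyreg.right_eq_zero_of_smul ?_
      rw [← Submodule.Quotient.mk_smul, Submodule.Quotient.mk_eq_zero, ← LinearMap.smul_apply, ← hψ]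
      exact Submodule.smul_mem_pointwise_smul _ _ _ Submodule.mem_top
    rw [Submodule.Quotient.mk_eq_zero, Submodule.mem_smul_pointwise_iff_exists]
    simp only [Submodule.mem_smul_pointwise_iff_exists, Submodule.mem_top, true_and] at hm ⊢
    choose g hg using hm
    refine ⟨{ toFun := g, map_add' := fun a b => hreg ?_, map_smul' := fun r a => hreg ?_ },
      LinearMap.ext fun m => hg m⟩
    · show x • g (a + b) = x • (g a + g b)
      rw [smul_add, hg, hg, hg, map_add]
    · show x • g (r • a) = x • (r • g a)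
      rw [hg, smul_comm, hg, map_smul]

variable (M N) in
theorem hasSk_hom {k : ℕ} (hk : k ≤ 2) (h : _root_.LocCoh.HasSk k R N) :
    _root_.LocCoh.HasSk k R (M →ₗ[R] N) := by
  intro p _
  have := Module.finitePresentation_of_finite R M
  let Mp := LocalizedModule p.primeCompl M
  let Np := LocalizedModule p.primeCompl N
  let A := Localization.AtPrime p
  let e : LocalizedModule p.primeCompl (M →ₗ[R] N) ≃ₗ[R] (Mp →ₗ[A] Np) :=
    Module.FinitePresentation.linearEquivMapExtendScalars p.primeCompl
  let eA : LocalizedModule p.primeCompl (M →ₗ[R] N) ≃ₗ[A] (Mp →ₗ[A] Np) :=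
    e.extendScalarsOfIsLocalization p.primeCompl A
  rw [Module.supportDim_eq_of_equiv eA, CAlgH3.depth_congr eA]
  have hdim : Module.supportDim A (Mp →ₗ[A] Np) ≤ Module.supportDim A Np := by
    rw [Module.supportDim_eq_ringKrullDim_quotient_annihilator,
      Module.supportDim_eq_ringKrullDim_quotient_annihilator]
    have hle : Module.annihilator A Np ≤ Module.annihilator A (Mp →ₗ[A] Np) := fun a ha =>
      Module.mem_annihilator.2 fun φ => LinearMap.ext fun m => Module.mem_annihilator.1 ha _
    exact ringKrullDim_le_of_surjective (Ideal.Quotient.factor hle) (Ideal.Quotient.factor_surjective _)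
  have h1 := h p
  have h2 := min_two_depth_le_depth_hom (R := A) Mp Np
  refine le_trans ?_ (WithBot.coe_le_coe.2 h2)
  rw [WithBot.coe_min]
  refine le_min ((min_le_left _ _).trans ?_) ((min_le_min_left _ hdim).trans h1)
  exact_mod_cast hk

end Groth.Agent.CAlgMisc2
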