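import Groth.Agent.CAlgMisc1.Imports
import Mathlib.LinearAlgebra.Dual.Lemmas
import Mathlib.LinearAlgebra.Dimension.RankNullity
import Mathlib.LinearAlgebra.Dimension.Localization
import Mathlib.Algebra.Module.Torsion.Free
import Mathlib.Algebra.Module.Torsion.Pi

/-! Finite modules over domains: rank, torsion, double duals, reflexivity. -/

universe u

open TensorProduct

namespace Groth.Agent.CAlgMisc2

variable {R : Type u} [CommRing R] [IsDomain R] {M : Type u} [AddCommGroup M] [Module R M] [Module.Finite R M]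

/-- A finite module over a domain is free up to multiplication by a nonzero element. -/
theorem exists_rank_maps (R : Type u) [CommRing R] [IsDomain R] (M : Type u) [AddCommGroup M] [Module R M]
    [Module.Finite R M] :
    ∃ (c : R) (g : (Fin (Module.finrank R M) → R) →ₗ[R] M) (h : M →ₗ[R] (Fin (Module.finrank R M) → R)),
      c ≠ 0 ∧ Function.Injective g ∧ (∀ v, h (g v) = c • v) ∧ (∀ x, g (h x) = c • x) := by
  classical
  obtain ⟨v, hv⟩ := exists_linearIndependent_of_le_finrank (R := R) (M := M) le_rfl
  have hginj : Function.Injective (Fintype.linearCombination R v) := by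
    rw [← LinearMap.ker_eq_bot]
    exact (LinearMap.ker_eq_bot').2 fun a ha => funext fun i => Fintype.linearIndependent_iff.1 hv a
      (by rwa [← Fintype.linearCombination_apply]) i
  have htor : ∀ x : M, ∃ c : R, c ≠ 0 ∧ c • x ∈ LinearMap.range (Fintype.linearCombination R v) := by
    intro x
    have hdep : ¬ LinearIndependent R (Fin.cons x v : Fin (Module.finrank R M + 1) → M) := fun h => by
      have := h.fintype_card_le_finrank
      simp at this
    obtain ⟨a, ha, i, hi⟩ := Fintype.not_linearIndependent_iff.1 hdep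
    rw [Fin.sum_univ_succ] at ha
    simp only [Fin.cons_zero, Fin.cons_succ] at ha
    refine ⟨a 0, fun h0 => ?_, -(fun j => a j.succ), ?_⟩
    · rw [h0, zero_smul, zero_add] at ha
      refine hi ?_
      obtain rfl | ⟨j, rfl⟩ := i.eq_zero_or_eq_succ
      · exact h0
      · exact Fintype.linearIndependent_iff.1 hv _ ha j
    · rw [map_neg, Fintype.linearCombination_apply, neg_eq_iff_add_eq_zero, add_comm]
      exact ha
  obtain ⟨s, hs⟩ := Module.Finite.fg_top (R := R) (M := M)
  choose c hc hcx using htor
  have hCx : ∀ x : M, (∏ x ∈ s, c x) • x ∈ LinearMap.range (Fintype.linearCombination R v) := by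
    intro x
    have hx : x ∈ Submodule.span R (s : Set M) := hs ▸ Submodule.mem_top
    have hle : Submodule.span R (s : Set M) ≤ Submodule.comap ((∏ x ∈ s, c x) • LinearMap.id)
        (LinearMap.range (Fintype.linearCombination R v)) := by
      refine Submodule.span_le.2 fun y hy => ?_
      rw [SetLike.mem_coe, Submodule.mem_comap, LinearMap.smul_apply, LinearMap.id_apply]
      rw [← Finset.prod_erase_mul s c (Finset.mem_coe.1 hy), mul_smul]
      exact Submodule.smul_mem _ _ (hcx y)
    exact hle hx
  let eqv := LinearEquiv.ofInjective (Fintype.linearCombination R v) hginj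
  let h : M →ₗ[R] (Fin (Module.finrank R M) → R) :=
    eqv.symm.toLinearMap ∘ₗ LinearMap.codRestrict _ ((∏ x ∈ s, c x) • LinearMap.id) hCx
  have hgh : ∀ x, Fintype.linearCombination R v (h x) = (∏ x ∈ s, c x) • x := fun x =>
    congrArg Subtype.val (eqv.apply_symm_apply ⟨_, hCx x⟩)
  refine ⟨_, _, h, Finset.prod_ne_zero_iff.2 fun x _ => hc x, hginj, fun a => ?_, hgh⟩
  exact hginj (by rw [hgh, map_smul])

theorem exists_injective_pi [Module.IsTorsionFree R M] :
    ∃ (n : ℕ) (f : M →ₗ[R] (Fin n → R)), Function.Injective f := by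
  obtain ⟨c, g, h, hc, -, -, hgh⟩ := exists_rank_maps R M
  refine ⟨_, h, fun x y hxy => ?_⟩
  have : c • x = c • y := by rw [← hgh, ← hgh, hxy]
  exact smul_right_injective M hc this

omit [Module.Finite R M] in
theorem isTorsionFree_of_injective {N : Type u} [AddCommGroup N] [Module R N] [Module.IsTorsionFree R N]
    (f : M →ₗ[R] N) (hf : Function.Injective f) : Module.IsTorsionFree R M :=
  hf.moduleIsTorsionFree f (map_smul f)

theorem exists_eval_ker_coker (R : Type u) [CommRing R] [IsDomain R] (M : Type u) [AddCommGroup M] [Module R M]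
    [Module.Finite R M] :
    ∃ c : R, c ≠ 0 ∧ (∀ x : M, Module.Dual.eval R M x = 0 → c • x = 0) ∧
      ∀ y : Module.Dual R (Module.Dual R M), c • y ∈ LinearMap.range (Module.Dual.eval R M) := by
  obtain ⟨c, g, h, hc, -, -, hgh⟩ := exists_rank_maps R M
  refine ⟨c, hc, fun x hx => ?_, fun y => ?_⟩
  · have h0 : h x = 0 := funext fun i => LinearMap.congr_fun hx ((LinearMap.proj (R := R) (φ := fun _ => R) i) ∘ₗ h)
    rw [← hgh, h0, map_zero]
  · let z := (Module.evalEquiv R (Fin (Module.finrank R M) → R)).symm (h.dualMap.dualMap y)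
    refine ⟨g z, LinearMap.ext fun φ => ?_⟩
    have h1 : (φ ∘ₗ g) z = h.dualMap.dualMap y (φ ∘ₗ g) :=
      Module.apply_evalEquiv_symm_apply _ _ _ _
    rw [Module.Dual.eval_apply, LinearMap.smul_apply, ← map_smul y c φ]
    show (φ ∘ₗ g) z = _
    rw [h1, LinearMap.dualMap_apply]
    exact congrArg y (LinearMap.ext fun x => by
      rw [LinearMap.smul_apply, LinearMap.dualMap_apply, LinearMap.comp_apply, hgh, map_smul])

theorem eval_injective [Module.IsTorsionFree R M] : Function.Injective (Module.Dual.eval R M) := by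
  obtain ⟨c, hc, hker, -⟩ := exists_eval_ker_coker R M
  rw [injective_iff_map_eq_zero]
  exact fun x hx => (smul_eq_zero.1 (hker x hx)).resolve_left hc

/-- Surjectivity of the evaluation map is a divisibility property. -/
theorem isReflexive_iff_divisible :
    Module.IsReflexive R M ↔ Module.IsTorsionFree R M ∧
      ∀ (c : R) (m : M), c ≠ 0 → (∀ φ : Module.Dual R M, c ∣ φ m) → ∃ z, c • z = m := by
  constructor
  · intro h
    refine ⟨inferInstance, fun c m hc hdiv => ?_⟩
    choose q hq using hdiv
    let y : Module.Dual R (Module.Dual R M) :=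
      { toFun := q
        map_add' := fun φ ψ => mul_left_cancel₀ hc (by rw [← hq, mul_add, ← hq, ← hq, LinearMap.add_apply])
        map_smul' := fun r φ => mul_left_cancel₀ hc (by
          rw [← hq, RingHom.id_apply, smul_eq_mul, mul_left_comm, ← hq, LinearMap.smul_apply, smul_eq_mul]) }
    obtain ⟨z, hz⟩ := (Module.bijective_dual_eval R M).2 y
    refine ⟨z, (Module.bijective_dual_eval R M).1 (LinearMap.ext fun φ => ?_)⟩
    rw [map_smul, hz, Module.Dual.eval_apply, LinearMap.smul_apply, smul_eq_mul]
    exact (hq φ).symm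
  · rintro ⟨htf, h⟩
    refine ⟨⟨eval_injective, fun y => ?_⟩⟩
    obtain ⟨c, hc, -, hcok⟩ := exists_eval_ker_coker R M
    obtain ⟨m, hm⟩ := hcok y
    obtain ⟨z, hz⟩ := h c m hc fun φ => ⟨y φ, by
      have := LinearMap.congr_fun hm φ
      rwa [Module.Dual.eval_apply, LinearMap.smul_apply, smul_eq_mul] at this⟩
    refine ⟨z, LinearMap.ext fun φ => mul_left_cancel₀ hc ?_⟩
    have := LinearMap.congr_fun hm φ
    rw [← hz, map_smul] at this
    exact this

theorem isReflexive_of_exact {M' M'' : Type u} [AddCommGroup M'] [Module R M'] [AddCommGroup M''] [Module R M'']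
    [Module.IsReflexive R M'] [Module.IsTorsionFree R M''] (f : M →ₗ[R] M') (g : M' →ₗ[R] M'')
    (hf : Function.Injective f) (hfg : Function.Exact f g) [Module.Finite R M''] : Module.IsReflexive R M := by
  have := isTorsionFree_of_injective f hf
  refine ⟨⟨eval_injective, fun y => ?_⟩⟩
  obtain ⟨c, hc, -, hcok⟩ := exists_eval_ker_coker R M
  obtain ⟨m', hm'⟩ := (Module.bijective_dual_eval R M').2 (f.dualMap.dualMap y)
  have hgm : g m' = 0 := by
    apply eval_injective (R := R) (M := M'')
    refine LinearMap.ext fun ψ => ?_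
    rw [Module.Dual.eval_apply, map_zero, LinearMap.zero_apply]
    have h1 := LinearMap.congr_fun hm' (ψ ∘ₗ g)
    rw [Module.Dual.eval_apply, LinearMap.comp_apply, LinearMap.dualMap_apply] at h1
    rw [h1, show f.dualMap (ψ ∘ₗ g) = 0 from LinearMap.ext fun x => by
      rw [LinearMap.dualMap_apply, LinearMap.comp_apply, hfg.apply_apply_eq_zero, map_zero, LinearMap.zero_apply],
      map_zero]
  obtain ⟨m, rfl⟩ := (hfg m').1 hgm
  refine ⟨m, sub_eq_zero.1 ((smul_eq_zero (R := R)).1 ?_ |>.resolve_left hc)⟩
  obtain ⟨m0, hm0⟩ := hcok (Module.Dual.eval R M m - y)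
  have hz : f m0 = 0 := by
    apply (Module.bijective_dual_eval R M').1
    refine LinearMap.ext fun ψ => ?_
    have h1 := LinearMap.congr_fun hm0 (ψ ∘ₗ f)
    have h2 := LinearMap.congr_fun hm' ψ
    rw [Module.Dual.eval_apply, LinearMap.dualMap_apply] at h2
    rw [LinearMap.smul_apply, LinearMap.sub_apply, Module.Dual.eval_apply, Module.Dual.eval_apply,
      LinearMap.comp_apply, LinearMap.comp_apply, h2] at h1
    rw [Module.Dual.eval_apply, h1, map_zero, LinearMap.zero_apply]
    show c • (y (f.dualMap ψ) - y (ψ ∘ₗ f)) = 0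
    rw [show f.dualMap ψ = ψ ∘ₗ f from rfl, sub_self, smul_zero]
  rw [← hm0, hf (hz.trans (map_zero f).symm), map_zero]

theorem isReflexive_iff_exists_embedding [IsNoetherianRing R] :
    Module.IsReflexive R M ↔ ∃ (n : ℕ) (f : M →ₗ[R] (Fin n → R)), Function.Injective f ∧
      Module.IsTorsionFree R ((Fin n → R) ⧸ LinearMap.range f) := by
  constructor
  · intro h
    obtain ⟨n, q, hq⟩ := Module.Finite.exists_fin' R (Module.Dual R M)
    let e := (Pi.basisFun R (Fin n)).toDualEquiv
    let f : M →ₗ[R] (Fin n → R) := e.symm.toLinearMap ∘ₗ q.dualMap ∘ₗ Module.Dual.eval R M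
    have hf : Function.Injective f :=
      e.symm.injective.comp ((LinearMap.dualMap_injective_of_surjective hq).comp (Module.bijective_dual_eval R M).1)
    refine ⟨n, f, hf, .of_smul_eq_zero fun r u hu => or_iff_not_imp_left.2 fun hr => ?_⟩
    obtain ⟨u, rfl⟩ := Submodule.Quotient.mk_surjective _ u
    rw [← Submodule.Quotient.mk_smul, Submodule.Quotient.mk_eq_zero] at hu
    obtain ⟨m, hm⟩ := hu
    have hann : e u ∈ (LinearMap.ker q).dualAnnihilator := by
      rw [Submodule.mem_dualAnnihilator]
      intro w hw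
      have h1 : q.dualMap (Module.Dual.eval R M m) = r • e u := by
        have := congrArg e hm
        simpa [f] using this
      have h2 := LinearMap.congr_fun h1 w
      rw [LinearMap.dualMap_apply, LinearMap.mem_ker.1 hw, map_zero, LinearMap.smul_apply, smul_eq_mul] at h2
      exact (mul_eq_zero.1 h2.symm).resolve_left hr
    rw [← LinearMap.range_dualMap_eq_dualAnnihilator_ker_of_surjective q hq] at hann
    obtain ⟨y, hy⟩ := hann
    obtain ⟨z, rfl⟩ := (Module.bijective_dual_eval R M).2 y
    rw [Submodule.Quotient.mk_eq_zero]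
    exact ⟨z, e.injective (by simpa [f] using hy)⟩
  · rintro ⟨n, f, hf, htf⟩
    exact isReflexive_of_exact f (Submodule.mkQ _) hf (LinearMap.exact_map_mkQ_range f)

instance isReflexive_pi {N : Type u} [AddCommGroup N] [Module R N] [Module.IsReflexive R N] (n : ℕ) :
    Module.IsReflexive R (Fin n → N) := by
  induction n with
  | zero => exact Module.IsReflexive.of_split (M := N) (0 : (Fin 0 → N) →ₗ[R] N) 0 (Subsingleton.elim _ _)
  | succ n ih => exact Module.equiv (Fin.consLinearEquiv R fun _ => N)

theorem isReflexive_hom [IsNoetherianRing R] {N : Type u} [AddCommGroup N] [Module R N] [Module.Finite R N]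
    [Module.IsReflexive R N] : Module.IsReflexive R (M →ₗ[R] N) := by
  obtain ⟨n, q, hq⟩ := Module.Finite.exists_fin' R M
  obtain ⟨k, p, hp⟩ := Module.Finite.exists_fin' R (LinearMap.ker q)
  let f : (M →ₗ[R] N) →ₗ[R] (Fin n → N) :=
    (LinearMap.pi fun i => LinearMap.applyₗ (q (Pi.single i 1)))
  let g : (Fin n → N) →ₗ[R] (Fin k → N) :=
    LinearMap.pi fun j => ∑ i, (p (Pi.single j 1)).1 i • LinearMap.proj i
  have hval : ∀ (φ : M →ₗ[R] N) (w : Fin n → R), φ (q w) = ∑ i, w i • f φ i := fun φ w => by
    conv_lhs => rw [pi_eq_sum_univ' w]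
    simp [f, map_sum, map_smul]
  refine isReflexive_of_exact f g (fun φ ψ hfp => LinearMap.ext fun x => ?_) fun v => ⟨fun hv => ?_, ?_⟩
  · obtain ⟨w, rfl⟩ := hq x
    rw [hval, hval, hfp]
  · let L : (Fin n → R) →ₗ[R] N := Fintype.linearCombination R v
    have hker : LinearMap.ker q ≤ LinearMap.ker L := by
      intro w hw
      obtain ⟨b, hb⟩ := hp ⟨w, hw⟩
      have hLp : L ∘ₗ (LinearMap.ker q).subtype ∘ₗ p = 0 := by
        refine (Pi.basisFun R (Fin k)).ext fun j => ?_
        have := congrFun hv j
        simpa [L, g, Fintype.linearCombination_apply] using this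
      rw [LinearMap.mem_ker, show w = ((p b).1) by rw [hb]]
      exact LinearMap.congr_fun hLp b
    refine ⟨(Submodule.liftQ _ L hker) ∘ₗ (q.quotKerEquivOfSurjective hq).symm.toLinearMap, funext fun i => ?_⟩
    show (Submodule.liftQ _ L hker) ((q.quotKerEquivOfSurjective hq).symm (q (Pi.single i 1))) = v i
    rw [show (q.quotKerEquivOfSurjective hq).symm (q (Pi.single i 1)) = Submodule.Quotient.mk (Pi.single i 1) from
      (LinearEquiv.symm_apply_eq _).2 rfl]
    show L (Pi.single i 1) = v i
    simp [L, Fintype.linearCombination_apply, Pi.single_apply]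
  · rintro ⟨φ, rfl⟩
    funext j
    have h0 : q (p (Pi.single j 1)).1 = 0 := (p (Pi.single j 1)).2
    have h1 := hval φ (p (Pi.single j 1)).1
    rw [h0, map_zero] at h1
    simpa [g] using h1.symm

omit [Module.Finite R M] in
theorem isTorsionFree_tensor {R' : Type u} [CommRing R'] [IsDomain R'] [Algebra R R'] [Module.Flat R R']
    [Module.IsTorsionFree R M] : Module.IsTorsionFree R' (R' ⊗[R] M) := by
  classical
  refine .of_smul_eq_zero fun r z hz => ?_
  have hex : ∀ z : R' ⊗[R] M, ∃ (N : Submodule R M), N.FG ∧ z ∈ LinearMap.range (N.subtype.baseChange R') := by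
    intro z
    induction z using TensorProduct.induction_on with
    | zero => exact ⟨⊥, Submodule.fg_bot, zero_mem _⟩
    | tmul a m => exact ⟨Submodule.span R {m}, Submodule.fg_span_singleton m,
        a ⊗ₜ ⟨m, Submodule.mem_span_singleton_self m⟩, rfl⟩
    | add x y hx hy =>
      obtain ⟨N, hN, a, ha⟩ := hx
      obtain ⟨P, hP, b, hb⟩ := hy
      refine ⟨N ⊔ P, hN.sup hP, ?_⟩
      refine add_mem ?_ ?_
      · refine ⟨(Submodule.inclusion (le_sup_left : N ≤ N ⊔ P)).baseChange R' a, ?_⟩
        rw [← ha, ← LinearMap.comp_apply, ← LinearMap.baseChange_comp, Submodule.subtype_comp_inclusion]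
      · refine ⟨(Submodule.inclusion (le_sup_right : P ≤ N ⊔ P)).baseChange R' b, ?_⟩
        rw [← hb, ← LinearMap.comp_apply, ← LinearMap.baseChange_comp, Submodule.subtype_comp_inclusion]
  obtain ⟨N, hN, w, rfl⟩ := hex z
  have : Module.Finite R N := Module.Finite.iff_fg.2 hN
  obtain ⟨n, f, hf⟩ := exists_injective_pi (R := R) (M := N)
  have hinjN : Function.Injective (N.subtype.baseChange R') :=
    Module.Flat.lTensor_preserves_injective_linearMap _ N.injective_subtype
  rw [← map_smul, ← map_zero (N.subtype.baseChange R')] at hz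
  have hz' := hinjN hz
  let e := TensorProduct.piScalarRight R R' R' (Fin n)
  have hfinj : Function.Injective fun a => e (f.baseChange R' a) :=
    e.injective.comp (Module.Flat.lTensor_preserves_injective_linearMap _ hf)
  have h3 : r • e (f.baseChange R' w) = 0 := by rw [← map_smul, ← map_smul, hz', map_zero, map_zero]
  rcases smul_eq_zero.1 h3 with h | h
  · exact Or.inl h
  · refine Or.inr ?_
    rw [show w = 0 from hfinj (by simpa using h), map_zero]

theorem isReflexive_baseChange [IsNoetherianRing R] {R' : Type u} [CommRing R'] [IsDomain R'] [IsNoetherianRing R']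
    [Algebra R R'] [Module.Flat R R'] [Module.IsReflexive R M] : Module.IsReflexive R' (R' ⊗[R] M) := by
  obtain ⟨n, f, hf, htf⟩ := isReflexive_iff_exists_embedding.1 ‹Module.IsReflexive R M›
  let g := (LinearMap.range f).mkQ
  have : Module.IsTorsionFree R' (R' ⊗[R] ((Fin n → R) ⧸ LinearMap.range f)) := isTorsionFree_tensor
  exact isReflexive_of_exact (f.baseChange R') (g.baseChange R')
    (Module.Flat.lTensor_preserves_injective_linearMap _ hf)
    (lTensor_exact R' (LinearMap.exact_map_mkQ_range f) (Submodule.mkQ_surjective _))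

end Groth.Agent.CAlgMisc2
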