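import Groth.Agent.CAlgMisc2.TorsionFree
import Groth.Agent.CAlgMisc2.HomDepth
import Groth.Agent.CAlgMisc2.Normal
import Groth.Agent.CAlgMisc1.Local
import Groth.Agent.CommAlg6.AtPrime
import Mathlib.LinearAlgebra.FreeModule.PID
import Mathlib.FieldTheory.Minpoly.IsIntegrallyClosed
import Mathlib.Algebra.Polynomial.Lifts
import Mathlib.RingTheory.LocalProperties.Submodule
import Mathlib.Algebra.Module.FinitePresentation

/-! Reflexivity and localisation, depth of reflexive modules. -/

universe u

open TensorProduct IsLocalRing
open scoped Pointwise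

namespace Groth.Agent.CAlgMisc2

variable {R : Type u} [CommRing R] [IsDomain R] [IsNoetherianRing R] {M : Type u} [AddCommGroup M] [Module R M]
  [Module.Finite R M]

instance isDomain_atPrime (p : Ideal R) [p.IsPrime] : IsDomain (Localization.AtPrime p) :=
  IsLocalization.isDomain_localization p.primeCompl_le_nonZeroDivisors

theorem isReflexive_localization (p : Ideal R) [p.IsPrime] [Module.IsReflexive R M] :
    Module.IsReflexive (Localization.AtPrime p) (LocalizedModule p.primeCompl M) := by
  have := IsLocalization.flat (Localization.AtPrime p) p.primeCompl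
  have := isReflexive_baseChange (R := R) (M := M) (R' := Localization.AtPrime p)
  exact Module.equiv (LocalizedModule.equivTensorProduct p.primeCompl M).symm

/-- Reflexivity at `p` gives divisibility up to an element outside `p`. -/
theorem exists_smul_eq_of_isReflexive (p : Ideal R) [p.IsPrime]
    [Module.IsReflexive (Localization.AtPrime p) (LocalizedModule p.primeCompl M)] {c : R} (hc : c ≠ 0) (m : M)
    (h : ∀ φ : Module.Dual R M, c ∣ φ m) : ∃ s ∉ p, ∃ z, c • z = s • m := by
  let A := Localization.AtPrime p
  let ι := LocalizedModule.mkLinearMap p.primeCompl M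
  have hcA : algebraMap R A c ≠ 0 :=
    (map_ne_zero_iff _ (IsLocalization.injective A p.primeCompl_le_nonZeroDivisors)).2 hc
  have hdiv : ∀ Φ : Module.Dual A (LocalizedModule p.primeCompl M), algebraMap R A c ∣ Φ (ι m) := by
    intro Φ
    have := Module.finitePresentation_of_finite R M
    obtain ⟨φ, s, hφ⟩ := Module.FinitePresentation.exists_lift_of_isLocalizedModule p.primeCompl
      (Algebra.linearMap R A) ((Φ.restrictScalars R) ∘ₗ ι)
    obtain ⟨q, hq⟩ := h φ
    have h2 := LinearMap.congr_fun hφ m
    simp only [LinearMap.comp_apply, LinearMap.smul_apply, LinearMap.restrictScalars_apply,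
      Algebra.linearMap_apply, Submonoid.smul_def, Algebra.smul_def, hq, map_mul] at h2
    exact (IsUnit.dvd_mul_left (IsLocalization.map_units A s)).1 ⟨algebraMap R A q, h2.symm⟩
  obtain ⟨w, hw⟩ := (isReflexive_iff_divisible.1 ‹_›).2 _ _ hcA hdiv
  induction w using LocalizedModule.induction_on with
  | _ z t =>
    rw [algebraMap_smul, LocalizedModule.smul'_mk] at hw
    change _ = LocalizedModule.mk m 1 at hw
    rw [LocalizedModule.mk_eq] at hw
    obtain ⟨u, hu⟩ := hw
    simp only [Submonoid.smul_def, Submonoid.coe_one, one_smul, ← mul_smul] at hu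
    exact ⟨u * t, p.primeCompl.mul_mem u.2 t.2, (u : R) • z, by rw [← hu, mul_smul, smul_comm]⟩

theorem isTorsionFree_of_notMem_associatedPrimes (h : ∀ p ∈ associatedPrimes R M, p = ⊥) :
    Module.IsTorsionFree R M := by
  refine .of_smul_eq_zero fun r m hm => or_iff_not_imp_right.2 fun hm0 => ?_
  have hmem : r ∈ ⋃ p ∈ associatedPrimes R M, (p : Set R) := by
    rw [biUnion_associatedPrimes_eq_zero_divisors]; exact ⟨m, hm0, hm⟩
  simp only [Set.mem_iUnion, SetLike.mem_coe] at hmem
  obtain ⟨p, hp, hrp⟩ := hmem
  simpa [h p hp] using hrp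

theorem eq_bot_of_mem_associatedPrimes [Module.IsTorsionFree R M] {p : Ideal R}
    (hp : p ∈ associatedPrimes R M) : p = ⊥ := by
  rw [eq_bot_iff]
  intro r hr
  obtain ⟨-, y, hy⟩ := isAssociatedPrime_iff.1 hp
  by_contra hr0
  rw [hy, Submodule.mem_colon_singleton, Submodule.mem_bot] at hr
  have : y = 0 := (smul_eq_zero.1 hr).resolve_left hr0
  exact hp.isPrime.ne_top (hy.trans (by subst this; ext; simp [Submodule.mem_colon_singleton]))

theorem isReflexive_of_forall_isMaximal
    (h : ∀ (m : Ideal R) [m.IsMaximal],
      Module.IsReflexive (Localization.AtPrime m) (LocalizedModule m.primeCompl M)) :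
    Module.IsReflexive R M := by
  refine isReflexive_iff_divisible.2 ⟨.of_smul_eq_zero fun r x hx => or_iff_not_imp_left.2 fun hr => ?_,
    fun c m hc hdiv => ?_⟩
  · refine Module.eq_zero_of_localization_maximal (fun (P : Ideal R) _ => LocalizedModule P.primeCompl M)
      (fun (P : Ideal R) _ => LocalizedModule.mkLinearMap P.primeCompl M) x fun P hP => ?_
    have := h P
    have h1 : algebraMap R (Localization.AtPrime P) r • LocalizedModule.mkLinearMap P.primeCompl M x = 0 := by
      rw [algebraMap_smul, ← map_smul, hx, map_zero]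
    exact (smul_eq_zero.1 h1).resolve_left
      ((map_ne_zero_iff _ (IsLocalization.injective _ P.primeCompl_le_nonZeroDivisors)).2 hr)
  · let J : Ideal R := Submodule.comap (LinearMap.toSpanSingleton R M m) (LinearMap.range (c • LinearMap.id : M →ₗ[R] M))
    by_cases hJ : J = ⊤
    · obtain ⟨z, hz⟩ := (hJ.symm ▸ Submodule.mem_top : (1 : R) ∈ J)
      exact ⟨z, by simpa using hz⟩
    · obtain ⟨P, hP, hle⟩ := J.exists_le_maximal hJ
      have := h P
      obtain ⟨s, hs, z, hz⟩ := exists_smul_eq_of_isReflexive P hc m hdiv
      exact absurd (hle (show s ∈ J from ⟨z, by simpa using hz⟩)) hs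

theorem isReflexive_of_forall_depth
    (h : ∀ (p : Ideal R) [p.IsPrime],
      Module.IsReflexive (Localization.AtPrime p) (LocalizedModule p.primeCompl M) ∨
        2 ≤ _root_.LocCoh.depth (Localization.AtPrime p) (LocalizedModule p.primeCompl M)) :
    Module.IsReflexive R M := by
  have hass : ∀ p ∈ associatedPrimes R M, p = ⊥ := by
    intro p hp
    have hprime := hp.isPrime
    have hm : maximalIdeal (Localization.AtPrime p) ∈
        associatedPrimes (Localization.AtPrime p) (LocalizedModule p.primeCompl M) := by
      rw [← Module.associatedPrimes.preimage_comap_associatedPrimes_eq_associatedPrimes_of_isLocalizedModule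
        p.primeCompl (Localization.AtPrime p) (f := LocalizedModule.mkLinearMap p.primeCompl M), Set.mem_preimage,
        show Ideal.comap (algebraMap R (Localization.AtPrime p)) (maximalIdeal (Localization.AtPrime p)) = p
          from IsLocalization.AtPrime.under_maximalIdeal (Localization.AtPrime p) p]
      exact hp
    rcases h p with hr | hd
    · have h0 := eq_bot_of_mem_associatedPrimes hm
      rw [← IsLocalization.AtPrime.under_maximalIdeal (Localization.AtPrime p) p, h0, Ideal.under_def]
      exact Ideal.comap_bot_of_injective _ (IsLocalization.injective _ p.primeCompl_le_nonZeroDivisors)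
    · have : Nontrivial (LocalizedModule p.primeCompl M) := by
        by_contra hn
        rw [not_nontrivial_iff_subsingleton] at hn
        rw [associatedPrimes.eq_empty_of_subsingleton] at hm
        exact hm
      exact absurd hm (CAlgH3.one_le_depth_iff.1 (le_trans (by norm_num) hd))
  have htf := isTorsionFree_of_notMem_associatedPrimes hass
  refine isReflexive_iff_divisible.2 ⟨htf, fun c m hc hdiv => ?_⟩
  let J : Ideal R := Submodule.comap (LinearMap.toSpanSingleton R M m) (LinearMap.range (c • LinearMap.id : M →ₗ[R] M))
  suffices hJ : J = ⊤ by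
    obtain ⟨z, hz⟩ := (hJ.symm ▸ Submodule.mem_top : (1 : R) ∈ J)
    exact ⟨z, by simpa using hz⟩
  by_contra hJ
  have hne : (Submodule.Quotient.mk m : M ⧸ LinearMap.range (c • LinearMap.id : M →ₗ[R] M)) ≠ 0 := fun h0 =>
    hJ ((Ideal.eq_top_iff_one J).2 (by simpa [J] using (Submodule.Quotient.mk_eq_zero _).1 h0))
  have hcreg : IsSMulRegular M c := smul_right_injective M hc
  -- the submodule of elements divisible after multiplying by a functional test
  let W : Submodule R (M ⧸ LinearMap.range (c • LinearMap.id : M →ₗ[R] M)) := R ∙ Submodule.Quotient.mk m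
  obtain ⟨p, hp, -⟩ := exists_le_isAssociatedPrime_of_isNoetherianRing R
    (⟨_, Submodule.mem_span_singleton_self _⟩ : W) (fun h0 => hne (congrArg Subtype.val h0))
  obtain ⟨hprime, ⟨z, hz⟩, hpz⟩ := isAssociatedPrime_iff.1 hp
  obtain ⟨r, rfl⟩ := Submodule.mem_span_singleton.1 hz
  have hmem : ∀ y, y ∈ p ↔ ∃ w, c • w = y • (r • m) := by
    intro y
    rw [hpz, Submodule.mem_colon_singleton, Submodule.mem_bot, Subtype.ext_iff]
    show y • r • (Submodule.Quotient.mk m : M ⧸ LinearMap.range (c • LinearMap.id : M →ₗ[R] M)) = 0 ↔ _
    rw [← Submodule.Quotient.mk_smul, ← Submodule.Quotient.mk_smul, Submodule.Quotient.mk_eq_zero]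
    simp
  rcases h p with hr | hd
  · obtain ⟨s, hs, w, hw⟩ := exists_smul_eq_of_isReflexive p hc (r • m)
      (fun φ => by rw [map_smul]; exact dvd_mul_of_dvd_right (hdiv φ) r)
    exact hs ((hmem s).2 ⟨w, hw⟩)
  · let A := Localization.AtPrime p
    have hcp : c ∈ p := (hmem c).2 ⟨r • m, rfl⟩
    have hcA : algebraMap R A c ∈ maximalIdeal A := by
      rw [← Localization.AtPrime.map_eq_maximalIdeal]; exact Ideal.mem_map_of_mem _ hcp
    let ι := LocalizedModule.mkLinearMap p.primeCompl M
    have hreg : IsSMulRegular (LocalizedModule p.primeCompl M) (algebraMap R A c) :=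
      CAlgH3.isSMulRegular_localization hcreg p
    have hnot : ∀ w, algebraMap R A c • w ≠ ι (r • m) := by
      intro w
      induction w using LocalizedModule.induction_on with
      | _ w t =>
        intro hw
        rw [algebraMap_smul, LocalizedModule.smul'_mk] at hw
        change _ = LocalizedModule.mk (r • m) 1 at hw
        rw [LocalizedModule.mk_eq] at hw
        obtain ⟨u, hu⟩ := hw
        simp only [Submonoid.smul_def, Submonoid.coe_one, one_smul] at hu
        exact p.primeCompl.mul_mem u.2 t.2 ((hmem _).2 ⟨(u : R) • w, by rw [smul_comm, hu, mul_smul]⟩)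
    have : Nontrivial (LocalizedModule p.primeCompl M) :=
      nontrivial_iff.2 ⟨ι (r • m), 0, fun h0 => hnot 0 (by rw [smul_zero, h0])⟩
    have := nontrivial_quotSMulTop_of_mem_maximalIdeal (LocalizedModule p.primeCompl M) hcA
    rw [← CAlgH3.depth_quotSMulTop_add_one hcA hreg, ← one_add_one_eq_two,
      ENat.add_le_add_iff_right ENat.one_ne_top] at hd
    obtain ⟨y, hy, hyreg⟩ := CAlgH3.exists_regular_of_one_le_depth hd
    have hkill : maximalIdeal A ≤ Submodule.comap (LinearMap.toSpanSingleton A _ (ι (r • m)))
        (algebraMap R A c • (⊤ : Submodule A (LocalizedModule p.primeCompl M))) := by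
      rw [← Localization.AtPrime.map_eq_maximalIdeal, Ideal.map_le_iff_le_comap]
      intro a ha
      obtain ⟨w, hw⟩ := (hmem a).1 ha
      rw [Ideal.mem_comap, Submodule.mem_comap, LinearMap.toSpanSingleton_apply, algebraMap_smul, ← map_smul,
        ← hw, map_smul, ← algebraMap_smul A c (ι w)]
      exact Submodule.smul_mem_pointwise_smul _ _ _ Submodule.mem_top
    have h0 : (Submodule.Quotient.mk (ι (r • m)) : QuotSMulTop (algebraMap R A c) (LocalizedModule p.primeCompl M)) = 0 := by
      refine hyreg.right_eq_zero_of_smul ?_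
      rw [← Submodule.Quotient.mk_smul, Submodule.Quotient.mk_eq_zero]
      exact hkill hy
    rw [Submodule.Quotient.mk_eq_zero, Submodule.mem_smul_pointwise_iff_exists] at h0
    obtain ⟨w, -, hw⟩ := h0
    exact hnot w hw

theorem two_le_depth_of_isReflexive [Module.IsReflexive R M] (p : Ideal R) [p.IsPrime] :
    min 2 (_root_.LocCoh.depth (Localization.AtPrime p) (Localization.AtPrime p)) ≤
      _root_.LocCoh.depth (Localization.AtPrime p) (LocalizedModule p.primeCompl M) := by
  let A := Localization.AtPrime p
  have := isReflexive_localization (M := M) p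
  rw [CAlgH3.depth_congr (Module.evalEquiv A (LocalizedModule p.primeCompl M))]
  exact min_two_depth_le_depth_hom (Module.Dual A (LocalizedModule p.primeCompl M)) A

theorem hasSk_two_of_isReflexive [Module.IsReflexive R M] (hR : _root_.LocCoh.HasSk 2 R R) :
    _root_.LocCoh.HasSk 2 R M := by
  intro p _
  refine le_trans ?_ (WithBot.coe_le_coe.2 (two_le_depth_of_isReflexive p))
  rw [WithBot.coe_min]
  exact le_min (min_le_left _ _) ((min_le_min_left _ (Module.supportDim_le_ringKrullDim _ _)).trans
    ((CAlgH3.hasSk_self_iff 2).1 hR p))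

theorem isReflexive_localization_of_dim_le_one [IsIntegrallyClosed R] [Module.IsTorsionFree R M] (p : Ideal R)
    [p.IsPrime] (hp : p.height ≤ 1) :
    Module.IsReflexive (Localization.AtPrime p) (LocalizedModule p.primeCompl M) := by
  let A := Localization.AtPrime p
  have : IsIntegrallyClosed A :=
    isIntegrallyClosed_of_isLocalization A p.primeCompl p.primeCompl_le_nonZeroDivisors
  have hreg : IsRegularLocalRing A := CAlgH3.isRegularLocalRing_of_normal_dim_le_one
    (by rw [IsLocalization.AtPrime.ringKrullDim_eq_height p A]; exact WithBot.coe_le_coe.2 hp)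
  have hpid : IsPrincipalIdealRing A := by
    refine ((tfae_of_isNoetherianRing_of_isLocalRing_of_isDomain A).out 3 0 rfl rfl).1
      ⟨inferInstance, fun P hP hP' => ?_⟩
    by_contra hne
    have hlt : P < maximalIdeal A := lt_of_le_of_ne (le_maximalIdeal hP'.ne_top) hne
    have h1 := Ideal.height_add_one_le_of_lt_of_isPrime (I := (⊥ : Ideal A)) (J := P) (bot_lt_iff_ne_bot.2 hP)
    have h2 := Ideal.height_add_one_le_of_lt_of_isPrime hlt
    have h3 : (maximalIdeal A).height ≤ 1 := by
      rw [← WithBot.coe_le_coe, maximalIdeal_height_eq_ringKrullDim,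
        IsLocalization.AtPrime.ringKrullDim_eq_height p A]
      exact WithBot.coe_le_coe.2 hp
    have h4 := ((add_le_add (le_add_self.trans h1) le_rfl).trans h2).trans h3
    exact absurd h4 (by decide)
  have : Module.Free A (LocalizedModule p.primeCompl M) := Module.free_of_finite_type_torsion_free'
  infer_instance

theorem isReflexive_iff_normal [IsIntegrallyClosed R] :
    Module.IsReflexive R M ↔ Module.IsTorsionFree R M ∧ _root_.LocCoh.HasSk 2 R M := by
  have hR : _root_.LocCoh.HasSk 2 R R := (CAlgH3.normal_localization_iff.1 fun p _ =>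
    ⟨inferInstance, isIntegrallyClosed_of_isLocalization _ p.primeCompl p.primeCompl_le_nonZeroDivisors⟩).2
  refine ⟨fun h => ⟨inferInstance, hasSk_two_of_isReflexive hR⟩, fun ⟨htf, hS⟩ => ?_⟩
  refine isReflexive_of_forall_depth fun p _ => ?_
  rcases le_or_gt p.height 1 with h1 | h1
  · exact Or.inl (isReflexive_localization_of_dim_le_one p h1)
  refine Or.inr ?_
  rcases subsingleton_or_nontrivial (LocalizedModule p.primeCompl M) with hs | hs
  · rw [CAlgH3.depth_eq_top_of_subsingleton (M := LocalizedModule p.primeCompl M)]; exact le_top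
  have h2 := hS p
  rw [supportDim_eq_of_support_eq_univ' (Localization.AtPrime p) (LocalizedModule p.primeCompl M),
    IsLocalization.AtPrime.ringKrullDim_eq_height p (Localization.AtPrime p)] at h2
  rw [← WithBot.coe_le_coe]
  refine le_trans ?_ h2
  refine le_min le_rfl (WithBot.coe_le_coe.2 ?_)
  rw [← one_add_one_eq_two]
  exact Order.add_one_le_of_lt h1
where
  supportDim_eq_of_support_eq_univ' (A : Type u) [CommRing A] [IsDomain A] (N : Type u) [AddCommGroup N]
      [Module A N] [Module.IsTorsionFree A N] [Nontrivial N] : Module.supportDim A N = ringKrullDim A := by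
    rw [Module.supportDim, Module.support_of_noZeroSMulDivisors]
    exact Order.krullDim_eq_of_orderIso OrderIso.Set.univ

theorem isReflexive_integralClosure [IsIntegrallyClosed R] (K L : Type u) [Field K] [Algebra R K]
    [IsFractionRing R K] [Field L] [Algebra K L] [Algebra R L] [IsScalarTower R K L]
    [Module.Finite R (integralClosure R L)] : Module.IsReflexive R (integralClosure R L) := by
  have hinj : Function.Injective (algebraMap R L) := by
    rw [IsScalarTower.algebraMap_eq R K L]
    exact (algebraMap K L).injective.comp (IsFractionRing.injective R K)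
  have htf : Module.IsTorsionFree R (integralClosure R L) := .of_smul_eq_zero fun r x hx => by
    have h1 : algebraMap R L r * (x : L) = 0 := by
      rw [← Algebra.smul_def]; exact congrArg Subtype.val hx
    exact (mul_eq_zero.1 h1).imp (fun h => (map_eq_zero_iff _ hinj).1 h) (fun h => Subtype.ext h)
  refine isReflexive_iff_divisible.2 ⟨htf, fun c m hc hdiv => ?_⟩
  have hcL : algebraMap R L c ≠ 0 := (map_ne_zero_iff _ hinj).2 hc
  let ξ : L := (m : L) / algebraMap R L c
  have hint : IsIntegral R ξ := by
    have hloc : ∀ (p : Ideal R) [p.IsPrime], p.height = 1 → ∀ i, ∃ (a s : R), s ∉ p ∧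
        (minpoly K ξ).coeff i * algebraMap R K s = algebraMap R K a := by
      intro p _ hp i
      have := isReflexive_localization_of_dim_le_one (M := integralClosure R L) p hp.le
      obtain ⟨s, hs, z, hz⟩ := exists_smul_eq_of_isReflexive p hc m hdiv
      let A := Localization.AtPrime p
      have : IsIntegrallyClosed A :=
        isIntegrallyClosed_of_isLocalization A p.primeCompl p.primeCompl_le_nonZeroDivisors
      letI : Algebra A K := (IsLocalization.lift (M := p.primeCompl) (g := algebraMap R K) fun y =>
        isUnit_iff_ne_zero.2 ((map_ne_zero_iff _ (IsFractionRing.injective R K)).2 fun h0 =>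
          y.2 (h0.symm ▸ zero_mem p))).toAlgebra
      have : IsScalarTower R A K := .of_algebraMap_eq fun r => (IsLocalization.lift_eq _ r).symm
      have : IsFractionRing A K := IsFractionRing.isFractionRing_of_isDomain_of_isLocalization p.primeCompl A K
      letI : Algebra A L := ((algebraMap K L).comp (algebraMap A K)).toAlgebra
      have : IsScalarTower A K L := .of_algebraMap_eq fun _ => rfl
      have : IsScalarTower R A L := .of_algebraMap_eq fun r => by
        rw [IsScalarTower.algebraMap_apply A K L, ← IsScalarTower.algebraMap_apply R A K,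
          ← IsScalarTower.algebraMap_apply]
      have hξ : IsIntegral A ξ := by
        have h1 : algebraMap R L s * ξ = (z : L) := by
          have h2 : algebraMap R L c * (z : L) = algebraMap R L s * (m : L) := by
            rw [← Algebra.smul_def, ← Algebra.smul_def]; exact congrArg Subtype.val hz
          rw [mul_div_assoc', div_eq_iff hcL, ← h2, mul_comm]
        obtain ⟨u, hu⟩ := IsLocalization.map_units A (⟨s, hs⟩ : p.primeCompl)
        have h3 : ξ = algebraMap A L (↑u⁻¹ : A) * (z : L) := by
          rw [← h1, IsScalarTower.algebraMap_apply R A L, ← mul_assoc, ← map_mul]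
          rw [show algebraMap R A s = (u : A) from hu.symm, Units.inv_mul, map_one, one_mul]
        rw [h3]
        exact isIntegral_algebraMap.mul (z.2.tower_top)
      have hmp := minpoly.isIntegrallyClosed_eq_field_fractions' K hξ
      obtain ⟨a, t, ha⟩ := IsLocalization.exists_mk'_eq p.primeCompl ((minpoly A ξ).coeff i)
      refine ⟨a, t, t.2, ?_⟩
      rw [hmp, Polynomial.coeff_map, ← ha, IsScalarTower.algebraMap_apply R A K, ← map_mul,
        IsLocalization.mk'_spec, ← IsScalarTower.algebraMap_apply]
    let e := FractionRing.algEquiv R K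
    have hlift : minpoly K ξ ∈ Polynomial.lifts (algebraMap R K) := by
      rw [Polynomial.lifts_iff_coeff_lifts]
      intro i
      obtain ⟨r, hr⟩ := mem_range_of_forall_height_one (e.symm ((minpoly K ξ).coeff i)) fun p _ hp => by
        obtain ⟨a, s, hs, h⟩ := hloc p hp i
        exact ⟨a, s, hs, by rw [← e.symm.commutes, ← map_mul, h, e.symm.commutes]⟩
      exact ⟨r, by rw [← e.commutes, hr, AlgEquiv.apply_symm_apply]⟩
    have hξK : IsIntegral K ξ := by
      show IsIntegral K ((m : L) / algebraMap R L c)
      rw [div_eq_mul_inv, IsScalarTower.algebraMap_apply R K L c, ← map_inv₀]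
      exact (m.2.tower_top).mul isIntegral_algebraMap
    obtain ⟨P, hP, -, hmonic⟩ := Polynomial.lifts_and_degree_eq_and_monic hlift (minpoly.monic hξK)
    exact ⟨P, hmonic, by rw [← Polynomial.aeval_def, ← Polynomial.aeval_map_algebraMap K, hP, minpoly.aeval]⟩
  refine ⟨⟨ξ, hint⟩, Subtype.ext ?_⟩
  show c • ξ = (m : L)
  rw [Algebra.smul_def, mul_div_cancel₀ _ hcL]

end Groth.Agent.CAlgMisc2
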