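import Groth.Agent.CAlgH.KrullAkizukiLength
import Mathlib

/-! Krull–Akizuki in finite extensions. -/
set_option autoImplicit false
universe u

namespace Groth.Agent.CAlgMisc2

variable {R : Type u} [CommRing R] [IsDomain R] [IsNoetherianRing R] [Ring.KrullDimLE 1 R]
  (K L : Type u) [Field K] [Field L] [Algebra R K] [IsFractionRing R K] [Algebra K L] [FiniteDimensional K L]
  [Algebra R L] [IsScalarTower R K L]
  (A : Type u) [CommRing A] [Algebra R A] [Algebra A L] [IsScalarTower R A L]

include R K L in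
theorem finite_quot (hA : Function.Injective (algebraMap A L)) (x : R) (hx : x ≠ 0) :
    Module.Finite R (A ⧸ (Ideal.span {x} • ⊤ : Submodule R A)) := by
  let e := (Module.finBasis K L).equivFun
  let φ : A →ₗ[R] (Fin (Module.finrank K L) → K) :=
    (e.toLinearMap.restrictScalars R).comp (IsScalarTower.toAlgHom R A L).toLinearMap
  have h := Groth.Agent.CAlgH.length_quot_ne_top (K := K) (r := Module.finrank K L) hx A φ (e.injective.comp hA)
  have h2 := (isFiniteLength_iff_isNoetherian_isArtinian.mp (Module.length_ne_top_iff.mp h)).1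
  exact inferInstance

include R K L in
theorem exists_ne_zero_mem (hA : Function.Injective (algebraMap A L)) {I : Ideal A} (hI : I ≠ ⊥) :
    ∃ x : R, x ≠ 0 ∧ algebraMap R A x ∈ I := by
  obtain ⟨a, haI, ha⟩ := Submodule.exists_mem_ne_zero_of_ne_bot hI
  have : IsDomain A := hA.isDomain _
  have h1 : IsAlgebraic K (algebraMap A L a) := Algebra.IsAlgebraic.isAlgebraic _
  have h2 : IsAlgebraic R a := (isAlgebraic_algHom_iff (IsScalarTower.toAlgHom R A L) hA).1
    ((IsFractionRing.isAlgebraic_iff R K L).2 h1)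
  obtain ⟨x, hx, hdvd⟩ := h2.exists_nonzero_dvd (mem_nonZeroDivisors_of_ne_zero ha)
  exact ⟨x, hx, I.mem_of_dvd hdvd haI⟩

include R K L in
theorem isNoetherianRing_of_between (hA : Function.Injective (algebraMap A L)) : IsNoetherianRing A := by
  classical
  refine (isNoetherianRing_iff_ideal_fg A).2 fun I => ?_
  by_cases hI : I = ⊥
  · exact hI ▸ Submodule.fg_bot
  obtain ⟨x, hx, hxI⟩ := exists_ne_zero_mem (R := R) K L A hA hI
  have := finite_quot K L A hA x hx
  have : IsNoetherian R (A ⧸ (Ideal.span {x} • ⊤ : Submodule R A)) := inferInstance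
  let xA : Submodule R A := Ideal.span {x} • ⊤
  obtain ⟨t, ht⟩ : ((I.restrictScalars R).map xA.mkQ).FG := IsNoetherian.noetherian _
  choose g hg hgq using fun q : t => (ht.le (Submodule.subset_span q.2) : (q : A ⧸ xA) ∈ (I.restrictScalars R).map xA.mkQ)
  let G : Finset A := insert (algebraMap R A x) (Finset.univ.image g)
  refine ⟨G, le_antisymm (Submodule.span_le.2 ?_) fun w hw => ?_⟩
  · intro z hz
    rcases Finset.mem_insert.1 hz with rfl | hz
    · exact hxI
    · obtain ⟨q, -, rfl⟩ := Finset.mem_image.1 hz; exact hg q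
  · let J : Ideal A := Ideal.span (G : Set A)
    show w ∈ J
    have h1 : xA.mkQ w ∈ (J.restrictScalars R).map xA.mkQ := by
      refine Submodule.span_le.2 ?_ (ht.ge ⟨w, hw, rfl⟩)
      intro q hq
      exact ⟨g ⟨q, hq⟩, Ideal.subset_span (Finset.mem_insert_of_mem (Finset.mem_image_of_mem g (Finset.mem_univ _))),
        hgq ⟨q, hq⟩⟩
    obtain ⟨j, hj, hjw⟩ := h1
    have h2 : j - w ∈ xA := (Submodule.Quotient.eq xA).1 hjw
    have h3 : xA ≤ J.restrictScalars R := by
      refine Submodule.smul_le.2 fun r hr a _ => ?_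
      obtain ⟨c, rfl⟩ := Ideal.mem_span_singleton'.1 hr
      show _ ∈ J
      rw [Algebra.smul_def, map_mul]
      exact J.mul_mem_right _ (J.mul_mem_left _ (Ideal.subset_span (Finset.mem_insert_self _ _)))
    rw [show w = j - (j - w) by abel]
    exact J.sub_mem hj (h3 h2)

end Groth.Agent.CAlgMisc2
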