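import Groth.Agent.HenselLib.PairHens
import Groth.Agent.HenselLib.PairNbhd
import Groth.Agent.HenselLib.Lift
import Groth.Agent.HenselLib.Idem
import Mathlib.LinearAlgebra.Matrix.Charpoly.Coeff
import Mathlib.LinearAlgebra.Matrix.Charpoly.Basic

/-! Descending solutions from the henselisation of a pair to etale neighbourhoods. -/

universe u v

open Polynomial CategoryTheory

namespace Groth.Agent.CAlgMisc2

open HenselLib

variable {R K : Type u} [CommRing R] [CommRing K] [Algebra R K]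

theorem exists_stage_finset (s : Finset (Hull R K)) : ∃ P : Pt R K, ∀ h ∈ s, ∃ x : P.Ring, ι P x = h := by
  classical
  induction s using Finset.induction_on with
  | empty => exact ⟨(exists_base (R := R) (K := K)).choose, by simp⟩
  | insert a s _ ih =>
    obtain ⟨P, hP⟩ := ih
    obtain ⟨Q, y, rfl⟩ := exists_rep a
    obtain ⟨S, f, g, -⟩ := IsFilteredOrEmpty.cocone_objs P Q
    refine ⟨S, fun h hh => ?_⟩
    rcases Finset.mem_insert.1 hh with rfl | hh
    · exact ⟨g.map y, ι_map g y⟩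
    · obtain ⟨x, rfl⟩ := hP h hh
      exact ⟨f.map x, ι_map f x⟩

theorem exists_stage_vanish (P : Pt R K) (s : Finset P.Ring) (hs : ∀ x ∈ s, ι P x = 0) :
    ∃ (S : Pt R K) (f : P ⟶ S), ∀ x ∈ s, f.map x = 0 := by
  classical
  induction s using Finset.induction_on with
  | empty => exact ⟨P, 𝟙 P, by simp⟩
  | insert a s _ ih =>
    obtain ⟨S, f, hf⟩ := ih fun x hx => hs x (Finset.mem_insert_of_mem hx)
    have ha : ι S (f.map a) = 0 := (ι_map f a).trans (hs a (Finset.mem_insert_self a s))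
    obtain ⟨T, g, hg⟩ := (exists_eq_zero_iff _).1 ha
    refine ⟨T, f ≫ g, fun x hx => ?_⟩
    rw [Pt.comp_map, AlgHom.comp_apply]
    rcases Finset.mem_insert.1 hx with rfl | hx
    · exact hg
    · rw [hf x hx, map_zero]

/-- A map from a finitely presented algebra to the henselisation of a pair factors through a
neighbourhood. -/
theorem exists_stage_hom {I : Ideal R} {T : Type u} [CommRing T] [Algebra R T] [Algebra.FinitePresentation R T]
    (φ : T →ₐ[R] PairH R I) :
    ∃ (Q : Pt R (R ⧸ I)) (ψ : T →ₐ[R] Q.Ring),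
      RingHom.ker Q.pt = I.map (algebraMap R Q.Ring) ∧ (ι Q).comp ψ = φ := by
  classical
  obtain ⟨n, π, hπ, r, hr⟩ := Algebra.FinitePresentation.out (R := R) (A := T)
  obtain ⟨P, hP⟩ := exists_stage_finset (Finset.univ.image fun i => φ (π (MvPolynomial.X i)))
  choose x hx using fun i => hP _ (Finset.mem_image_of_mem (fun i => φ (π (MvPolynomial.X i))) (Finset.mem_univ i))
  have hcomp : (ι P).comp (MvPolynomial.aeval x) = φ.comp π :=
    MvPolynomial.algHom_ext fun i => by simp [hx i]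
  obtain ⟨S, f, hf⟩ := exists_stage_vanish P (r.image (MvPolynomial.aeval x)) fun y hy => by
    obtain ⟨p, hp, rfl⟩ := Finset.mem_image.1 hy
    have h0 : π p = 0 := RingHom.mem_ker.1 (hr ▸ Ideal.subset_span hp)
    exact (AlgHom.congr_fun hcomp p).trans (by rw [AlgHom.comp_apply, h0, map_zero])
  obtain ⟨Q, g, hQ⟩ := exists_hom_nbhd I S
  let χ : MvPolynomial (Fin n) R →ₐ[R] Q.Ring := (g.map.comp f.map).comp (MvPolynomial.aeval x)
  have hχ : RingHom.ker π.toRingHom ≤ RingHom.ker χ.toRingHom := by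
    rw [← hr]
    refine Ideal.span_le.2 fun p hp => ?_
    show g.map (f.map (MvPolynomial.aeval x p)) = 0
    rw [hf _ (Finset.mem_image_of_mem _ hp), map_zero]
  let ψ : T →ₐ[R] Q.Ring :=
    (Ideal.Quotient.liftₐ (RingHom.ker π.toRingHom) χ fun p hp => RingHom.mem_ker.1 (hχ hp)).comp
      (Ideal.quotientKerAlgEquivOfSurjective hπ).symm.toAlgHom
  refine ⟨Q, ψ, hQ, AlgHom.ext fun t => ?_⟩
  obtain ⟨p, rfl⟩ := hπ t
  have hψ : ψ (π p) = χ p := by
    show (Ideal.Quotient.liftₐ (RingHom.ker π.toRingHom) χ fun p hp => RingHom.mem_ker.1 (hχ hp))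
      ((Ideal.quotientKerAlgEquivOfSurjective hπ).symm (π p)) = _
    rw [show (Ideal.quotientKerAlgEquivOfSurjective hπ).symm (π p) =
      Ideal.Quotient.mk (RingHom.ker π.toRingHom) p from (AlgEquiv.symm_apply_eq _).2 rfl]
    rfl
  rw [AlgHom.comp_apply, hψ]
  show ι Q (g.map (f.map (MvPolynomial.aeval x p))) = _
  rw [ι_map, ι_map]
  exact AlgHom.congr_fun hcomp p

theorem exists_stage_poly (s : Finset (Polynomial (Hull R K))) :
    ∃ P : Pt R K, ∀ q ∈ s, ∃ p : Polynomial P.Ring, p.map (ι P).toRingHom = q := by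
  classical
  obtain ⟨P, hP⟩ := exists_stage_finset (s.biUnion fun q => (Finset.range (q.natDegree + 1)).image q.coeff)
  refine ⟨P, fun q hq => ?_⟩
  have : q ∈ lifts (ι P).toRingHom := by
    rw [lifts_iff_coeff_lifts]
    intro n
    by_cases hn : n ≤ q.natDegree
    · obtain ⟨x, hx⟩ := hP (q.coeff n) (Finset.mem_biUnion.2 ⟨q, hq, Finset.mem_image.2 ⟨n, by simp; omega, rfl⟩⟩)
      exact ⟨x, hx⟩
    · exact ⟨0, by rw [map_zero, coeff_eq_zero_of_natDegree_lt (by omega)]⟩
  exact this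

theorem exists_stage_poly_vanish (P : Pt R K) (s : Finset (Polynomial P.Ring))
    (hs : ∀ p ∈ s, p.map (ι P).toRingHom = 0) :
    ∃ (S : Pt R K) (f : P ⟶ S), ∀ p ∈ s, p.map f.map.toRingHom = 0 := by
  classical
  obtain ⟨S, f, hf⟩ := exists_stage_vanish P (s.biUnion fun p => p.support.image p.coeff) fun x hx => by
    obtain ⟨p, hp, hx⟩ := Finset.mem_biUnion.1 hx
    obtain ⟨n, -, rfl⟩ := Finset.mem_image.1 hx
    have := congrArg (fun q => Polynomial.coeff q n) (hs p hp)
    simpa [coeff_map] using this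
  refine ⟨S, f, fun p hp => Polynomial.ext fun n => ?_⟩
  rw [coeff_map, coeff_zero]
  by_cases hn : n ∈ p.support
  · exact hf _ (Finset.mem_biUnion.2 ⟨p, hp, Finset.mem_image_of_mem _ hn⟩)
  · rw [notMem_support_iff.1 hn, map_zero]

/-- Coprime factorisations modulo `I` lift to an etale neighbourhood. -/
theorem exists_factor_nbhd (I : Ideal R) (f : R[X]) (hf : f.Monic) (g₀ h₀ : (R ⧸ I)[X]) (hg : g₀.Monic)
    (hh : h₀.Monic) (hco : IsCoprime g₀ h₀) (hfac : f.map (Ideal.Quotient.mk I) = g₀ * h₀) :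
    ∃ (Q : Pt R (R ⧸ I)) (g h : Q.Ring[X]), RingHom.ker Q.pt = I.map (algebraMap R Q.Ring) ∧
      g.Monic ∧ h.Monic ∧ IsCoprime g h ∧ f.map (algebraMap R Q.Ring) = g * h ∧
      g.map (Ideal.Quotient.mk (I.map (algebraMap R Q.Ring))) = g₀.map (quotθ I Q.Ring) ∧
      h.map (Ideal.Quotient.mk (I.map (algebraMap R Q.Ring))) = h₀.map (quotθ I Q.Ring) := by
  classical
  let H := PairH R I
  have hens : HenselianRing H (I.map (algebraMap R H)) := (isPairHull_pairH R I).1
  let θ := quotθ I H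
  obtain ⟨g, h, hgm, hhm, ⟨a, b, hab⟩, hgh, hg', hh'⟩ := exists_factor (I.map (algebraMap R H))
    (f.map (algebraMap R H)) (hf.map _) (g₀.map θ) (h₀.map θ) (hg.map _) (hh.map _)
    (hco.map (Polynomial.mapRingHom θ)) (by
      rw [← Polynomial.map_mul, ← hfac, Polynomial.map_map, Polynomial.map_map]
      congr 1)
  obtain ⟨P₁, hP₁⟩ := exists_stage_poly ({g, h, a, b} : Finset (Polynomial H))
  obtain ⟨a', ha'⟩ := hP₁ a (by simp)
  obtain ⟨b', hb'⟩ := hP₁ b (by simp)
  have hlg : g ∈ lifts (ι P₁).toRingHom := hP₁ g (by simp)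
  have hlh : h ∈ lifts (ι P₁).toRingHom := hP₁ h (by simp)
  obtain ⟨g', hgg, -, hgm'⟩ := lifts_and_natDegree_eq_and_monic hlg hgm
  obtain ⟨h', hhh, -, hhm'⟩ := lifts_and_natDegree_eq_and_monic hlh hhm
  have hcι : ∀ P : Pt R (R ⧸ I), (f.map (algebraMap R P.Ring)).map (ι P).toRingHom = f.map (algebraMap R H) :=
    fun P => by rw [Polynomial.map_map]; congr 1; exact (ι P).comp_algebraMap
  obtain ⟨S, c, hc⟩ := exists_stage_poly_vanish P₁
    {f.map (algebraMap R P₁.Ring) - g' * h', a' * g' + b' * h' - 1} (by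
    simp only [Finset.mem_insert, Finset.mem_singleton]
    rintro p (rfl | rfl)
    · rw [Polynomial.map_sub, hcι, Polynomial.map_mul, hgg, hhh, hgh, sub_self]
    · rw [Polynomial.map_sub, Polynomial.map_add, Polynomial.map_mul, Polynomial.map_mul, ha', hb', hgg, hhh,
        hab, Polynomial.map_one, sub_self])
  obtain ⟨Q, d, hQ⟩ := exists_hom_nbhd I S
  let m : P₁.Ring →+* Q.Ring := d.map.toRingHom.comp c.map.toRingHom
  have hzero : ∀ p ∈ ({f.map (algebraMap R P₁.Ring) - g' * h', a' * g' + b' * h' - 1} : Finset _), p.map m = 0 :=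
    fun p hp => by rw [← Polynomial.map_map, hc p hp, Polynomial.map_zero]
  have h1 := hzero _ (Finset.mem_insert_self _ _)
  have h2 := hzero _ (Finset.mem_insert_of_mem (Finset.mem_singleton_self _))
  have hm : m.comp (algebraMap R P₁.Ring) = algebraMap R Q.Ring := RingHom.ext fun r => by
    show d.map (c.map (algebraMap R P₁.Ring r)) = _
    rw [AlgHom.commutes, AlgHom.commutes]
  have hιm : (ι Q).toRingHom.comp m = (ι P₁).toRingHom := RingHom.ext fun x => by
    show ι Q (d.map (c.map x)) = ι P₁ x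
    rw [ι_map, ι_map]
  -- reductions agree because they agree after the injective map to `H ⧸ I H`
  have hred : ∀ (p : Q.Ring[X]) (q : H[X]) (q₀ : (R ⧸ I)[X]), p.map (ι Q).toRingHom = q →
      q.map (Ideal.Quotient.mk _) = q₀.map θ →
      p.map (Ideal.Quotient.mk (I.map (algebraMap R Q.Ring))) = q₀.map (quotθ I Q.Ring) := by
    intro p q q₀ hpq hq
    obtain ⟨r₀, hr₀⟩ := Polynomial.map_surjective (quotθ I Q.Ring) (bijective_quotθ_pt I hQ).2
      (p.map (Ideal.Quotient.mk (I.map (algebraMap R Q.Ring))))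
    let κ : Q.Ring ⧸ I.map (algebraMap R Q.Ring) →+* H ⧸ I.map (algebraMap R H) :=
      Ideal.quotientMap _ (ι Q).toRingHom fun x hx => mem_map_algHom (ι Q) I hx
    have hκ : κ.comp (quotθ I Q.Ring) = θ := Ideal.Quotient.ringHom_ext (RingHom.ext fun r => by
      show Ideal.Quotient.mk _ (ι Q (algebraMap R Q.Ring r)) = _
      rw [AlgHom.commutes]; rfl)
    have hθ : Function.Injective θ := (bijective_quotθ_of_ker I (hullPt R (R ⧸ I)) (ker_hullPt_pair R I)).1
    rw [← hr₀]
    congr 1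
    apply Polynomial.map_injective θ hθ
    rw [← hκ, ← Polynomial.map_map, hr₀, Polynomial.map_map,
      show κ.comp (Ideal.Quotient.mk _) = (Ideal.Quotient.mk _).comp (ι Q).toRingHom from Ideal.quotientMap_comp_mk _,
      ← Polynomial.map_map, hpq, hq, hκ]
  refine ⟨Q, g'.map m, h'.map m, hQ, hgm'.map _, hhm'.map _, ⟨a'.map m, b'.map m, ?_⟩, ?_, ?_, ?_⟩
  · rw [Polynomial.map_sub, sub_eq_zero, Polynomial.map_add, Polynomial.map_mul, Polynomial.map_mul,
      Polynomial.map_one] at h2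
    exact h2
  · rw [Polynomial.map_sub, sub_eq_zero, Polynomial.map_map, hm, Polynomial.map_mul] at h1
    exact h1
  · exact hred _ g _ (by rw [Polynomial.map_map, hιm]; exact hgg) hg'
  · exact hred _ h _ (by rw [Polynomial.map_map, hιm]; exact hhh) hh'

/-- An idempotent from a factorisation congruent to `X^d (X-1)^d`. -/
theorem exists_idempotent_of_factor {A : Type u} {B : Type v} {C : Type*} [CommRing A] [Ring B] [Algebra A B]
    [Ring C] (ρ : B →+* C) (J : Ideal A) (hJ : ∀ a ∈ J, ρ (algebraMap A B a) = 0)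
    {b : B} (hb : IsIdempotentElem (ρ b)) {d : ℕ} (hd : 1 ≤ d) {f g h : A[X]} (hfb : aeval b f = 0)
    (hfgh : f = g * h) (hco : IsCoprime g h) (hg : g.map (Ideal.Quotient.mk J) = X ^ d)
    (hh : h.map (Ideal.Quotient.mk J) = (X - 1) ^ d) :
    ∃ e : B, IsIdempotentElem e ∧ ρ e = ρ b := by
  obtain ⟨u, v, huv⟩ := hco
  have hcongr : ∀ p q : A[X], p.map (Ideal.Quotient.mk J) = q.map (Ideal.Quotient.mk J) →
      ρ (aeval b p) = ρ (aeval b q) := by
    intro p q hpq
    rw [← sub_eq_zero, ← map_sub, ← map_sub]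
    rw [← sub_eq_zero, ← Polynomial.map_sub] at hpq
    generalize p - q = w at hpq
    rw [aeval_eq_sum_range, map_sum]
    refine Finset.sum_eq_zero fun i _ => ?_
    rw [Algebra.smul_def, map_mul, hJ _ (Ideal.Quotient.eq_zero_iff_mem.1 (by
      have := congrArg (fun s => Polynomial.coeff s i) hpq
      simpa [coeff_map] using this)), zero_mul]
  obtain ⟨k, rfl⟩ : ∃ k, d = k + 1 := ⟨d - 1, by omega⟩
  have hgb : ρ (aeval b g) = ρ b := by
    rw [hcongr g (X ^ (k + 1)) (by simp [hg]), map_pow, aeval_X, map_pow, hb.pow_succ_eq]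
  have hhb : ρ b * ρ (aeval b h) = 0 := by
    rw [hcongr h ((X - 1) ^ (k + 1)) (by simp [hh]), map_pow, map_sub, aeval_X, map_one, map_pow, map_sub,
      map_one, pow_succ', ← mul_assoc, mul_sub, mul_one, hb.eq, sub_self, zero_mul]
  refine ⟨aeval b (u * g), ?_, ?_⟩
  · show _ * _ = _
    rw [← map_mul]
    have hid : u * g * (u * g) = u * g - u * v * f := by
      rw [hfgh]; linear_combination (u * g) * huv
    rw [hid, map_sub, map_mul _ (u * v) f, hfb, mul_zero, sub_zero]
  · have h1 : ρ (aeval b u) * ρ b + ρ (aeval b v) * ρ (aeval b h) = 1 := by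
      rw [← hgb, ← map_mul, ← map_mul, ← map_mul, ← map_mul, ← map_add, ← map_add, huv, map_one, map_one]
    have hcomm : ∀ p q : A[X], ρ (aeval b p) * ρ (aeval b q) = ρ (aeval b q) * ρ (aeval b p) := fun p q => by
      rw [← map_mul, ← map_mul, ← map_mul, ← map_mul, mul_comm]
    have h2 : ρ b * ρ (aeval b v) = ρ (aeval b v) * ρ b := by simpa using hcomm X v
    have h3 : ρ b * ρ (aeval b u) = ρ (aeval b u) * ρ b := by simpa using hcomm X u
    rw [map_mul, map_mul, hgb]
    calc ρ (aeval b u) * ρ b = ρ b * (ρ (aeval b u) * ρ b + ρ (aeval b v) * ρ (aeval b h)) := by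
          rw [mul_add, ← mul_assoc, h3, mul_assoc, hb.eq, ← mul_assoc, h2, mul_assoc, hhb, mul_zero, add_zero]
      _ = ρ b := by rw [h1, mul_one]

/-- A matrix idempotent modulo `I` is killed by a monic polynomial congruent to `X^d (X-1)^d`. -/
theorem exists_monic_annihilator_matrix (I : Ideal R) {n : ℕ} (M : Matrix (Fin n) (Fin n) R)
    (hM : (M * M - M).map (Ideal.Quotient.mk I) = 0) :
    ∃ (f : R[X]) (d : ℕ), f.Monic ∧ 1 ≤ d ∧ aeval M f = 0 ∧
      f.map (Ideal.Quotient.mk I) = X ^ d * (X - 1) ^ d := by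
  rcases subsingleton_or_nontrivial R with hR | hR
  · exact ⟨1, 1, monic_one, le_rfl, by rw [Subsingleton.elim (1 : R[X]) 0, map_zero], Subsingleton.elim _ _⟩
  let p := (M * M - M).charpoly
  have hp : p.Monic := Matrix.charpoly_monic _
  have hpa : aeval (M * M - M) p = 0 := Matrix.aeval_self_charpoly _
  have hX : (X * X - X : R[X]).Monic :=
    (monic_X.mul monic_X).sub_of_left (by rw [degree_mul' (by simp), degree_X]; decide)
  have hdeg : (X * X - X : R[X]).natDegree = 2 := by
    refine natDegree_eq_of_le_of_coeff_ne_zero (by compute_degree) ?_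
    simp [coeff_X]
  refine ⟨p.comp (X * X - X) * (X * X - X), n + 1, (hp.comp hX (by omega)).mul hX, by omega, ?_, ?_⟩
  · rw [map_mul, aeval_comp, map_sub, map_mul, aeval_X, hpa, zero_mul]
  · have hpm : p.map (Ideal.Quotient.mk I) = X ^ n := by
      rw [show p = (M * M - M).charpoly from rfl, ← Matrix.charpoly_map]
      rw [hM, Matrix.charpoly_zero, Fintype.card_fin]
    rw [Polynomial.map_mul, Polynomial.map_comp, hpm]
    simp only [X_pow_comp, Polynomial.map_sub, Polynomial.map_mul, map_X]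
    rw [show (X * X - X : (R ⧸ I)[X]) = X * (X - 1) by ring, ← mul_pow, pow_succ]

end Groth.Agent.CAlgMisc2
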