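import Groth.Prelude.Def_EGA4b
import Mathlib
import Groth.Agent.CommAlg6.NormalRingCrit

/-! Normal rings: transport, integral closedness, products. -/
universe u

namespace Groth.Agent.CAlgMisc2

theorem isNormalRing_of_equiv {R S : Type u} [CommRing R] [CommRing S] (e : R ≃+* S)
    (h : EGA4.IsNormalRing R) : EGA4.IsNormalRing S := by
  intro p hp
  let q := p.comap (e : R →+* S)
  have H : q.primeCompl.map e.toMonoidHom = p.primeCompl := by
    ext x
    constructor
    · rintro ⟨y, hy, rfl⟩; exact hy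
    · intro hx
      exact ⟨e.symm x, show e (e.symm x) ∉ p by rwa [e.apply_symm_apply], e.apply_symm_apply x⟩
  let E : Localization.AtPrime q ≃+* Localization.AtPrime p :=
    IsLocalization.ringEquivOfRingEquiv _ _ e H
  obtain ⟨h1, h2⟩ := h q
  haveI := h1
  exact ⟨MulEquiv.isDomain (Localization.AtPrime q) E.symm.toMulEquiv, IsIntegrallyClosed.of_equiv E⟩

theorem isIntegrallyClosedIn_of_isNormalRing {R : Type u} [CommRing R] (hR : EGA4.IsNormalRing R) :
    IsIntegrallyClosedIn R (FractionRing R) := by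
  have hinj := IsFractionRing.injective R (FractionRing R)
  rw [isIntegrallyClosedIn_iff]
  refine ⟨hinj, fun {x} hx => ?_⟩
  let B : Subalgebra R (FractionRing R) := ⊥
  have hB : EGA4.IsNormalRing B := isNormalRing_of_equiv (Algebra.botEquivOfInjective hinj).symm.toRingEquiv hR
  obtain ⟨y, hy⟩ := Algebra.mem_bot.1 (CommAlg6.mem_of_isIntegral_of_isNormalRing B hB hx.tower_top)
  exact ⟨y, hy⟩

theorem isNormalRing_pi {ι : Type u} [Finite ι] (A : ι → Type u) [∀ i, CommRing (A i)]
    (hA : ∀ i, EGA4.IsNormalRing (A i)) : EGA4.IsNormalRing (∀ i, A i) := by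
  intro p hp
  obtain ⟨i, q, hq⟩ := PrimeSpectrum.exists_comap_evalRingHom_eq (R := A) ⟨p, hp⟩
  obtain rfl : q.asIdeal.comap (Pi.evalRingHom A i) = p := congrArg PrimeSpectrum.asIdeal hq
  let E := RingEquiv.ofBijective _ (Localization.AtPrime.mapPiEvalRingHom_bijective q.asIdeal)
  obtain ⟨h1, h2⟩ := hA i q.asIdeal
  haveI := h1
  exact ⟨MulEquiv.isDomain (Localization.AtPrime q.asIdeal) E.toMulEquiv, IsIntegrallyClosed.of_equiv E.symm⟩

end Groth.Agent.CAlgMisc2
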