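import Mathlib
import Groth.Agent.FlatCrit.Tor

/-! Flatness from flatness modulo ideals: devissage. -/
universe u

namespace Groth.Agent.CAlgMisc2

open TensorProduct Function

variable {R : Type u} [CommRing R] {M : Type u} [AddCommGroup M] [Module R M]

theorem rTensor_restrictScalars_injective_iff {S : Type u} [CommRing S] [Algebra R S] {A B : Type u}
    [AddCommGroup A] [AddCommGroup B] [Module R A] [Module R B] [Module S A] [Module S B]
    [IsScalarTower R S A] [IsScalarTower R S B] (i : A →ₗ[S] B) :
    Injective ((i.restrictScalars R).rTensor M) ↔ Injective (i.rTensor (S ⊗[R] M)) := by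
  let eA := AlgebraTensorModule.cancelBaseChange R S S A M
  let eB := AlgebraTensorModule.cancelBaseChange R S S B M
  have hcomm : ∀ x, (i.restrictScalars R).rTensor M (eA x) = eB (i.rTensor _ x) := by
    intro x
    induction x with
    | zero => simp
    | add x y hx hy => simp only [map_add, hx, hy]
    | tmul a y =>
      induction y with
      | zero => simp
      | add x y hx hy => simp only [tmul_add, map_add, hx, hy]
      | tmul c m => simp [eA, eB]
  constructor
  · intro h x y hxy
    exact eA.injective (h (by rw [hcomm, hcomm, hxy]))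
  · intro h x y hxy
    obtain ⟨x, rfl⟩ := eA.surjective x
    obtain ⟨y, rfl⟩ := eA.surjective y
    rw [hcomm, hcomm] at hxy
    exact congrArg eA (h (eB.injective hxy))

theorem rTensor_injective_of_flat_baseChange {S : Type u} [CommRing S] [Algebra R S] {A B : Type u}
    [AddCommGroup A] [AddCommGroup B] [Module R A] [Module R B] [Module S A] [Module S B]
    [IsScalarTower R S A] [IsScalarTower R S B] [Module.Flat S (S ⊗[R] M)] (i : A →ₗ[S] B)
    (hi : Injective i) : Injective ((i.restrictScalars R).rTensor M) :=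
  (rTensor_restrictScalars_injective_iff i).2 (Module.Flat.rTensor_preserves_injective_linearMap i hi)

theorem flat_baseChange_of_injective (S : Type u) [CommRing S] [Algebra R S]
    (h : ∀ N : Ideal S, Injective ((N.subtype.restrictScalars R).rTensor M)) :
    Module.Flat S (S ⊗[R] M) := by
  rw [Module.Flat.iff_rTensor_injective']
  intro N
  exact (rTensor_restrictScalars_injective_iff (S := S) N.subtype).1 (h N)

theorem flat_quotient_of_quotFlat (I : Ideal R) (h : FlatCrit.QuotFlat R M I) :
    Module.Flat (R ⧸ I) ((R ⧸ I) ⊗[R] M) :=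
  flat_baseChange_of_injective (R ⧸ I) fun N => h _
    (fun r hr b => by
      obtain ⟨b, rfl⟩ := Ideal.Quotient.mk_surjective b
      rw [← Ideal.Quotient.mk_eq_mk, ← Submodule.Quotient.mk_smul, Submodule.Quotient.mk_eq_zero, smul_eq_mul]
      exact I.mul_mem_right _ hr)
    Subtype.val_injective

/-- Devissage step along a submodule `U` of the target with quotient killed by `I`. -/
theorem rTensor_injective_step {I : Ideal R} (hq : FlatCrit.QuotFlat R M I) {N T : Type u}
    [AddCommGroup N] [Module R N] [AddCommGroup T] [Module R T] (f : N →ₗ[R] T) (U : Submodule R T)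
    (hIU : ∀ r ∈ I, ∀ t : T, r • t ∈ U)
    (h1 : Injective (((f.comp (U.comap f).subtype).codRestrict U fun x => x.2).rTensor M))
    (h2 : Injective (U.subtype.rTensor M)) : Injective (f.rTensor M) := by
  rw [injective_iff_map_eq_zero]
  intro z hz
  let fb : (N ⧸ U.comap f) →ₗ[R] T ⧸ U := Submodule.mapQ _ _ f le_rfl
  have hfb : Injective fb := by
    rw [injective_iff_map_eq_zero]
    intro x
    obtain ⟨x, rfl⟩ := Submodule.Quotient.mk_surjective _ x
    simp [fb, Submodule.mapQ_apply, Submodule.Quotient.mk_eq_zero]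
  have hkill : ∀ r ∈ I, ∀ b : T ⧸ U, r • b = 0 := fun r hr b => by
    obtain ⟨b, rfl⟩ := Submodule.Quotient.mk_surjective _ b
    rw [← Submodule.Quotient.mk_smul, Submodule.Quotient.mk_eq_zero]
    exact hIU r hr b
  have hz' : (U.comap f).mkQ.rTensor M z = 0 := by
    apply hq fb hkill hfb
    rw [map_zero, ← LinearMap.comp_apply, ← LinearMap.rTensor_comp, show fb ∘ₗ (U.comap f).mkQ = U.mkQ ∘ₗ f from rfl,
      LinearMap.rTensor_comp, LinearMap.comp_apply, hz, map_zero]
  obtain ⟨w, rfl⟩ := (rTensor_exact M (LinearMap.exact_subtype_mkQ _) (Submodule.mkQ_surjective _) z).1 hz'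
  have : ((f.comp (U.comap f).subtype).codRestrict U fun x => x.2).rTensor M w = 0 := by
    apply h2
    rw [map_zero, ← LinearMap.comp_apply, ← LinearMap.rTensor_comp, LinearMap.subtype_comp_codRestrict,
      LinearMap.rTensor_comp, LinearMap.comp_apply, hz]
  rw [(injective_iff_map_eq_zero _).1 h1 w this, map_zero]

theorem flat_of_flat_baseChange_of_nilpotent {R' : Type u} [CommRing R'] [Algebra R R']
    (hinj : Injective (algebraMap R R')) (I : Ideal R) (hI : IsNilpotent I)
    (hq : FlatCrit.QuotFlat R M I) [Module.Flat R' (R' ⊗[R] M)] : Module.Flat R M := by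
  obtain ⟨n, hn⟩ := hI
  let T : ℕ → Ideal R' := fun k => (I ^ k).map (algebraMap R R')
  have hT : ∀ k, Injective (((T k).subtype.restrictScalars R).rTensor M) := fun k =>
    rTensor_injective_of_flat_baseChange (S := R') (T k).subtype Subtype.val_injective
  have key : ∀ j k, n ≤ k + j → ∀ (N : Type u) [AddCommGroup N] [Module R N] (f : N →ₗ[R] ((T k).restrictScalars R)),
      Injective f → Injective (f.rTensor M) := by
    intro j
    induction j with
    | zero =>
      intro k hk N _ _ f hf
      have hbot : T k = ⊥ := by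
        show (I ^ k).map _ = ⊥
        rw [show I ^ k = ⊥ from le_bot_iff.1 ((Ideal.pow_le_pow_right (by omega : n ≤ k)).trans (le_of_eq hn)), Ideal.map_bot]
      haveI : Subsingleton ((T k).restrictScalars R) :=
        ⟨fun a b => Subtype.ext (((Submodule.mem_bot R').1 (hbot ▸ a.2)).trans ((Submodule.mem_bot R').1 (hbot ▸ b.2)).symm)⟩
      haveI : Subsingleton N := hf.subsingleton
      exact injective_of_subsingleton _
    | succ j ih =>
      intro k hk N _ _ f hf
      have hle : (T (k + 1)).restrictScalars R ≤ (T k).restrictScalars R :=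
        Ideal.map_mono (Ideal.pow_le_pow_right k.le_succ)
      let U : Submodule R ((T k).restrictScalars R) := ((T (k + 1)).restrictScalars R).comap ((T k).restrictScalars R).subtype
      let e : U ≃ₗ[R] (T (k + 1)).restrictScalars R := Submodule.comapSubtypeEquivOfLe hle
      refine rTensor_injective_step hq f U ?_ ?_ ?_
      · intro r hr t
        show r • (t : R') ∈ T (k + 1)
        simp only [T, pow_succ', Ideal.map_mul, Algebra.smul_def]
        exact Ideal.mul_mem_mul (Ideal.mem_map_of_mem _ hr) t.2
      · have h := ih (k + 1) (by omega) _ (e.toLinearMap ∘ₗ (f.comp (U.comap f).subtype).codRestrict U fun x => x.2)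
          (e.injective.comp fun x y h => Subtype.ext (hf (congrArg Subtype.val h :)))
        rw [LinearMap.rTensor_comp, LinearMap.coe_comp] at h
        exact h.of_comp
      · have h : Injective ((((T (k + 1)).subtype.restrictScalars R) ∘ₗ e.toLinearMap).rTensor M) := by
          rw [LinearMap.rTensor_comp, LinearMap.coe_comp]
          exact (hT (k + 1)).comp (e.rTensor M).injective
        have h' : ((T (k + 1)).subtype.restrictScalars R) ∘ₗ e.toLinearMap =
            ((T k).subtype.restrictScalars R) ∘ₗ U.subtype := LinearMap.ext fun x => rfl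
        rw [h', LinearMap.rTensor_comp, LinearMap.coe_comp] at h
        exact h.of_comp
  rw [Module.Flat.iff_rTensor_injective']
  intro N
  have h0 : T 0 = ⊤ := by simp [T, Ideal.one_eq_top, Ideal.map_top]
  let ι : R →ₗ[R] ((T 0).restrictScalars R) :=
    (Algebra.linearMap R R').codRestrict _ fun r => by
      show algebraMap R R' r ∈ T 0
      rw [h0]; trivial
  have hι : Injective ι := fun x y h => hinj (congrArg Subtype.val h :)
  have := key n 0 (by omega) N (ι ∘ₗ N.subtype) (hι.comp Subtype.val_injective)
  rw [LinearMap.rTensor_comp, LinearMap.coe_comp] at this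
  exact this.of_comp

theorem flat_quotient_inf (I₁ I₂ : Ideal R) (h1 : FlatCrit.QuotFlat R M I₁) (h2 : FlatCrit.QuotFlat R M I₂) :
    Module.Flat (R ⧸ (I₁ ⊓ I₂)) ((R ⧸ (I₁ ⊓ I₂)) ⊗[R] M) := by
  let S := R ⧸ (I₁ ⊓ I₂)
  refine flat_baseChange_of_injective S fun N => ?_
  let U : Submodule R S := Submodule.map (I₁ ⊓ I₂).mkQ I₁
  have hU : ∀ x ∈ U, ∀ r ∈ I₂, r • x = 0 := by
    rintro _ ⟨a, ha, rfl⟩ r hr
    rw [← map_smul, Submodule.mkQ_apply, Submodule.Quotient.mk_eq_zero]
    exact ⟨I₁.smul_mem r ha, I₂.mul_mem_right a hr⟩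
  refine rTensor_injective_step h1 (N.subtype.restrictScalars R) U ?_ ?_ ?_
  · intro r hr t
    obtain ⟨t, rfl⟩ := Submodule.Quotient.mk_surjective _ t
    exact ⟨r • t, I₁.mul_mem_right t hr, rfl⟩
  · refine h2 _ (fun r hr b => Subtype.ext (hU b b.2 r hr)) ?_
    intro x y h
    exact Subtype.ext (Subtype.ext (congrArg Subtype.val h :))
  · let g : S →ₗ[R] R ⧸ I₂ := Submodule.factor inf_le_right
    have hg : Injective (g ∘ₗ U.subtype) := by
      rw [injective_iff_map_eq_zero]
      rintro ⟨_, a, ha, rfl⟩ h
      apply Subtype.ext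
      show (I₁ ⊓ I₂).mkQ a = 0
      rw [Submodule.mkQ_apply, Submodule.Quotient.mk_eq_zero]
      refine ⟨ha, ?_⟩
      exact (Submodule.Quotient.mk_eq_zero _).1 h
    have h := h2 (g ∘ₗ U.subtype) (fun r hr b => by
      obtain ⟨b, rfl⟩ := Submodule.Quotient.mk_surjective _ b
      rw [← Submodule.Quotient.mk_smul, Submodule.Quotient.mk_eq_zero]
      exact I₂.mul_mem_right b hr) hg
    rw [LinearMap.rTensor_comp, LinearMap.coe_comp] at h
    exact h.of_comp

end Groth.Agent.CAlgMisc2
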