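import Groth.Prelude.Def_Found
import Mathlib
import Groth.Agent.CAlgH.Catenary

/-! Catenarity is local. -/
universe u

namespace Groth.Agent.CAlgMisc2

open CAlg TensorProduct

theorem exists_orderEmbedding_of_isLocalization {R : Type u} [CommRing R] (S : Submonoid R) (A : Type u)
    [CommRing A] [Algebra R A] [IsLocalization S A] :
    ∃ e : PrimeSpectrum A ↪o PrimeSpectrum R, ∀ x : PrimeSpectrum R,
      (∃ y, e y = x) ↔ Disjoint (S : Set R) x.asIdeal := by
  refine ⟨OrderEmbedding.ofMapLEIff (PrimeSpectrum.comap (algebraMap R A)) fun a b => ⟨fun h => ?_, fun h => Ideal.comap_mono h⟩, fun x => ?_⟩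
  · have h' := Ideal.map_mono (f := algebraMap R A) (show a.asIdeal.comap (algebraMap R A) ≤ b.asIdeal.comap (algebraMap R A) from h)
    rwa [IsLocalization.map_comap S, IsLocalization.map_comap S] at h'
  · have := Set.ext_iff.1 (PrimeSpectrum.localization_comap_range A S) x
    simpa using this

theorem isCatenary_of_isLocalization {R : Type u} [CommRing R] (S : Submonoid R) (A : Type u) [CommRing A]
    [Algebra R A] [IsLocalization S A] (hR : CAlg.IsCatenary R) : CAlg.IsCatenary A := by
  obtain ⟨e, he⟩ := exists_orderEmbedding_of_isLocalization S A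
  exact CAlgH.isCatenary_of_embedding e (fun a b x _ hx => (he x).2 (((he (e b)).1 ⟨b, rfl⟩).mono_right hx)) hR

theorem isCatenary_of_forall_maximal {R : Type u} [CommRing R]
    (h : ∀ (m : Ideal R) [m.IsMaximal], CAlg.IsCatenary (Localization.AtPrime m)) : CAlg.IsCatenary R := by
  have key : ∀ q : PrimeSpectrum R, ∃ (A : Type u) (_ : CommRing A) (_ : CAlg.IsCatenary A)
      (e : PrimeSpectrum A ↪o PrimeSpectrum R), ∀ x, x ≤ q → ∃ y, e y = x := by
    intro q
    obtain ⟨m, hm, hqm⟩ := Ideal.exists_le_maximal q.asIdeal q.isPrime.ne_top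
    obtain ⟨e, he⟩ := exists_orderEmbedding_of_isLocalization m.primeCompl (Localization.AtPrime m)
    refine ⟨_, inferInstance, h m, e, fun x hx => (he x).2 ?_⟩
    exact Set.disjoint_left.2 fun r hr hrx => hr (hqm (hx hrx))
  have lift : ∀ {A : Type u} [CommRing A] (e : PrimeSpectrum A ↪o PrimeSpectrum R) (q : PrimeSpectrum R),
      (∀ x, x ≤ q → ∃ y, e y = x) → ∀ s : LTSeries (PrimeSpectrum R), s.last = q →
        ∃ s' : LTSeries (PrimeSpectrum A), s'.map e e.strictMono = s := by
    intro A _ e q he s hs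
    choose f hf using fun i : Fin (s.length + 1) => he (s i) (hs ▸ s.monotone (Fin.le_last i))
    refine ⟨LTSeries.mk s.length f fun i j hij => e.lt_iff_lt.1 (by rw [hf, hf]; exact s.strictMono hij), ?_⟩
    refine RelSeries.ext rfl (funext fun i => ?_)
    exact hf i
  refine ⟨fun p q hpq => ?_, fun s t hh hl hs ht => ?_⟩
  · obtain ⟨A, _, hA, e, he⟩ := key q
    obtain ⟨p', rfl⟩ := he p hpq
    obtain ⟨q', rfl⟩ := he q le_rfl
    obtain ⟨n, hn⟩ := hA.1 p' q' (e.le_iff_le.1 hpq)
    refine ⟨n, fun s h1 h2 => ?_⟩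
    obtain ⟨s', rfl⟩ := lift e _ he s h2
    simp only [LTSeries.head_map, LTSeries.last_map, e.injective.eq_iff] at h1 h2
    exact hn s' h1 h2
  · obtain ⟨A, _, hA, e, he⟩ := key s.last
    obtain ⟨s', rfl⟩ := lift e _ he s rfl
    obtain ⟨t', rfl⟩ := lift e _ he t hl.symm
    simp only [LTSeries.head_map, LTSeries.last_map, e.injective.eq_iff] at hh hl
    exact hA.2 s' t' hh hl (fun i => CovBy.of_image e (hs i)) (fun i => CovBy.of_image e (ht i))

theorem isUniversallyCatenary_localization {R : Type u} [CommRing R] (M : Submonoid R) (A : Type u) [CommRing A]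
    [Algebra R A] [IsLocalization M A] (hR : CAlg.IsUniversallyCatenary R) : CAlg.IsUniversallyCatenary A := by
  classical
  haveI := hR.1
  refine ⟨IsLocalization.isNoetherianRing M A inferInstance, fun S _ _ hS => ?_⟩
  letI : Algebra R S := ((algebraMap A S).comp (algebraMap R A)).toAlgebra
  haveI : IsScalarTower R A S := IsScalarTower.of_algebraMap_eq fun _ => rfl
  obtain ⟨g, hg⟩ := hS.out
  let S0 : Subalgebra R S := Algebra.adjoin R (g : Set S)
  let M' : Submonoid S0 := Algebra.algebraMapSubmonoid S0 M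
  have hmem : ∀ x : S, ∃ m ∈ M, algebraMap R S m * x ∈ S0 := by
    intro x
    have hx : x ∈ Algebra.adjoin A (g : Set S) := hg ▸ Algebra.mem_top
    induction hx using Algebra.adjoin_induction with
    | mem x hx => exact ⟨1, M.one_mem, by simpa using Algebra.subset_adjoin hx⟩
    | algebraMap a =>
      obtain ⟨⟨r, m⟩, hrm⟩ := IsLocalization.surj M a
      refine ⟨m, m.2, ?_⟩
      rw [IsScalarTower.algebraMap_apply R A S, ← map_mul, mul_comm, hrm, ← IsScalarTower.algebraMap_apply]
      exact S0.algebraMap_mem r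
    | add x y _ _ hx hy =>
      obtain ⟨m, hm, hm'⟩ := hx
      obtain ⟨n, hn, hn'⟩ := hy
      refine ⟨m * n, M.mul_mem hm hn, ?_⟩
      rw [map_mul, show algebraMap R S m * algebraMap R S n * (x + y) =
        algebraMap R S n * (algebraMap R S m * x) + algebraMap R S m * (algebraMap R S n * y) by ring]
      exact S0.add_mem (S0.mul_mem (S0.algebraMap_mem n) hm') (S0.mul_mem (S0.algebraMap_mem m) hn')
    | mul x y _ _ hx hy =>
      obtain ⟨m, hm, hm'⟩ := hx
      obtain ⟨n, hn, hn'⟩ := hy
      refine ⟨m * n, M.mul_mem hm hn, ?_⟩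
      rw [map_mul, show algebraMap R S m * algebraMap R S n * (x * y) =
        (algebraMap R S m * x) * (algebraMap R S n * y) by ring]
      exact S0.mul_mem hm' hn'
  haveI : IsLocalization M' S := by
    refine ⟨?_, fun x => ?_, fun {x y} h => ⟨1, ?_⟩⟩
    · rintro ⟨_, m, hm, rfl⟩
      show IsUnit (algebraMap R S m)
      rw [IsScalarTower.algebraMap_apply R A S]
      exact (IsLocalization.map_units A ⟨m, hm⟩).map (algebraMap A S)
    · obtain ⟨m, hm, hmx⟩ := hmem x
      exact ⟨⟨⟨_, hmx⟩, ⟨algebraMap R S0 m, Algebra.mem_algebraMapSubmonoid_of_mem ⟨m, hm⟩⟩⟩, mul_comm _ _⟩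
    · simpa using Subtype.ext h
  refine isCatenary_of_isLocalization M' S (hR.2 S0 ?_)
  exact (Subalgebra.fg_iff_finiteType S0).1 ⟨g, rfl⟩

theorem isUniversallyCatenary_of_forall_maximal {R : Type u} [CommRing R] [IsNoetherianRing R]
    (h : ∀ (m : Ideal R) [m.IsMaximal], CAlg.IsUniversallyCatenary (Localization.AtPrime m)) :
    CAlg.IsUniversallyCatenary R := by
  refine ⟨inferInstance, fun S _ _ hS => isCatenary_of_forall_maximal fun Mx hMx => ?_⟩
  obtain ⟨m, hm, hpm⟩ := Ideal.exists_le_maximal (Mx.comap (algebraMap R S)) (Ideal.IsPrime.comap _).ne_top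
  let Rm := Localization.AtPrime m
  let Sm := Localization (Algebra.algebraMapSubmonoid S m.primeCompl)
  have hle : Algebra.algebraMapSubmonoid S m.primeCompl ≤ Mx.primeCompl := by
    rintro _ ⟨r, hr, rfl⟩
    exact fun hr' => hr (hpm hr')
  haveI : Algebra.FiniteType Rm Sm := by
    haveI := hS
    exact Algebra.FiniteType.equiv (inferInstance : Algebra.FiniteType Rm (Rm ⊗[R] S)) (Localization.tensorRightAlgEquiv m.primeCompl S)
  have hcat : CAlg.IsCatenary Sm := (h m).2 Sm inferInstance
  letI := IsLocalization.localizationAlgebraOfSubmonoidLe Sm (Localization.AtPrime Mx) _ _ hle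
  haveI := IsLocalization.localization_isScalarTower_of_submonoid_le Sm (Localization.AtPrime Mx) _ _ hle
  haveI := IsLocalization.isLocalization_of_submonoid_le Sm (Localization.AtPrime Mx) _ _ hle
  exact isCatenary_of_isLocalization (Mx.primeCompl.map (algebraMap S Sm)) (Localization.AtPrime Mx) hcat

end Groth.Agent.CAlgMisc2
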