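import Mathlib
import Groth.Agent.CAlgMisc2.TorsionFree

/-! Associated primes of a tensor product with a flat module. -/
universe u

namespace Groth.Agent.CAlgMisc2
set_option linter.all false

open TensorProduct Function Submodule

variable {R S : Type u} [CommRing R] [CommRing S] [Algebra R S] {M N : Type u}
  [AddCommGroup M] [Module R M] [AddCommGroup N] [Module S N] [Module R N] [IsScalarTower R S N]

/-- The radical of the annihilator of an element. -/
abbrev radAnn (S : Type u) [CommRing S] {X : Type u} [AddCommGroup X] [Module S X] (x : X) : Ideal S :=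
  (colon (⊥ : Submodule S X) {x}).radical

theorem mem_radAnn {X : Type u} [AddCommGroup X] [Module S X] {x : X} {s : S} :
    s ∈ radAnn S x ↔ ∃ n : ℕ, s ^ n • x = 0 := by
  simp [radAnn, Ideal.mem_radical_iff, Submodule.mem_colon_singleton]

theorem radAnn_map {X Y : Type u} [AddCommGroup X] [Module S X] [AddCommGroup Y] [Module S Y]
    (f : X →ₗ[S] Y) (hf : Injective f) (x : X) : radAnn S (f x) = radAnn S x := by
  ext s
  simp only [mem_radAnn, ← map_smul, map_eq_zero_iff f hf]

theorem radAnn_smul {X : Type u} [AddCommGroup X] [Module S X] {x : X} {Q : Ideal S} [Q.IsPrime]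
    (hQ : radAnn S x = Q) {s : S} (hs : s ∉ Q) : radAnn S (s • x) = Q := by
  ext t
  rw [mem_radAnn]
  constructor
  · rintro ⟨n, hn⟩
    have : t ^ n * s ∈ Q := hQ ▸ mem_radAnn.2 ⟨1, by rw [pow_one, mul_smul]; exact hn⟩
    exact Ideal.IsPrime.mem_of_pow_mem ‹_› n ((Ideal.IsPrime.mem_or_mem ‹_› this).resolve_right hs)
  · intro ht
    rw [← hQ, mem_radAnn] at ht
    obtain ⟨n, hn⟩ := ht
    exact ⟨n, by rw [smul_comm, hn, smul_zero]⟩

/-- `N ⊗ f` as an `S`-linear map. -/
noncomputable abbrev tmap {A B : Type u} [AddCommGroup A] [Module R A] [AddCommGroup B] [Module R B]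
    (f : A →ₗ[R] B) : N ⊗[R] A →ₗ[S] N ⊗[R] B :=
  AlgebraTensorModule.lTensor S N f

theorem tmap_injective [Module.Flat R N] {A B : Type u} [AddCommGroup A] [Module R A] [AddCommGroup B]
    [Module R B] (f : A →ₗ[R] B) (hf : Injective f) : Injective (tmap (S := S) (N := N) f) :=
  Module.Flat.lTensor_preserves_injective_linearMap f hf

theorem exists_killed_by_prime [IsNoetherianRing R] [Module.Flat R N] {Q : Ideal S} [Q.IsPrime]
    (x : N ⊗[R] M) (hx : radAnn S x = Q) :
    ∃ y : N ⊗[R] M, radAnn S y = Q ∧ ∀ a ∈ Q.comap (algebraMap R S), algebraMap R S a • y = 0 := by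
  classical
  set p := Q.comap (algebraMap R S)
  obtain ⟨k, hk⟩ : ∃ k, ∀ a ∈ p ^ k, algebraMap R S a • x = 0 := by
    let J : Ideal R := (colon (⊥ : Submodule S (N ⊗[R] M)) {x}).comap (algebraMap R S)
    have hp : p ≤ J.radical := fun a ha => by
      obtain ⟨n, hn⟩ := mem_radAnn.1 (hx ▸ (show algebraMap R S a ∈ Q from ha) : algebraMap R S a ∈ radAnn S x)
      refine ⟨n, ?_⟩
      show algebraMap R S (a ^ n) ∈ colon _ _
      rw [Submodule.mem_colon_singleton, map_pow, Submodule.mem_bot]
      exact hn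
    obtain ⟨k, hk⟩ := Ideal.exists_pow_le_of_le_radical_of_fg hp (IsNoetherian.noetherian p)
    exact ⟨k, fun a ha => by
      have h1 : algebraMap R S a ∈ colon (⊥ : Submodule S (N ⊗[R] M)) {x} := hk ha
      rwa [Submodule.mem_colon_singleton, Submodule.mem_bot] at h1⟩
  induction k generalizing x with
  | zero =>
    exfalso
    have h1 := hk 1 (by simp)
    rw [map_one, one_smul] at h1
    exact Ideal.IsPrime.ne_top ‹_› (hx ▸ (Ideal.eq_top_iff_one _).2 (mem_radAnn.2 ⟨1, by rw [h1, smul_zero]⟩))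
  | succ k ih =>
    obtain ⟨G, hG⟩ := IsNoetherian.noetherian p
    by_cases hall : ∀ g ∈ G, ∃ s, s ∉ Q ∧ s • (algebraMap R S g • x) = 0
    · choose! s hs hs0 using hall
      let σ := ∏ g ∈ G, s g
      have hσ : σ ∉ Q := fun h => by
        obtain ⟨g, hg, hgQ⟩ := (Ideal.IsPrime.prod_mem_iff (hp := ‹Q.IsPrime›)).1 h
        exact hs g hg hgQ
      refine ⟨σ • x, radAnn_smul hx hσ, fun a ha => ?_⟩
      rw [← hG] at ha
      induction ha using Submodule.span_induction with
      | mem g hg =>
        obtain ⟨t, ht⟩ := Finset.dvd_prod_of_mem s (Finset.mem_coe.1 hg)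
        show algebraMap R S g • σ • x = 0
        rw [show σ = s g * t from ht, smul_comm, mul_comm, mul_smul, hs0 g hg, smul_zero]
      | zero => rw [map_zero, zero_smul]
      | add a b _ _ ha hb => rw [map_add, add_smul, ha, hb, add_zero]
      | smul r a _ ha => rw [smul_eq_mul, map_mul, mul_smul, ha, smul_zero]
    · push Not at hall
      obtain ⟨g, hg, hgs⟩ := hall
      refine ih (algebraMap R S g • x) ?_ fun a ha => ?_
      · refine le_antisymm (fun t ht => ?_) (fun t ht => ?_)
        · by_contra htQ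
          obtain ⟨n, hn⟩ := mem_radAnn.1 ht
          exact hgs _ (fun h => htQ (Ideal.IsPrime.mem_of_pow_mem ‹_› n h)) hn
        · rw [← hx, mem_radAnn] at ht
          obtain ⟨n, hn⟩ := ht
          exact mem_radAnn.2 ⟨n, by rw [smul_comm, hn, smul_zero]⟩
      · rw [← mul_smul, ← map_mul]
        exact hk _ (by rw [pow_succ]; exact Ideal.mul_mem_mul ha (hG ▸ Submodule.subset_span hg))

theorem exists_component {ι : Type} [Fintype ι] {X Y : Type u} [AddCommGroup X] [Module S X] [AddCommGroup Y]
    [Module S Y] (f : ι → X →ₗ[S] Y) (hf : ∀ x, (∀ i, f i x = 0) → x = 0) {Q : Ideal S} [Q.IsPrime]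
    {x : X} (hx : radAnn S x = Q) : ∃ i, radAnn S (f i x) = Q := by
  classical
  by_contra hcon
  push Not at hcon
  have h : ∀ i, ∃ s, s ∉ Q ∧ s • f i x = 0 := fun i => by
    by_contra hh
    push Not at hh
    refine hcon i (le_antisymm (fun t ht => ?_) fun t ht => ?_)
    · by_contra htQ
      obtain ⟨n, hn⟩ := mem_radAnn.1 ht
      exact hh _ (fun h => htQ (Ideal.IsPrime.mem_of_pow_mem ‹_› n h)) hn
    · rw [← hx, mem_radAnn] at ht
      obtain ⟨n, hn⟩ := ht
      exact mem_radAnn.2 ⟨n, by rw [← map_smul, hn, map_zero]⟩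
  choose s hs hs0 using h
  have hσ : (∏ i, s i) ∉ Q := fun h => by
    obtain ⟨i, -, hi⟩ := (Ideal.IsPrime.prod_mem_iff (hp := ‹Q.IsPrime›)).1 h
    exact hs i hi
  refine hσ (hx ▸ mem_radAnn.2 ⟨1, ?_⟩)
  rw [pow_one]
  refine hf _ fun i => ?_
  obtain ⟨t, ht⟩ := Finset.dvd_prod_of_mem s (Finset.mem_univ i)
  rw [map_smul, ht, mul_comm, mul_smul, hs0, smul_zero]

/-- `N ⊗ R/p` is `N/pN`. -/
noncomputable def tensorQuotEquiv (p : Ideal R) :
    (N ⊗[R] (R ⧸ p)) ≃ₗ[S] N ⧸ p.map (algebraMap R S) • (⊤ : Submodule S N) := by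
  classical
  let P := p.map (algebraMap R S) • (⊤ : Submodule S N)
  let back : N →ₗ[S] N ⊗[R] (R ⧸ p) :=
    { toFun := fun n => n ⊗ₜ (1 : R ⧸ p)
      map_add' := fun a b => add_tmul a b _
      map_smul' := fun s n => rfl }
  have hback : P ≤ LinearMap.ker back := by
    rw [Submodule.smul_le]
    intro r hr n _
    induction hr using Submodule.span_induction generalizing n with
    | mem r hr =>
      obtain ⟨a, ha, rfl⟩ := hr
      show (algebraMap R S a • n) ⊗ₜ (1 : R ⧸ p) = (0 : N ⊗[R] (R ⧸ p))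
      rw [algebraMap_smul, smul_tmul, Algebra.smul_def, Ideal.Quotient.algebraMap_eq,
        Ideal.Quotient.eq_zero_iff_mem.2 ha, zero_mul, tmul_zero]
    | zero => simp
    | add a b _ _ ha hb => rw [add_smul]; exact add_mem (ha n trivial) (hb n trivial)
    | smul c a _ ha => rw [smul_assoc]; exact Submodule.smul_mem _ _ (ha n trivial)
  let fwd0 : N →ₗ[S] (R ⧸ p) →ₗ[R] N ⧸ P :=
    { toFun := fun n => p.liftQ (LinearMap.toSpanSingleton R (N ⧸ P) (Submodule.Quotient.mk n)) (fun r hr => by
        rw [LinearMap.mem_ker, LinearMap.toSpanSingleton_apply, ← Submodule.Quotient.mk_smul, Submodule.Quotient.mk_eq_zero,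
          ← algebraMap_smul S r n]
        exact Submodule.smul_mem_smul (Ideal.mem_map_of_mem _ hr) trivial)
      map_add' := fun a b => by
        refine LinearMap.ext fun q => ?_
        obtain ⟨r, rfl⟩ := Submodule.Quotient.mk_surjective p q
        show r • (Submodule.Quotient.mk (a + b) : N ⧸ P) = r • Submodule.Quotient.mk a + r • Submodule.Quotient.mk b
        rw [Submodule.Quotient.mk_add, smul_add]
      map_smul' := fun s n => by
        refine LinearMap.ext fun q => ?_
        obtain ⟨r, rfl⟩ := Submodule.Quotient.mk_surjective p q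
        show r • (Submodule.Quotient.mk (s • n) : N ⧸ P) = s • r • Submodule.Quotient.mk n
        rw [Submodule.Quotient.mk_smul, smul_comm] }
  refine LinearEquiv.ofLinear (AlgebraTensorModule.lift fwd0) (P.liftQ back hback) ?_ ?_
  · refine Submodule.linearMap_qext _ (LinearMap.ext fun n => ?_)
    show AlgebraTensorModule.lift fwd0 (n ⊗ₜ (1 : R ⧸ p)) = Submodule.Quotient.mk n
    rw [AlgebraTensorModule.lift_apply, TensorProduct.lift.tmul]
    show p.liftQ _ _ (Submodule.Quotient.mk 1) = _
    rw [Submodule.liftQ_apply, LinearMap.toSpanSingleton_apply, one_smul]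
  · refine AlgebraTensorModule.ext fun n q => ?_
    obtain ⟨r, rfl⟩ := Submodule.Quotient.mk_surjective p q
    show P.liftQ back hback (r • Submodule.Quotient.mk n) = n ⊗ₜ Submodule.Quotient.mk r
    rw [← Submodule.Quotient.mk_smul, Submodule.liftQ_apply]
    show (r • n) ⊗ₜ (1 : R ⧸ p) = _
    rw [smul_tmul, Algebra.smul_def, mul_one]
    rfl

theorem associatedPrimes_tensor [IsNoetherianRing R] [Module.Flat R N] :
    associatedPrimes S (N ⊗[R] M) =
      ⋃ p ∈ associatedPrimes R M, associatedPrimes S (N ⧸ p.map (algebraMap R S) • (⊤ : Submodule S N)) := by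
  classical
  ext Q
  simp only [Set.mem_iUnion]
  constructor
  · rintro ⟨hQ, x₀, hx₀⟩
    obtain ⟨k, n₀, m₀, hxsum⟩ := TensorProduct.exists_sum_tmul_eq x₀
    let M₀ := Submodule.span R (Set.range m₀)
    haveI : Module.Finite R M₀ := Module.Finite.iff_fg.2 (Submodule.fg_span (Set.finite_range m₀))
    let x₁ : N ⊗[R] M₀ := ∑ i, n₀ i ⊗ₜ ⟨m₀ i, Submodule.subset_span ⟨i, rfl⟩⟩
    have hx₁ : radAnn S x₁ = Q := by
      rw [← radAnn_map _ (tmap_injective (S := S) (N := N) M₀.subtype Subtype.val_injective) x₁]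
      convert hx₀.symm
      simp [x₁, hxsum, tmap]
    obtain ⟨y, hy, hyp⟩ := exists_killed_by_prime x₁ hx₁
    set p := Q.comap (algebraMap R S) with hp
    haveI : p.IsPrime := Ideal.comap_isPrime _ _
    obtain ⟨g, g', hg'⟩ := Submodule.fg_iff_exists_fin_generating_family.1 (IsNoetherian.noetherian p)
    let Φ : M₀ →ₗ[R] (Fin g → M₀) := LinearMap.pi fun i => g' i • LinearMap.id
    have hΦ : ∀ (z : N ⊗[R] M₀) (i : Fin g),
        TensorProduct.piRight R R N (fun _ => M₀) (Φ.lTensor N z) i = g' i • z := by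
      intro z i
      induction z with
      | zero => simp
      | add a b ha hb => simp only [map_add, Pi.add_apply, ha, hb, smul_add]
      | tmul n m => simp [Φ, tmul_smul]
    have hz : Φ.lTensor N y = 0 := (TensorProduct.piRight R R N (fun _ => M₀)).map_eq_zero_iff.1 (funext fun i => by
      rw [hΦ, Pi.zero_apply, ← algebraMap_smul S (g' i) y]
      exact hyp _ (hg' ▸ Submodule.subset_span ⟨i, rfl⟩))
    obtain ⟨y', rfl⟩ := ((Module.Flat.lTensor_exact N (LinearMap.exact_subtype_ker_map Φ)) y).1 hz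
    let W := LinearMap.ker Φ
    have hy' : radAnn S y' = Q := (radAnn_map _ (tmap_injective (S := S) (N := N) W.subtype Subtype.val_injective) y').symm.trans hy
    have hWp : Module.IsTorsionBySet R W p := by
      rintro ⟨w, hw⟩ ⟨r, hr⟩
      have hr' : r ∈ Submodule.span R (Set.range g') := hg'.symm ▸ hr
      show r • (⟨w, hw⟩ : W) = 0
      clear hr
      induction hr' using Submodule.span_induction with
      | mem r hr =>
        obtain ⟨i, rfl⟩ := hr
        exact Subtype.ext (congrFun (LinearMap.mem_ker.1 hw) i)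
      | zero => exact zero_smul _ _
      | add a b _ _ ha hb => rw [add_smul, ha, hb, add_zero]
      | smul c a _ ha => rw [smul_assoc, ha, smul_zero]
    haveI : Module.Finite R W := Module.Finite.iff_fg.2 (IsNoetherian.noetherian W)
    obtain ⟨c, hc, n, h, h', hh'⟩ : ∃ c, c ∉ p ∧ ∃ (n : ℕ) (h : W →ₗ[R] (Fin n → R ⧸ p))
        (h' : (Fin n → R ⧸ p) →ₗ[R] W), ∀ w, h' (h w) = c • w := by
      letI := hWp.module
      haveI : IsScalarTower R (R ⧸ p) W := hWp.isScalarTower
      haveI : Module.Finite (R ⧸ p) W := Module.Finite.of_restrictScalars_finite R _ _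
      obtain ⟨c, gg, hh, hc, -, -, hgh⟩ := exists_rank_maps (R ⧸ p) W
      obtain ⟨c, rfl⟩ := Ideal.Quotient.mk_surjective c
      exact ⟨c, fun h => hc (Ideal.Quotient.eq_zero_iff_mem.2 h), _, hh.restrictScalars R, gg.restrictScalars R,
        fun w => (hgh w).trans (algebraMap_smul (R ⧸ p) c w)⟩
    let e : Fin n → N ⊗[R] W →ₗ[S] N ⊗[R] (R ⧸ p) := fun i => tmap (LinearMap.proj i ∘ₗ h)
    have hcy : radAnn S (tmap (S := S) (N := N) h y') = Q := by
      refine le_antisymm (fun t ht => ?_) (fun t ht => ?_)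
      · obtain ⟨m, hm⟩ := mem_radAnn.1 ht
        have h1 : tmap (S := S) (N := N) h' (t ^ m • tmap (S := S) (N := N) h y') = t ^ m • (algebraMap R S c • y') := by
          rw [map_smul]
          congr 1
          show h'.lTensor N (h.lTensor N y') = _
          rw [← LinearMap.comp_apply, ← LinearMap.lTensor_comp, show h' ∘ₗ h = c • LinearMap.id from LinearMap.ext hh',
            LinearMap.lTensor_smul, LinearMap.lTensor_id, algebraMap_smul]
          rfl
        rw [hm, map_zero, ← mul_smul] at h1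
        have h2 : t ^ m * algebraMap R S c ∈ Q := hy' ▸ mem_radAnn.2 ⟨1, by rw [pow_one]; exact h1.symm⟩
        exact hQ.mem_of_pow_mem m ((hQ.mem_or_mem h2).resolve_right hc)
      · rw [← hy', mem_radAnn] at ht
        obtain ⟨m, hm⟩ := ht
        exact mem_radAnn.2 ⟨m, by rw [← map_smul, hm, map_zero]⟩
    obtain ⟨i, hi⟩ : ∃ i, radAnn S (e i y') = Q := by
      obtain ⟨i, hi⟩ := exists_component (S := S) (fun i => tmap (S := S) (N := N) (LinearMap.proj i : (Fin n → R ⧸ p) →ₗ[R] R ⧸ p))
        (fun z hz => (TensorProduct.piRight R R N (fun _ : Fin n => R ⧸ p)).map_eq_zero_iff.1 (funext fun i => by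
          rw [Pi.zero_apply, ← hz i]
          clear hz
          induction z with
          | zero => simp
          | add a b ha hb => rw [map_add, map_add, Pi.add_apply, ha, hb]
          | tmul a b => simp [tmap])) hcy
      refine ⟨i, ?_⟩
      convert hi using 2
      show (LinearMap.proj i ∘ₗ h).lTensor N y' = (LinearMap.proj i).lTensor N (h.lTensor N y')
      rw [LinearMap.lTensor_comp]; rfl
    obtain ⟨w, hw⟩ : ∃ w, h w i ≠ 0 := by
      by_contra hcon
      push Not at hcon
      have : e i y' = 0 := by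
        show (LinearMap.proj i ∘ₗ h).lTensor N y' = 0
        rw [show LinearMap.proj i ∘ₗ h = 0 from LinearMap.ext hcon, LinearMap.lTensor_zero]; rfl
      rw [this] at hi
      exact hQ.ne_top (hi ▸ (Ideal.eq_top_iff_one _).2 (mem_radAnn.2 ⟨1, by rw [smul_zero]⟩))
    refine ⟨p, ?_, ?_⟩
    · show IsAssociatedPrime p M
      refine isAssociatedPrime_iff.2 ⟨inferInstance, ((w : M₀) : M), le_antisymm (fun r hr => ?_) fun r hr => ?_⟩
      · rw [Submodule.mem_colon_singleton, Submodule.mem_bot]
        have := congrArg (fun z : W => ((z : M₀) : M)) (@hWp w ⟨r, hr⟩)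
        simpa using this
      · rw [Submodule.mem_colon_singleton, Submodule.mem_bot] at hr
        have hrw : r • w = 0 := Subtype.ext (Subtype.ext hr)
        have h3 : r • h w i = 0 := by
          have := congrArg (fun z => h z i) hrw
          simpa using this
        obtain ⟨b, hb⟩ := Ideal.Quotient.mk_surjective (h w i)
        rw [← hb, ← Ideal.Quotient.mk_eq_mk, ← Submodule.Quotient.mk_smul, Submodule.Quotient.mk_eq_zero] at h3
        exact ((Ideal.IsPrime.mem_or_mem ‹_› h3).resolve_right fun hbp =>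
          hw (by rw [← hb, Ideal.Quotient.eq_zero_iff_mem.2 hbp]))
    · exact LinearEquiv.AssociatedPrimes.eq (tensorQuotEquiv (S := S) (N := N) p) ▸
        (⟨hQ, e i y', hi.symm⟩ : IsAssociatedPrime Q (N ⊗[R] (R ⧸ p)))
  · rintro ⟨p, hp, hQ⟩
    show IsAssociatedPrime Q (N ⊗[R] M)
    obtain ⟨hpp, f, hf⟩ := (isAssociatedPrime_iff_exists_injective_linearMap p M).1 hp
    have h1 : IsAssociatedPrime Q (N ⊗[R] (R ⧸ p)) := show Q ∈ associatedPrimes S _ by
      rw [LinearEquiv.AssociatedPrimes.eq (tensorQuotEquiv (S := S) (N := N) p)]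
      exact hQ
    exact h1.map_of_injective (tmap (S := S) (N := N) f) (tmap_injective (S := S) (N := N) f hf)

end Groth.Agent.CAlgMisc2
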