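import Groth.Agent.AdicRing.Basic
import Mathlib

/-! Artin–Rees control of homology modulo powers of an ideal; completions of finite modules. -/
set_option autoImplicit false
universe u

namespace Groth.Agent.CAlgMisc2

variable {A : Type u} [CommRing A] [IsNoetherianRing A] (I : Ideal A)

theorem pow_smul_le {M : Type u} [AddCommGroup M] [Module A M] {m n : ℕ} (h : n ≤ m) :
    (I ^ m • ⊤ : Submodule A M) ≤ I ^ n • ⊤ :=
  Submodule.smul_mono_left (Ideal.pow_le_pow_right h)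

theorem exists_ar {M : Type u} [AddCommGroup M] [Module A M] [Module.Finite A M] (P : Submodule A M) :
    ∃ c : ℕ, ∀ n, P ⊓ (I ^ n • ⊤) ≤ I ^ (n - c) • P := by
  obtain ⟨c, hc⟩ := Ideal.exists_pow_inf_eq_pow_smul I P
  refine ⟨c, fun n => ?_⟩
  rcases le_total c n with h | h
  · rw [inf_comm, hc n h]
    exact Submodule.smul_mono le_rfl inf_le_right
  · rw [Nat.sub_eq_zero_of_le h, pow_zero, Ideal.one_eq_top, Submodule.top_smul]
    exact inf_le_left

theorem homology_control {K L M : Type u} [AddCommGroup K] [Module A K] [AddCommGroup L] [Module A L]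
    [Module.Finite A L] [AddCommGroup M] [Module A M] [Module.Finite A M]
    (α : K →ₗ[A] L) (β : L →ₗ[A] M) (hαβ : β ∘ₗ α = 0) :
    ∃ c : ℕ, 0 < c ∧ ∀ n : ℕ,
      (∀ y ∈ (I ^ (n + c) • ⊤ : Submodule A M).comap β,
        ∃ z ∈ LinearMap.ker β, y - z ∈ LinearMap.range α ⊔ (I ^ n • ⊤ : Submodule A L)) ∧
      (∀ z ∈ LinearMap.ker β, z ∈ LinearMap.range α ⊔ (I ^ n • ⊤ : Submodule A L) →
        ∀ a ∈ I ^ c, a • z ∈ LinearMap.range α ⊔ I ^ n • LinearMap.ker β) ∧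
      (∀ y ∈ (I ^ n • ⊤ : Submodule A M).comap β, ∀ a ∈ I ^ c,
        ∃ z ∈ LinearMap.ker β, a • y - z ∈ LinearMap.range α ⊔ (I ^ n • ⊤ : Submodule A L)) := by
  obtain ⟨c₁, h₁⟩ := exists_ar I (LinearMap.range β)
  obtain ⟨c₂, h₂⟩ := exists_ar I (LinearMap.ker β)
  have key : ∀ n m, n + c₁ ≤ m → ∀ y ∈ (I ^ m • ⊤ : Submodule A M).comap β,
      ∃ z ∈ LinearMap.ker β, y - z ∈ (I ^ n • ⊤ : Submodule A L) := by
    intro n m hm y hy
    have h3 := h₁ m ⟨⟨y, rfl⟩, hy⟩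
    rw [← Submodule.map_top, ← Submodule.map_smul''] at h3
    obtain ⟨w, hw, hwy⟩ := h3
    refine ⟨y - w, ?_, by rw [sub_sub_cancel]; exact pow_smul_le I (by omega) hw⟩
    rw [LinearMap.mem_ker, map_sub, hwy, sub_self]
  refine ⟨c₁ + c₂ + 1, by omega, fun n => ⟨fun y hy => ?_, fun z hz hz' a ha => ?_, fun y hy a ha => ?_⟩⟩
  · obtain ⟨z, hz, hyz⟩ := key n _ (by omega) y hy
    exact ⟨z, hz, Submodule.mem_sup_right hyz⟩
  · obtain ⟨_, ⟨k, rfl⟩, l, hl, rfl⟩ := Submodule.mem_sup.1 hz'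
    rw [LinearMap.mem_ker, map_add, ← LinearMap.comp_apply, hαβ, LinearMap.zero_apply, zero_add] at hz
    rw [smul_add, ← map_smul]
    refine Submodule.add_mem_sup ⟨a • k, rfl⟩ ?_
    have h3 := Submodule.smul_mem_smul ha (h₂ n ⟨hz, hl⟩)
    rw [← mul_smul, ← pow_add] at h3
    exact Submodule.smul_mono_left (Ideal.pow_le_pow_right (by omega)) h3
  · have h3 : a • y ∈ (I ^ (c₁ + c₂ + 1 + n) • ⊤ : Submodule A M).comap β := by
      rw [Submodule.mem_comap, map_smul, pow_add, Submodule.mul_smul]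
      exact Submodule.smul_mem_smul ha hy
    obtain ⟨z, hz, hyz⟩ := key n _ (by omega) _ h3
    exact ⟨z, hz, Submodule.mem_sup_right hyz⟩

theorem mem_smul_hom {N : Type u} [AddCommGroup N] [Module A N] {k d : ℕ} (g : (Fin d → A) →ₗ[A] N)
    (hg : ∀ x, g x ∈ I ^ k • (⊤ : Submodule A N)) :
    g ∈ I ^ k • (⊤ : Submodule A ((Fin d → A) →ₗ[A] N)) := by
  classical
  have : g = ∑ j, (LinearMap.proj j).smulRight (g (Pi.single j 1)) :=
    LinearMap.pi_ext' fun i => LinearMap.ext_ring (by simp [Pi.single_apply])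
  rw [this]
  refine Submodule.sum_mem _ fun j _ => ?_
  have h2 := Submodule.mem_map_of_mem
    (f := LinearMap.smulRightₗ (LinearMap.proj (R := A) (φ := fun _ : Fin d => A) j)) (hg (Pi.single j 1))
  rw [Submodule.map_smul''] at h2
  exact Submodule.smul_mono le_rfl le_top h2

theorem apply_mem_smul {M N : Type u} [AddCommGroup M] [Module A M] [AddCommGroup N] [Module A N] {k : ℕ}
    (g : M →ₗ[A] N) (hg : g ∈ I ^ k • (⊤ : Submodule A (M →ₗ[A] N))) (x : M) :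
    g x ∈ I ^ k • (⊤ : Submodule A N) := by
  have h2 := Submodule.mem_map_of_mem (f := LinearMap.applyₗ (R := A) (M₂ := N) x) hg
  rw [Submodule.map_smul''] at h2
  exact Submodule.smul_mono le_rfl le_top h2

theorem hom_control (M N : Type u) [AddCommGroup M] [Module A M] [Module.Finite A M] [AddCommGroup N]
    [Module A N] [Module.Finite A N] :
    ∃ c : ℕ, ∀ n : ℕ,
      (∀ m, n + c ≤ m → ∀ ψ : M →ₗ[A] N ⧸ (I ^ m • ⊤ : Submodule A N), ∃ φ : M →ₗ[A] N,
        ∀ x y, Submodule.Quotient.mk y = ψ x → φ x - y ∈ (I ^ n • ⊤ : Submodule A N)) ∧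
      (∀ φ : M →ₗ[A] N, (∀ x, φ x ∈ (I ^ n • ⊤ : Submodule A N)) → ∀ a ∈ I ^ c,
        a • φ ∈ (I ^ n • ⊤ : Submodule A (M →ₗ[A] N))) ∧
      (∀ ψ : M →ₗ[A] N ⧸ (I ^ n • ⊤ : Submodule A N), ∀ a ∈ I ^ c, ∃ φ : M →ₗ[A] N,
        ∀ x, Submodule.Quotient.mk (φ x) = a • ψ x) := by
  obtain ⟨b, σ, hσ⟩ := Module.Finite.exists_fin' A M
  obtain ⟨a₀, τ₀, hτ₀⟩ := Module.Finite.exists_fin' A (LinearMap.ker σ)
  let τ := (LinearMap.ker σ).subtype.comp τ₀
  let T : ((Fin b → A) →ₗ[A] N) →ₗ[A] ((Fin a₀ → A) →ₗ[A] N) := LinearMap.lcomp A N τ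
  obtain ⟨c, -, hc⟩ := homology_control I (0 : PUnit.{u + 1} →ₗ[A] (Fin b → A) →ₗ[A] N) T (LinearMap.comp_zero _)
  have hστ : ∀ x, σ (τ x) = 0 := fun x => (τ₀ x).2
  have hker : ∀ z, z ∈ LinearMap.ker T → LinearMap.ker σ ≤ LinearMap.ker z := fun z hz x hx => by
    obtain ⟨y, hy⟩ := hτ₀ ⟨x, hx⟩
    rw [show x = τ y from (congrArg Subtype.val hy).symm]
    exact LinearMap.congr_fun hz y
  have hdesc : ∀ z, z ∈ LinearMap.ker T → ∃ φ : M →ₗ[A] N, φ.comp σ = z := fun z hz =>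
    ⟨(Submodule.liftQ _ z (hker z hz)).comp (σ.quotKerEquivOfSurjective hσ).symm.toLinearMap,
      LinearMap.ext fun y => by
        show Submodule.liftQ _ z (hker z hz) ((σ.quotKerEquivOfSurjective hσ).symm (σ y)) = _
        rw [show (σ.quotKerEquivOfSurjective hσ).symm (σ y) = Submodule.Quotient.mk y from
          (LinearEquiv.symm_apply_eq _).2 rfl]
        rfl⟩
  have hlift : ∀ m (ψ : M →ₗ[A] N ⧸ (I ^ m • ⊤ : Submodule A N)), ∃ φ₀ : (Fin b → A) →ₗ[A] N,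
      (∀ y, Submodule.Quotient.mk (φ₀ y) = ψ (σ y)) ∧
        φ₀ ∈ (I ^ m • ⊤ : Submodule A ((Fin a₀ → A) →ₗ[A] N)).comap T := by
    intro m ψ
    obtain ⟨φ₀, hφ₀⟩ := Module.projective_lifting_property (Submodule.mkQ _) (ψ.comp σ) (Submodule.mkQ_surjective _)
    refine ⟨φ₀, fun y => LinearMap.congr_fun hφ₀ y, mem_smul_hom I _ fun x => ?_⟩
    rw [← Submodule.Quotient.mk_eq_zero]
    exact (LinearMap.congr_fun hφ₀ (τ x)).trans (by simp [hστ])
  have hsup : ∀ {n : ℕ} {g}, g ∈ LinearMap.range (0 : PUnit.{u + 1} →ₗ[A] (Fin b → A) →ₗ[A] N) ⊔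
      (I ^ n • ⊤ : Submodule A ((Fin b → A) →ₗ[A] N)) → g ∈ (I ^ n • ⊤ : Submodule A ((Fin b → A) →ₗ[A] N)) := by
    intro n g hg; rwa [LinearMap.range_zero, bot_sup_eq] at hg
  refine ⟨c, fun n => ⟨fun m hm ψ => ?_, fun φ hφ a ha => ?_, fun ψ a ha => ?_⟩⟩
  · obtain ⟨φ₀, hφ₀, hT⟩ := hlift m ψ
    obtain ⟨z, hz, hzd⟩ := (hc n).1 φ₀ (pow_smul_le I hm hT)
    obtain ⟨φ, hφ⟩ := hdesc z hz
    refine ⟨φ, fun x y hy => ?_⟩
    obtain ⟨w, rfl⟩ := hσ x
    rw [← LinearMap.comp_apply, hφ]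
    have h1 : y - φ₀ w ∈ (I ^ n • ⊤ : Submodule A N) :=
      pow_smul_le I (by omega) ((Submodule.Quotient.eq _).1 (hy.trans (hφ₀ w).symm))
    have h2 : φ₀ w - z w ∈ (I ^ n • ⊤ : Submodule A N) := apply_mem_smul I (φ₀ - z) (hsup hzd) w
    have := neg_mem (add_mem h1 h2)
    rwa [show -(y - φ₀ w + (φ₀ w - z w)) = z w - y by abel] at this
  · have h1 : φ.comp σ ∈ LinearMap.ker T := LinearMap.ext fun x => by simp [T, hστ]
    have h2 := (hc n).2.1 _ h1 (Submodule.mem_sup_right (mem_smul_hom I _ fun x => hφ (σ x))) a ha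
    rw [LinearMap.range_zero, bot_sup_eq] at h2
    have h3 : Submodule.map (LinearMap.lcomp A N σ) (⊤ : Submodule A (M →ₗ[A] N)) = LinearMap.ker T := by
      refine le_antisymm ?_ fun z hz => (hdesc z hz).elim fun φ hφ => ⟨φ, trivial, hφ⟩
      rintro _ ⟨g, -, rfl⟩
      exact LinearMap.ext fun x => by simp [T, hστ]
    rw [← h3, ← Submodule.map_smul''] at h2
    obtain ⟨g, hg, hgφ⟩ := h2
    have : g = a • φ := LinearMap.ext fun x => by
      obtain ⟨w, rfl⟩ := hσ x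
      exact LinearMap.congr_fun hgφ w
    exact this ▸ hg
  · obtain ⟨φ₀, hφ₀, hT⟩ := hlift n ψ
    obtain ⟨z, hz, hzd⟩ := (hc n).2.2 φ₀ hT a ha
    obtain ⟨φ, hφ⟩ := hdesc z hz
    refine ⟨φ, fun x => ?_⟩
    obtain ⟨w, rfl⟩ := hσ x
    rw [← LinearMap.comp_apply φ σ, hφ, ← hφ₀, ← Submodule.Quotient.mk_smul, Submodule.Quotient.eq]
    have := apply_mem_smul I (a • φ₀ - z) (hsup hzd) w
    rw [← neg_mem_iff, show -(z w - a • φ₀ w) = (a • φ₀ - z) w by simp]
    exact this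

theorem completion_equiv_of_quotients (M N : Type u) [AddCommGroup M] [Module A M] [Module.Finite A M]
    [AddCommGroup N] [Module A N] [Module.Finite A N]
    (h : ∀ n : ℕ, Nonempty ((M ⧸ (I ^ n • ⊤ : Submodule A M)) ≃ₗ[A] (N ⧸ (I ^ n • ⊤ : Submodule A N)))) :
    Nonempty (AdicCompletion I M ≃ₗ[AdicCompletion I A] AdicCompletion I N) := by
  have hI : I.FG := IsNoetherian.noetherian I
  have half : ∀ (M N : Type u) [AddCommGroup M] [Module A M] [Module.Finite A M] [AddCommGroup N]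
      [Module A N] [Module.Finite A N],
      (∀ n : ℕ, Nonempty ((M ⧸ (I ^ n • ⊤ : Submodule A M)) ≃ₗ[A] (N ⧸ (I ^ n • ⊤ : Submodule A N)))) →
      ∃ φ : M →ₗ[A] N, Function.Surjective (AdicCompletion.map I φ) := by
    intro M N _ _ _ _ _ _ h
    obtain ⟨c, hc⟩ := hom_control I M N
    obtain ⟨e⟩ := h (1 + c)
    obtain ⟨φ, hφ⟩ := (hc 1).1 (1 + c) le_rfl (e.toLinearMap.comp (Submodule.mkQ _))
    refine ⟨φ, ?_⟩
    have : IsAdicComplete I (AdicCompletion I M) := AdicCompletion.isAdicComplete hI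
    have : IsAdicComplete I (AdicCompletion I N) := AdicCompletion.isAdicComplete hI
    refine Groth.Agent.AdicRing.surjective_of_sup_smul_top (I := I) ((AdicCompletion.map I φ).restrictScalars A) ?_
    rw [eq_top_iff]
    intro y _
    obtain ⟨v, hv⟩ := Submodule.Quotient.mk_surjective _ (AdicCompletion.eval I N 1 y)
    obtain ⟨x, hx⟩ := Submodule.Quotient.mk_surjective _ (e.symm (Submodule.Quotient.mk v))
    have h1 : φ x - v ∈ (I ^ 1 • ⊤ : Submodule A N) := hφ x v (by simp [hx])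
    have h2 : y - AdicCompletion.map I φ (AdicCompletion.of I M x) ∈ (I • ⊤ : Submodule A (AdicCompletion I N)) := by
      rw [show (I • ⊤ : Submodule A (AdicCompletion I N)) = I ^ 1 • ⊤ by rw [pow_one],
        AdicCompletion.pow_smul_top_eq_ker_eval hI, LinearMap.mem_ker, map_sub, ← hv,
        AdicCompletion.eval_apply, AdicCompletion.map_val_apply, sub_eq_zero]
      refine ((Submodule.Quotient.eq _).2 h1).symm.trans ?_
      rfl
    rw [show y = AdicCompletion.map I φ (AdicCompletion.of I M x) +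
      (y - AdicCompletion.map I φ (AdicCompletion.of I M x)) by abel]
    exact Submodule.add_mem_sup ⟨_, rfl⟩ h2
  obtain ⟨φ, hφ⟩ := half M N h
  obtain ⟨ψ, hψ⟩ := half N M fun n => ⟨(h n).some.symm⟩
  have : Module.Finite (AdicCompletion I A) (AdicCompletion I M) :=
    Module.Finite.equiv (AdicCompletion.ofTensorProductEquivOfFiniteNoetherian I M)
  have hbij : Function.Bijective (AdicCompletion.map I ψ ∘ₗ AdicCompletion.map I φ) :=
    OrzechProperty.bijective_of_surjective_endomorphism _ (hψ.comp hφ)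
  exact ⟨LinearEquiv.ofBijective (AdicCompletion.map I φ) ⟨Function.Injective.of_comp (f := AdicCompletion.map I ψ) hbij.1, hφ⟩⟩

end Groth.Agent.CAlgMisc2
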