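import Mathlib
import Groth.Agent.FlatCrit.Tor

/-! A lift of a basis modulo a nilpotent ideal. -/
universe u

namespace Groth.Agent.CAlgMisc2

open TensorProduct Function

set_option maxHeartbeats 400000

theorem tmul_ker_eq_zero {R : Type u} [CommRing R] (S : Type u) [CommRing S] [Algebra R S] {N M : Type u}
    [AddCommGroup N] [Module R N] [AddCommGroup M] [Module R M] [Module.Flat R M] (φ : N →ₗ[R] M)
    (hsurj : Surjective φ) (hb : Injective (φ.lTensor S)) (k : LinearMap.ker φ) :
    (1 : S) ⊗ₜ[R] k = 0 := by
  have hinjK : Injective ((LinearMap.ker φ).subtype.lTensor S) :=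
    LinearMap.lTensor_injective_of_exact_of_flat φ hsurj _ (Submodule.subtype_injective _)
      (LinearMap.exact_subtype_ker_map φ) S
  apply hinjK
  apply hb
  simp

theorem basis_of_basis_mod_nilpotent {R : Type u} [CommRing R] (I : Ideal R) (hI : IsNilpotent I)
    {M : Type u} [AddCommGroup M] [Module R M] (htor : Injective ((Submodule.subtype I).rTensor M))
    {A : Type u} (x : A → M) (hli : LinearIndependent (R ⧸ I) (fun a => (1 : R ⧸ I) ⊗ₜ[R] x a))
    (hsp : Submodule.span (R ⧸ I) (Set.range fun a => (1 : R ⧸ I) ⊗ₜ[R] x a) = ⊤) :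
    LinearIndependent R x ∧ Submodule.span R (Set.range x) = ⊤ := by
  classical
  let bb := Module.Basis.mk hli hsp.ge
  haveI : Module.Free (R ⧸ I) ((R ⧸ I) ⊗[R] M) := Module.Free.of_basis bb
  haveI hflat : Module.Flat R M := FlatCrit.flat_of_isNilpotent htor (FlatCrit.quotFlat_of_flat I inferInstance) hI
  obtain ⟨n, hn⟩ := hI
  have hnak : ∀ (V : Type u) [AddCommGroup V] [Module R V] (N : Submodule R V), (⊤ : Submodule R V) ≤ N ⊔ I • ⊤ → N = ⊤ := by
    intro V _ _ N h
    have key : ∀ k, (⊤ : Submodule R V) ≤ N ⊔ I ^ k • ⊤ := by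
      intro k
      induction k with
      | zero => simp
      | succ k ih =>
        refine h.trans (sup_le le_sup_left ?_)
        refine (Submodule.smul_mono (le_refl I) ih).trans ?_
        rw [Submodule.smul_sup, ← Submodule.mul_smul, ← pow_succ']
        exact sup_le (le_sup_of_le_left Submodule.smul_le_right) le_sup_right
    have := key n
    rw [hn, Ideal.zero_eq_bot, Submodule.bot_smul, sup_bot_eq] at this
    exact top_le_iff.1 this
  let φ : (A →₀ R) →ₗ[R] M := Finsupp.linearCombination R x
  let φb := φ.baseChange (R ⧸ I)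
  let eF := TensorProduct.finsuppScalarRight R (R ⧸ I) (R ⧸ I) A
  have hφb : ∀ z, φb z = Finsupp.linearCombination (R ⧸ I) (fun a => (1 : R ⧸ I) ⊗ₜ[R] x a) (eF z) := by
    intro z
    induction z with
    | zero => simp
    | add a b ha hb => simp only [map_add, ha, hb]
    | tmul s v =>
      induction v using Finsupp.induction_linear with
      | zero => simp
      | add a b ha hb => simp only [tmul_add, map_add, ha, hb]
      | single a r =>
        have h1 : eF (s ⊗ₜ Finsupp.single a r) = Finsupp.single a (r • s) := by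
          ext b
          simp only [eF, TensorProduct.finsuppScalarRight_apply_tmul_apply, Finsupp.single_apply]
          split_ifs <;> simp
        rw [h1, Finsupp.linearCombination_single, smul_tmul', smul_eq_mul, mul_one]
        simp [φb, φ, tmul_smul, smul_tmul']
  have hφbinj : Injective φb := by
    intro a b hab
    rw [hφb, hφb] at hab
    exact eF.injective (hli hab)
  have hsurj : Surjective φ := by
    rw [← LinearMap.range_eq_top]
    refine hnak M _ fun m _ => ?_
    obtain ⟨c, hc⟩ := (Finsupp.mem_span_range_iff_exists_finsupp).1 (hsp ▸ Submodule.mem_top :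
      (1 : R ⧸ I) ⊗ₜ[R] m ∈ Submodule.span (R ⧸ I) (Set.range fun a => (1 : R ⧸ I) ⊗ₜ[R] x a))
    let c' : A →₀ R := c.mapRange (fun r => if r = 0 then 0 else surjInv Ideal.Quotient.mk_surjective r) (if_pos rfl)
    have h1 : (1 : R ⧸ I) ⊗ₜ[R] φ c' = (1 : R ⧸ I) ⊗ₜ[R] m := by
      rw [← LinearMap.baseChange_tmul]
      change φb _ = _
      rw [hφb, ← hc]
      change Finsupp.linearCombination _ _ _ = _
      rw [Finsupp.linearCombination_apply]
      congr 1
      ext a
      simp only [eF, c', TensorProduct.finsuppScalarRight_apply_tmul_apply, Finsupp.mapRange_apply]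
      split_ifs with h0
      · simp [h0]
      · rw [Algebra.smul_def, mul_one, Ideal.Quotient.algebraMap_eq, Function.surjInv_eq Ideal.Quotient.mk_surjective]
    refine Submodule.mem_sup.2 ⟨φ c', ⟨c', rfl⟩, m - φ c', ?_, by abel⟩
    have h3 := congrArg (TensorProduct.quotTensorEquivQuotSMul M I) h1
    simp only [← map_one (Ideal.Quotient.mk I), TensorProduct.quotTensorEquivQuotSMul_mk_tmul, one_smul] at h3
    exact (Submodule.Quotient.eq _).1 h3.symm
  have hker : LinearMap.ker φ = ⊥ := by
    have hex : Exact (LinearMap.ker φ).subtype φ := LinearMap.exact_subtype_ker_map φ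
    let K := LinearMap.ker φ
    have h0 : ∀ k : K, (1 : R ⧸ I) ⊗ₜ[R] k = 0 := tmul_ker_eq_zero (R ⧸ I) φ hsurj hφbinj
    have htop : (⊥ : Submodule R K) = ⊤ := by
      refine hnak K _ fun k _ => ?_
      have h := congrArg (TensorProduct.quotTensorEquivQuotSMul K I) (h0 k)
      simp only [← map_one (Ideal.Quotient.mk I), TensorProduct.quotTensorEquivQuotSMul_mk_tmul, one_smul, map_zero,
        Submodule.Quotient.mk_eq_zero] at h
      exact Submodule.mem_sup_right h
    rw [eq_bot_iff]
    intro k hk
    have : (⟨k, hk⟩ : K) ∈ (⊥ : Submodule R K) := htop ▸ Submodule.mem_top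
    exact (congrArg Subtype.val ((Submodule.mem_bot R).1 this) :)
  exact ⟨linearIndependent_iff.2 fun l hl => (Submodule.mem_bot R).1 (hker ▸ (LinearMap.mem_ker.2 hl) : l ∈ (⊥ : Submodule R _)),
    by rw [← Finsupp.range_linearCombination]; exact LinearMap.range_eq_top.2 hsurj⟩

end Groth.Agent.CAlgMisc2
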