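import Mathlib

/-! Finite submodules of free modules over a Bezout domain are free; unimodular rows complete. -/
universe u

namespace Groth.Agent.CAlgMisc2

theorem free_of_injective_pi {R : Type u} [CommRing R] [IsDomain R] [IsBezout R] :
    ∀ (n : ℕ) (M : Type u) [AddCommGroup M] [Module R M] [Module.Finite R M]
      (f : M →ₗ[R] (Fin n → R)), Function.Injective f → Module.Free R M := by
  intro n
  induction n with
  | zero =>
    intro M _ _ _ f hf
    haveI : Subsingleton M := hf.subsingleton
    exact Module.Free.of_subsingleton R M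
  | succ n ih =>
    intro M _ _ _ f hf
    let g : M →ₗ[R] R := LinearMap.proj 0 ∘ₗ f
    let t : (Fin (n + 1) → R) →ₗ[R] (Fin n → R) := LinearMap.funLeft R R Fin.succ
    obtain ⟨a, ha⟩ : ∃ a, LinearMap.range g = R ∙ a :=
      ((IsBezout.isPrincipal_of_FG (LinearMap.range g) (Module.Finite.fg_top.map g |> fun h => by
        rwa [Submodule.map_top] at h))).principal
    have inj : ∀ x y, g x = g y → t (f x) = t (f y) → x = y := fun x y h0 h1 => hf <| funext fun i => by
      refine Fin.cases ?_ (fun j => ?_) i
      · exact h0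
      · exact congrFun h1 j
    rcases eq_or_ne a 0 with rfl | hne
    · have h0 : ∀ x, g x = 0 := fun x => by
        have : g x ∈ (R ∙ (0 : R)) := ha ▸ ⟨x, rfl⟩
        simpa using this
      exact ih M (t ∘ₗ f) fun x y h => inj x y (by rw [h0, h0]) h
    · obtain ⟨m₀, hm₀⟩ : a ∈ LinearMap.range g := ha ▸ Submodule.mem_span_singleton_self a
      let φ : (LinearMap.ker g × R) →ₗ[R] M :=
        (LinearMap.ker g).subtype.coprod (LinearMap.toSpanSingleton R M m₀)
      have hφ : Function.Bijective φ := by
        refine ⟨(injective_iff_map_eq_zero φ).2 ?_, fun x => ?_⟩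
        · rintro ⟨⟨k, hk⟩, r⟩ h
          have h' : k + r • m₀ = 0 := by simpa [φ] using h
          have h2 : r * a = 0 := by
            have := congrArg g h'
            rwa [map_add, LinearMap.mem_ker.1 hk, zero_add, map_smul, hm₀, map_zero] at this
          obtain rfl : r = 0 := (mul_eq_zero.1 h2).resolve_right hne
          simp only [zero_smul, add_zero] at h'
          subst h'
          rfl
        · obtain ⟨r, hr⟩ := Submodule.mem_span_singleton.1 (ha ▸ ⟨x, rfl⟩ : g x ∈ R ∙ a)
          refine ⟨(⟨x - r • m₀, ?_⟩, r), by simp [φ]⟩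
          rw [LinearMap.mem_ker, map_sub, map_smul, hm₀, ← hr, sub_self]
      let e := LinearEquiv.ofBijective φ hφ
      haveI : Module.Finite R (LinearMap.ker g) := Module.Finite.of_surjective
        (LinearMap.fst R (LinearMap.ker g) R ∘ₗ e.symm.toLinearMap) fun k => ⟨e (k, 0), by simp⟩
      haveI : Module.Free R (LinearMap.ker g) := ih _ (t ∘ₗ f ∘ₗ (LinearMap.ker g).subtype)
        fun x y h => Subtype.ext (inj x y (by rw [LinearMap.mem_ker.1 x.2, LinearMap.mem_ker.1 y.2]) h)
      exact Module.Free.of_equiv e

theorem free_of_fg {R : Type u} [CommRing R] [IsDomain R] [IsBezout R] {F : Type u} [AddCommGroup F]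
    [Module R F] [Module.Free R F] (N : Submodule R F) (hN : N.FG) : Module.Free R N := by
  classical
  haveI : Module.Finite R N := Module.Finite.iff_fg.2 hN
  let b := Module.Free.chooseBasis R F
  obtain ⟨G, hG⟩ := hN
  let s : Finset (Module.Free.ChooseBasisIndex R F) := G.biUnion fun g => (b.repr g).support
  let e := (Fintype.equivFin s).symm
  let f : N →ₗ[R] (Fin (Fintype.card s) → R) :=
    LinearMap.pi fun i => (Finsupp.lapply (e i).1) ∘ₗ b.repr.toLinearMap ∘ₗ N.subtype
  refine free_of_injective_pi _ N f ((injective_iff_map_eq_zero f).2 fun x hx => ?_)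
  refine Subtype.ext (b.repr.injective ?_)
  rw [ZeroMemClass.coe_zero, map_zero]
  ext j
  by_cases hj : j ∈ s
  · have := congrFun hx (e.symm ⟨j, hj⟩)
    simpa [f] using this
  · have : ∀ y ∈ Submodule.span R (G : Set F), b.repr y j = 0 := by
      intro y hy
      induction hy using Submodule.span_induction with
      | mem g hg =>
        by_contra h
        exact hj (Finset.mem_biUnion.2 ⟨g, hg, Finsupp.mem_support_iff.2 h⟩)
      | zero => simp
      | add a c _ _ ha hc => simp [ha, hc]
      | smul r a _ ha => simp [ha]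
    simpa using this x (hG.symm ▸ x.2)

end Groth.Agent.CAlgMisc2
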