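import Mathlib
import Groth.Agent.CAlgMisc2.TorsionFree
import Groth.Agent.CAlgMisc2.BezoutFree

/-! Finitely presented modules over Bezout domains. -/
universe u

namespace Groth.Agent.CAlgMisc2
set_option linter.all false

open Function

theorem exists_diag_basis {A : Type u} [CommRing A] (htot : ∀ a b : A, a ∣ b ∨ b ∣ a) :
    ∀ (n : ℕ) (K : Submodule A (Fin n → A)), K.FG →
      ∃ (b : Module.Basis (Fin n) A (Fin n → A)) (a : Fin n → A),
        K = Submodule.span A (Set.range fun i => a i • b i) := by
  classical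
  intro n
  induction n with
  | zero =>
    intro K _
    exact ⟨Pi.basisFun A (Fin 0), 0, Subsingleton.elim _ _⟩
  | succ n ih =>
    intro K hK
    obtain ⟨G, hG⟩ := hK
    have hdvd : ∀ s : Finset A, s.Nonempty → ∃ g ∈ s, ∀ c ∈ s, g ∣ c := by
      intro s hs
      induction hs using Finset.Nonempty.cons_induction with
      | singleton a => exact ⟨a, Finset.mem_singleton_self a, fun c hc => by rw [Finset.mem_singleton.1 hc]⟩
      | cons a s ha hs ih =>
        obtain ⟨g, hg, hall⟩ := ih
        rcases htot a g with h | h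
        · exact ⟨a, Finset.mem_cons_self a s, fun c hc => (Finset.mem_cons.1 hc).elim (fun e => e ▸ dvd_rfl)
            fun hc => h.trans (hall c hc)⟩
        · exact ⟨g, Finset.mem_cons_of_mem hg, fun c hc => (Finset.mem_cons.1 hc).elim (fun e => e ▸ h)
            fun hc => hall c hc⟩
    let s : Finset A := G.biUnion fun x => Finset.univ.image x
    by_cases hs : s.Nonempty
    swap
    · refine ⟨Pi.basisFun A _, 0, ?_⟩
      have hG' : G = ∅ := by
        by_contra hne
        obtain ⟨x, hx⟩ := Finset.nonempty_iff_ne_empty.2 hne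
        exact hs ⟨x 0, Finset.mem_biUnion.2 ⟨x, hx, Finset.mem_image_of_mem _ (Finset.mem_univ 0)⟩⟩
      rw [← hG, hG', Finset.coe_empty, Submodule.span_empty, eq_comm, Submodule.span_eq_bot]
      rintro _ ⟨i, rfl⟩
      exact zero_smul _ _
    obtain ⟨g, hg, hall⟩ := hdvd s hs
    obtain ⟨x₀, hx₀, hg'⟩ := Finset.mem_biUnion.1 hg
    obtain ⟨j, -, rfl⟩ := Finset.mem_image.1 hg'
    have hdiv : ∀ x ∈ K, ∀ i, x₀ j ∣ x i := by
      intro x hx
      rw [← hG] at hx
      induction hx using Submodule.span_induction with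
      | mem y hy => exact fun i => hall _ (Finset.mem_biUnion.2 ⟨y, hy, Finset.mem_image_of_mem _ (Finset.mem_univ i)⟩)
      | zero => exact fun i => dvd_zero _
      | add y z _ _ hy hz => exact fun i => dvd_add (hy i) (hz i)
      | smul r y _ hy => exact fun i => (hy i).mul_left r
    have hx₀K : x₀ ∈ K := hG ▸ Submodule.subset_span hx₀
    choose q hq using fun i => hdiv x₀ hx₀K i
    let v : Fin (n + 1) → A := Function.update q j 1
    have hv : v j = 1 := Function.update_self ..
    have hx₀v : x₀ j • v = x₀ := funext fun i => by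
      show x₀ j * v i = x₀ i
      by_cases h : i = j
      · rw [h, hv, mul_one]
      · rw [show v i = q i from Function.update_of_ne h _ _, ← hq]
    let ins : (Fin n → A) →ₗ[A] (Fin (n + 1) → A) :=
      { toFun := fun w => j.insertNth 0 w
        map_add' := fun w w' => by
          funext i; refine Fin.succAboveCases j ?_ (fun k => ?_) i <;> simp
        map_smul' := fun r w => by
          funext i; refine Fin.succAboveCases j ?_ (fun k => ?_) i <;> simp }
    let pr : (Fin (n + 1) → A) →ₗ[A] (Fin n → A) :=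
      LinearMap.funLeft A A j.succAbove ∘ₗ
        (LinearMap.id - (LinearMap.toSpanSingleton A _ v) ∘ₗ LinearMap.proj j)
    have hins : ∀ w, pr (ins w) = w ∧ ins w j = 0 := fun w => by
      refine ⟨funext fun k => ?_, by simp [ins]⟩
      simp [pr, ins, LinearMap.funLeft]
    have hdec : ∀ x, x = x j • v + ins (pr x) := fun x => by
      funext i
      refine Fin.succAboveCases j ?_ (fun k => ?_) i
      · simp [ins, hv]
      · simp [ins, pr, LinearMap.funLeft]
    let e : (A × (Fin n → A)) ≃ₗ[A] (Fin (n + 1) → A) :=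
      LinearEquiv.ofLinear ((LinearMap.toSpanSingleton A _ v).coprod ins) ((LinearMap.proj j).prod pr)
        (LinearMap.ext fun x => (hdec x).symm)
        (LinearMap.ext fun p => by
          obtain ⟨t, w⟩ := p
          refine Prod.ext ?_ ?_
          · simp [hins, hv]
          · show pr (t • v + ins w) = w
            rw [map_add, map_smul, (hins w).1, show pr v = 0 from funext fun k => by simp [pr, hv, LinearMap.funLeft],
              smul_zero, zero_add])
    obtain ⟨b, a, hb⟩ := ih (K.map pr) (Submodule.FG.map _ ⟨G, hG⟩)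
    let b' : Module.Basis (Fin (n + 1)) A (Fin (n + 1) → A) :=
      Module.Basis.ofEquivFun ((e.symm.trans ((LinearEquiv.refl A A).prodCongr b.equivFun)).trans
        (Fin.consLinearEquiv A fun _ : Fin (n + 1) => A))
    have hb'0 : b' 0 = v := by
      simp [b', e, Fin.consLinearEquiv, Fin.tail]
    have hb's : ∀ i, b' i.succ = ins (b i) := fun i => by
      have : Fin.tail (Pi.single (M := fun _ : Fin (n + 1) => A) i.succ 1) = Pi.single i 1 := by
        funext k
        by_cases h : k = i
        · subst h; simp [Fin.tail]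
        · simp [Fin.tail, h]
      simp [b', e, Fin.consLinearEquiv, this, Pi.single_apply, Fin.succ_ne_zero]
    refine ⟨b', Fin.cons (x₀ j) a, le_antisymm ?_ ?_⟩
    · intro x hx
      rw [hdec x]
      refine add_mem ?_ ?_
      · obtain ⟨c, hc⟩ := hdiv x hx j
        rw [hc, mul_comm, mul_smul]
        exact Submodule.smul_mem _ _ (Submodule.subset_span ⟨0, by simp [hb'0]⟩)
      · have h1 : pr x ∈ Submodule.span A (Set.range fun i => a i • b i) := hb ▸ Submodule.mem_map_of_mem hx
        have h2 := Submodule.mem_map_of_mem (f := ins) h1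
        rw [Submodule.map_span] at h2
        refine Submodule.span_mono ?_ h2
        rintro _ ⟨_, ⟨i, rfl⟩, rfl⟩
        exact ⟨i.succ, by simp [hb's]⟩
    · rw [Submodule.span_le]
      rintro _ ⟨i, rfl⟩
      refine Fin.cases ?_ (fun i => ?_) i
      · simp [hb'0, hx₀v, hx₀K]
      · simp only [Fin.cons_succ, hb's]
        obtain ⟨y, hy, hyi⟩ : a i • b i ∈ K.map pr := hb.symm ▸ Submodule.subset_span ⟨i, rfl⟩
        obtain ⟨c, hc⟩ := hdiv y hy j
        have : ins (a i • b i) = y - c • x₀ := by
          have h5 : y j • v = c • x₀ := by rw [hc, mul_comm, mul_smul, hx₀v]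
          rw [← hyi, ← h5, eq_sub_iff_add_eq, add_comm (ins (pr y))]
          exact (hdec y).symm
        show a i • ins (b i) ∈ K
        rw [← map_smul, this]
        exact K.sub_mem hy (K.smul_mem _ hx₀K)

theorem dvd_total_atPrime {R : Type u} [CommRing R] [IsBezout R] (m : Ideal R) [m.IsPrime]
    (x y : Localization.AtPrime m) : x ∣ y ∨ y ∣ x := by
  obtain ⟨a, s, rfl⟩ := IsLocalization.exists_mk'_eq m.primeCompl x
  obtain ⟨b, t, rfl⟩ := IsLocalization.exists_mk'_eq m.primeCompl y
  suffices h : algebraMap R (Localization.AtPrime m) a ∣ algebraMap R _ b ∨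
      algebraMap R (Localization.AtPrime m) b ∣ algebraMap R _ a by
    have hu : ∀ (a : R) (s : m.primeCompl), Associated (IsLocalization.mk' (Localization.AtPrime m) a s)
        (algebraMap R _ a) := fun a s =>
      ⟨(IsLocalization.map_units (Localization.AtPrime m) s).unit, IsLocalization.mk'_spec ..⟩
    rwa [(hu a s).dvd_iff_dvd_left, (hu b t).dvd_iff_dvd_right, (hu b t).dvd_iff_dvd_left,
      (hu a s).dvd_iff_dvd_right]
  obtain ⟨d, hd⟩ : ∃ d, Ideal.span {a, b} = Ideal.span {d} :=
    ⟨_, (Ideal.span_singleton_generator _).symm⟩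
  obtain ⟨a', rfl⟩ := Ideal.mem_span_singleton.1 (hd ▸ Ideal.subset_span (by simp) : a ∈ Ideal.span {d})
  obtain ⟨b', rfl⟩ := Ideal.mem_span_singleton.1 (hd ▸ Ideal.subset_span (by simp) : b ∈ Ideal.span {d})
  obtain ⟨p, q, hpq⟩ := Ideal.mem_span_pair.1 (hd.symm ▸ Ideal.mem_span_singleton_self d : d ∈ Ideal.span {d * a', d * b'})
  simp only [map_mul]
  by_cases hd0 : algebraMap R (Localization.AtPrime m) d = 0
  · simp [hd0]
  have h1 : algebraMap R (Localization.AtPrime m) d *
      (algebraMap R _ p * algebraMap R _ a' + algebraMap R _ q * algebraMap R _ b' - 1) = 0 := by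
    have := congrArg (algebraMap R (Localization.AtPrime m)) hpq
    simp only [map_add, map_mul] at this
    linear_combination this
  have h2 : IsUnit (algebraMap R (Localization.AtPrime m) a') ∨ IsUnit (algebraMap R (Localization.AtPrime m) b') := by
    by_contra hcon
    push Not at hcon
    have hu : IsUnit (algebraMap R (Localization.AtPrime m) p * algebraMap R _ a' + algebraMap R _ q * algebraMap R _ b' - 1) := by
      have hmem : algebraMap R (Localization.AtPrime m) p * algebraMap R _ a' + algebraMap R _ q * algebraMap R _ b' ∈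
          IsLocalRing.maximalIdeal (Localization.AtPrime m) :=
        add_mem (Ideal.mul_mem_left _ _ hcon.1) (Ideal.mul_mem_left _ _ hcon.2)
      rw [← IsUnit.neg_iff, neg_sub]
      exact IsLocalRing.isUnit_one_sub_self_of_mem_nonunits _ hmem
    exact hd0 (hu.mul_left_eq_zero.1 h1)
  exact h2.imp (fun h => mul_dvd_mul_left _ h.dvd) (fun h => mul_dvd_mul_left _ h.dvd)

set_option maxHeartbeats 1000000 in
/-- A finitely presented torsion module over a Bezout domain is a retract of cyclic `R ⧸ (f)`. -/
theorem exists_retract_cyclic (R : Type u) [CommRing R] [IsDomain R] [IsBezout R]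
    (T : Type u) [AddCommGroup T] [Module R T] [Module.FinitePresentation R T] (hT : Module.IsTorsion R T) :
    ∃ (n : ℕ) (f : Fin n → R), (∀ j, f j ≠ 0) ∧
      ∃ (i : T →ₗ[R] ((j : Fin n) → R ⧸ Ideal.span {f j}))
        (p : ((j : Fin n) → R ⧸ Ideal.span {f j}) →ₗ[R] T), p ∘ₗ i = LinearMap.id := by
  classical
  let ι := {fx : R × T // fx.1 ≠ 0 ∧ fx.1 • fx.2 = 0}
  let π : (Π₀ k : ι, R ⧸ Ideal.span {k.1.1}) →ₗ[R] T :=
    DFinsupp.lsum ℕ fun k => Submodule.liftQ _ (LinearMap.toSpanSingleton R T k.1.2) (by
      rw [Ideal.span, Submodule.span_le, Set.singleton_subset_iff]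
      exact k.2.2)
  have hπ : ∀ (k : ι), π (DFinsupp.single k (Ideal.Quotient.mk _ 1)) = k.1.2 := fun k => by
    rw [DFinsupp.lsum_single, ← Ideal.Quotient.mk_eq_mk, Submodule.liftQ_apply]
    simp
  obtain ⟨g, hg⟩ := LinearMap.split_surjective_of_localization_maximal π fun m hm => by
    let A := Localization.AtPrime m
    let N := LocalizedModule m.primeCompl T
    let F := LocalizedModule.mkLinearMap m.primeCompl T
    let G := LocalizedModule.mkLinearMap m.primeCompl (Π₀ k : ι, R ⧸ Ideal.span {k.1.1})
    haveI : Module.FinitePresentation A N := inferInstance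
    obtain ⟨n, φ, hφ⟩ := Module.Finite.exists_fin' A N
    obtain ⟨b, a, hK⟩ := exists_diag_basis (dvd_total_atPrime m) n (LinearMap.ker φ) (Module.FinitePresentation.fg_ker φ hφ)
    have hlift : ∀ i, ∃ z, LocalizedModule.map m.primeCompl π z = φ (b i) ∧ a i • z = 0 := by
      intro i
      obtain ⟨⟨r, s⟩, hrs⟩ := IsLocalization.surj m.primeCompl (a i)
      obtain ⟨⟨y, t⟩, hyt⟩ := IsLocalizedModule.surj m.primeCompl F (φ (b i))
      have hai : a i • φ (b i) = 0 := by
        rw [← map_smul, ← LinearMap.mem_ker, hK]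
        exact Submodule.subset_span ⟨i, rfl⟩
      have hyt' : algebraMap R A (t : R) • φ (b i) = F y := by
        rw [algebraMap_smul]; exact hyt
      have h1 : F (r • y) = 0 := by
        rw [map_smul, ← algebraMap_smul A r, ← hyt', smul_smul, ← hrs, mul_assoc, mul_comm, mul_smul, hai, smul_zero]
      obtain ⟨w, hw⟩ := (IsLocalizedModule.eq_zero_iff m.primeCompl F).1 h1
      have hwt : IsUnit (algebraMap R A ((w : R) * t)) := IsLocalization.map_units A (w * t)
      obtain ⟨c, hc⟩ : ∃ c : A, c * algebraMap R A ((w : R) * t) = 1 :=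
        ⟨↑hwt.unit⁻¹, by rw [IsUnit.val_inv_mul]⟩
      have hrw : r • ((w : R) • y) = 0 := by rw [smul_comm]; exact hw
      obtain ⟨k, hk1, hk2⟩ : ∃ k : ι, k.1.2 = (w : R) • y ∧
          a i • G (DFinsupp.single k (Ideal.Quotient.mk _ 1)) = 0 := by
        by_cases hr : r = 0
        · obtain ⟨d, hd⟩ := @hT ((w : R) • y)
          refine ⟨⟨⟨(d : R), (w : R) • y⟩, nonZeroDivisors.coe_ne_zero d, hd⟩, rfl, ?_⟩
          have : a i = 0 := by
            have h := hrs
            simp only [hr, map_zero] at h
            exact (IsUnit.mul_left_eq_zero (IsLocalization.map_units A s)).1 h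
          rw [this, zero_smul]
        · refine ⟨⟨⟨r, (w : R) • y⟩, hr, hrw⟩, rfl, ?_⟩
          rw [← (IsLocalization.map_units A s).smul_eq_zero, smul_smul, mul_comm (algebraMap R A _), hrs,
            algebraMap_smul, ← map_smul, ← DFinsupp.single_smul, ← Ideal.Quotient.mk_eq_mk,
            ← Submodule.Quotient.mk_smul, smul_eq_mul, mul_one,
            (Submodule.Quotient.mk_eq_zero _).2 (Ideal.mem_span_singleton_self r), DFinsupp.single_zero, map_zero]
      refine ⟨c • G (DFinsupp.single k (Ideal.Quotient.mk _ 1)), ?_, ?_⟩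
      · rw [map_smul, show LocalizedModule.map m.primeCompl π (G (DFinsupp.single k (Ideal.Quotient.mk _ 1))) =
          F (π (DFinsupp.single k (Ideal.Quotient.mk _ 1))) from IsLocalizedModule.map_apply _ _ _ _ _,
          hπ, hk1, map_smul, ← algebraMap_smul A (w : R), ← hyt', smul_smul, smul_smul, mul_assoc, ← map_mul, hc, one_smul]
      · rw [smul_comm, hk2, smul_zero]
    choose z hz1 hz2 using hlift
    let ψ : (Fin n → A) →ₗ[A] LocalizedModule m.primeCompl (Π₀ k : ι, R ⧸ Ideal.span {k.1.1}) := b.constr A z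
    have hψ : LinearMap.ker φ ≤ LinearMap.ker ψ := by
      rw [hK, Submodule.span_le]
      rintro _ ⟨i, rfl⟩
      show ψ (a i • b i) = 0
      rw [map_smul, Module.Basis.constr_basis, hz2]
    refine ⟨(Submodule.liftQ _ ψ hψ).comp (φ.quotKerEquivOfSurjective hφ).symm.toLinearMap, ?_⟩
    apply LinearMap.ext
    intro x
    obtain ⟨v, rfl⟩ := hφ x
    have he : (φ.quotKerEquivOfSurjective hφ).symm (φ v) = Submodule.Quotient.mk v := by
      rw [LinearEquiv.symm_apply_eq]; rfl
    simp only [LinearMap.comp_apply, LinearEquiv.coe_coe, he, Submodule.liftQ_apply, LinearMap.id_apply]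
    have : (LocalizedModule.map m.primeCompl π).comp ψ = φ := b.ext fun i => by simp [ψ, hz1]
    exact LinearMap.congr_fun this v
  -- finitely many summands suffice
  obtain ⟨t, ht⟩ := (Module.Finite.fg_top : (⊤ : Submodule R T).FG)
  let S := t.biUnion fun x => (g x).support
  let e := (Fintype.equivFin S).symm
  refine ⟨Fintype.card S, fun j => (e j).1.1.1, fun j => (e j).1.2.1,
    LinearMap.pi fun j => DFinsupp.lapply (e j).1 ∘ₗ g,
    ∑ j, π ∘ₗ DFinsupp.lsingle (e j).1 ∘ₗ LinearMap.proj j, ?_⟩
  refine LinearMap.ext_on (s := (t : Set T)) ht fun x hx => ?_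
  have hgx : g x = ∑ j, DFinsupp.single (e j).1 (g x (e j).1) := by
    refine Eq.trans ?_ (e.sum_comp (fun k : S => (DFinsupp.single k.1 (g x k.1) : Π₀ k : ι, R ⧸ Ideal.span {k.1.1}))).symm
    refine Eq.trans ?_ (Finset.sum_coe_sort S (fun k => (DFinsupp.single k (g x k) : Π₀ k : ι, R ⧸ Ideal.span {k.1.1}))).symm
    conv_lhs => rw [← DFinsupp.sum_single (f := g x), DFinsupp.sum]
    refine Finset.sum_subset (fun k hk => Finset.mem_biUnion.2 ⟨x, hx, hk⟩) fun k _ hk => ?_
    rw [DFinsupp.notMem_support_iff.1 hk, DFinsupp.single_zero]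
  conv_rhs => rw [← hg, LinearMap.comp_apply, hgx, map_sum]
  simp

theorem finitePresentation_free_prod_torsion (R : Type u) [CommRing R] [IsDomain R] [IsBezout R]
    (M : Type u) [AddCommGroup M] [Module R M] [Module.FinitePresentation R M] :
    ∃ r : ℕ, Nonempty (M ≃ₗ[R] ((Fin r → R) × Submodule.torsion R M)) ∧
      Module.FinitePresentation R (Submodule.torsion R M) := by
  obtain ⟨n, f, hf⟩ := exists_injective_pi (R := R) (M := M ⧸ Submodule.torsion R M)
  haveI := free_of_injective_pi n _ f hf
  obtain ⟨σ, hσ⟩ := Module.projective_lifting_property (Submodule.torsion R M).mkQ LinearMap.id (Submodule.mkQ_surjective _)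
  have hσ' : ∀ q, (Submodule.torsion R M).mkQ (σ q) = q := fun q => LinearMap.congr_fun hσ q
  let r : M →ₗ[R] Submodule.torsion R M := (LinearMap.id - σ ∘ₗ (Submodule.torsion R M).mkQ).codRestrict _ fun x => by
    rw [← Submodule.Quotient.mk_eq_zero, ← Submodule.mkQ_apply, LinearMap.sub_apply, map_sub]
    simp only [LinearMap.id_apply, LinearMap.comp_apply, hσ', sub_self]
  have hr : ∀ t : Submodule.torsion R M, r t = t := fun t => Subtype.ext (by
    show (t : M) - σ ((Submodule.torsion R M).mkQ t) = t
    rw [Submodule.mkQ_apply, (Submodule.Quotient.mk_eq_zero _).2 t.2, map_zero, sub_zero])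
  refine ⟨Module.finrank R (M ⧸ Submodule.torsion R M), ⟨?_⟩, ?_⟩
  · refine LinearEquiv.ofLinear (((Module.finBasis R _).equivFun.toLinearMap ∘ₗ (Submodule.torsion R M).mkQ).prod r)
      ((σ ∘ₗ (Module.finBasis R _).equivFun.symm.toLinearMap).coprod (Submodule.torsion R M).subtype) ?_ ?_
    · refine LinearMap.ext fun p => ?_
      obtain ⟨v, t⟩ := p
      refine Prod.ext ?_ ?_
      · show (Module.finBasis R _).equivFun ((Submodule.torsion R M).mkQ (σ ((Module.finBasis R _).equivFun.symm v) + t)) = v
        rw [map_add, hσ', Submodule.mkQ_apply, (Submodule.Quotient.mk_eq_zero _).2 t.2, add_zero, LinearEquiv.apply_symm_apply]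
      · show r (σ ((Module.finBasis R _).equivFun.symm v) + t) = t
        rw [map_add, hr]
        convert zero_add t
        refine Subtype.ext ?_
        show σ _ - σ ((Submodule.torsion R M).mkQ (σ _)) = 0
        rw [hσ', sub_self]
    · refine LinearMap.ext fun x => ?_
      show σ ((Module.finBasis R _).equivFun.symm ((Module.finBasis R _).equivFun ((Submodule.torsion R M).mkQ x))) +
        (x - σ ((Submodule.torsion R M).mkQ x)) = x
      rw [LinearEquiv.symm_apply_apply, add_sub_cancel]
  · refine Module.finitePresentation_of_surjective r (fun t => ⟨t, hr t⟩) ?_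
    have : LinearMap.ker r = LinearMap.range σ := by
      ext x
      constructor
      · intro hx
        exact ⟨(Submodule.torsion R M).mkQ x, (sub_eq_zero.1 (congrArg Subtype.val hx : x - σ _ = 0)).symm⟩
      · rintro ⟨q, rfl⟩
        refine Subtype.ext ?_
        show σ q - σ ((Submodule.torsion R M).mkQ (σ q)) = 0
        rw [hσ', sub_self]
    rw [this, ← Submodule.map_top]
    exact Module.Finite.fg_top.map σ

end Groth.Agent.CAlgMisc2
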