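import Mathlib
import Groth.Agent.CAlgML.Projective

/-! Projective modules of infinite rank (Bass): unimodular elements, free summands, freeness. -/
universe u

namespace Groth.Agent.CAlgMisc2
set_option linter.all false

variable {R : Type u} [CommRing R] {P : Type u} [AddCommGroup P] [Module R P]

/-- `range q` has infinite rank at every maximal ideal. -/
def InfRank (q : P →ₗ[R] P) : Prop :=
  ∀ (m : Ideal R), m.IsMaximal → ∀ N : Submodule R P, N.FG → ∃ x, q x = x ∧ x ∉ N ⊔ m • (⊤ : Submodule R P)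

/-- The core: a unimodular element in a coset. -/
theorem exists_unimodular_add [IsNoetherianRing (R ⧸ (⊥ : Ideal R).jacobson)]
    (Λ : Submodule R (P →ₗ[R] R)) (s : P) (M : Submodule R P) (hM : Submodule.span R {s} ⊔ M = ⊤)
    (hinf : ∀ (m : Ideal R), m.IsMaximal → ∀ N : Submodule R P, N.FG →
      ∃ y, ∀ n ∈ N, ∃ l ∈ Λ, (l : P →ₗ[R] R) (y - n) ∉ m) :
    ∃ m ∈ M, ∃ l ∈ Λ, (l : P →ₗ[R] R) (s + m) = 1 := by
  classical
  set J : Ideal R := (⊥ : Ideal R).jacobson with hJ
  let I : P → Ideal R := fun x => Submodule.map (LinearMap.applyₗ x) Λ ⊔ J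
  let mk := Ideal.Quotient.mk J
  obtain ⟨a, ⟨μ, hμ, rfl⟩, hmax⟩ := set_has_maximal_iff_noetherian.2
    (inferInstance : IsNoetherian (R ⧸ J) (R ⧸ J)) {K | ∃ μ ∈ M, K = (I (s + μ)).map mk} ⟨_, 0, M.zero_mem, rfl⟩
  set x := s + μ with hx
  by_cases htop : I x = ⊤
  · obtain ⟨_, ⟨l, hl, rfl⟩, j, hj, hlj⟩ := Submodule.mem_sup.1 ((Ideal.eq_top_iff_one _).1 htop)
    have hu : IsUnit (l x) := by
      have h1 := Ideal.mem_jacobson_bot.1 (J.neg_mem hj) 1
      have : -j * 1 + 1 = l x := by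
        have : l x + j = 1 := hlj
        linear_combination -this
      rwa [this] at h1
    obtain ⟨v, hv⟩ := hu
    exact ⟨μ, hμ, (↑v⁻¹ : R) • l, Λ.smul_mem _ hl, by
      rw [LinearMap.smul_apply, smul_eq_mul, ← hx, ← hv, Units.inv_mul]⟩
  exfalso
  obtain ⟨m, hm, hIm⟩ := Ideal.exists_le_maximal _ htop
  obtain ⟨k, g, hg⟩ := Submodule.fg_iff_exists_fin_generating_family.1 (IsNoetherian.noetherian ((I x).map mk))
  have hg' : ∀ i, ∃ l ∈ Λ, mk ((l : P →ₗ[R] R) x) = g i := by
    intro i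
    obtain ⟨r, hr, hrg⟩ := (Ideal.mem_map_iff_of_surjective mk Ideal.Quotient.mk_surjective).1
      (hg ▸ Submodule.subset_span ⟨i, rfl⟩ : g i ∈ (I x).map mk)
    obtain ⟨_, ⟨l, hl, rfl⟩, j, hj, rfl⟩ := Submodule.mem_sup.1 hr
    refine ⟨l, hl, ?_⟩
    rw [← hrg, map_add mk, show mk j = 0 from Ideal.Quotient.eq_zero_iff_mem.2 hj, add_zero]
    rfl
  choose l hl hlg using hg'
  let Φ : P →ₗ[R] (Fin k → R ⧸ J) := LinearMap.pi fun i => (Ideal.Quotient.mkₐ R J).toLinearMap ∘ₗ l i
  have hfg : (Submodule.span (R ⧸ J) (Φ '' (M : Set P))).FG := IsNoetherian.noetherian _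
  obtain ⟨T, hTM, hT⟩ := (Submodule.fg_span_iff_fg_span_finset_subset _).1 hfg
  obtain ⟨T', hT'M, rfl⟩ := Finset.subset_set_image_iff.1 (show (T : Set _) ⊆ Φ '' (M : Set P) from hTM)
  let N : Submodule R P := Submodule.span R {s} ⊔ Submodule.span R (T' : Set P)
  obtain ⟨y, hy⟩ := hinf m hm N ((Submodule.fg_span_singleton s).sup (Submodule.fg_span T'.finite_toSet))
  obtain ⟨_, hcs, ν, hν, rfl⟩ := Submodule.mem_sup.1 (hM ▸ Submodule.mem_top : y ∈ Submodule.span R {s} ⊔ M)
  have hΦν : Φ ν ∈ Submodule.span R (Φ '' (T' : Set P)) := by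
    have h1 : Φ ν ∈ Submodule.span (R ⧸ J) (Φ '' (T' : Set P)) := by
      rw [← Finset.coe_image, ← hT]
      exact Submodule.subset_span ⟨ν, hν, rfl⟩
    rwa [← Submodule.restrictScalars_mem R, Submodule.restrictScalars_span R (R ⧸ J) Ideal.Quotient.mk_surjective] at h1
  rw [Submodule.span_image] at hΦν
  obtain ⟨n₀, hn₀, hn₀'⟩ := hΦν
  obtain ⟨l₀, hl₀, hl₀'⟩ := hy _ (add_mem (Submodule.mem_sup_left hcs) (Submodule.mem_sup_right hn₀))
  rw [add_sub_add_left_eq_sub] at hl₀'
  set m' := ν - n₀ with hm'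
  have hm'M : m' ∈ M := M.sub_mem hν ((Submodule.span_le.2 hT'M) hn₀)
  have hΦm' : ∀ i, mk (l i m') = 0 := fun i => by
    have h2 : Φ m' = 0 := by rw [hm', map_sub, hn₀', sub_self]
    exact congrFun h2 i
  have hle : (I x).map mk ≤ (I (s + (μ + m'))).map mk := by
    rw [← hg, Submodule.span_le]
    rintro _ ⟨i, rfl⟩
    have h3 : mk (l i (s + (μ + m'))) = g i := by rw [← add_assoc, ← hx, map_add, map_add, hΦm', add_zero, hlg]
    exact h3 ▸ Ideal.mem_map_of_mem mk (Submodule.mem_sup_left ⟨l i, hl i, rfl⟩)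
  have hnot : ¬ (I (s + (μ + m'))).map mk ≤ (I x).map mk := by
    intro h
    have h4 := Ideal.comap_mono (f := mk) h
    rw [Ideal.comap_map_of_surjective mk Ideal.Quotient.mk_surjective,
      Ideal.comap_map_of_surjective mk Ideal.Quotient.mk_surjective, show Ideal.comap mk ⊥ = J from Ideal.mk_ker] at h4
    have h5 : l₀ (s + (μ + m')) ∈ m :=
      sup_le hIm ((le_sup_right : J ≤ I x).trans hIm) (h4 (Submodule.mem_sup_left (Submodule.mem_sup_left ⟨l₀, hl₀, rfl⟩)))
    have h6 : l₀ x ∈ m := hIm (Submodule.mem_sup_left ⟨l₀, hl₀, rfl⟩)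
    rw [← add_assoc, ← hx, map_add] at h5
    exact hl₀' ((m.add_mem_iff_right h6).1 h5)
  exact hmax _ ⟨μ + m', M.add_mem hμ hm'M, rfl⟩ (lt_of_le_not_ge hle hnot)

theorem exists_coords [Module.Projective R P] : ∃ c : P →ₗ[R] (P →₀ R), ∀ z, Finsupp.linearCombination R id (c z) = z := by
  obtain ⟨c, hc⟩ := Module.projective_def.1 (inferInstance : Module.Projective R P)
  exact ⟨c, hc⟩

theorem mem_of_coords_mem {c : P →ₗ[R] (P →₀ R)} (hc : ∀ z, Finsupp.linearCombination R id (c z) = z)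
    (T : Finset P) (m : Ideal R) (z : P) (hz : ∀ p ∉ T, c z p ∈ m) :
    z ∈ Submodule.span R (T : Set P) ⊔ m • (⊤ : Submodule R P) := by
  classical
  conv => arg 2; rw [← hc z]
  rw [Finsupp.linearCombination_apply]
  refine Submodule.sum_mem _ fun p _ => ?_
  by_cases hp : p ∈ T
  · exact Submodule.mem_sup_left (Submodule.smul_mem _ _ (Submodule.subset_span hp))
  · exact Submodule.mem_sup_right (Submodule.smul_mem_smul (hz p hp) Submodule.mem_top)

theorem infRank_id [Module.Projective R P]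
    (hP : ∀ (m : Ideal R) [m.IsMaximal], ¬ Module.Finite (Localization.AtPrime m) (LocalizedModule m.primeCompl P)) :
    InfRank (LinearMap.id : P →ₗ[R] P) := by
  intro m hm N hN
  by_contra hcon
  push_neg at hcon
  apply hP m
  let A := Localization.AtPrime m
  let f := LocalizedModule.mkLinearMap m.primeCompl P
  haveI : Module.Projective A (LocalizedModule m.primeCompl P) :=
    Module.projective_of_isLocalizedModule m.primeCompl f
  haveI : Module.Free A (LocalizedModule m.primeCompl P) := CAlgML.free_of_projective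
  let b := Module.Free.chooseBasis A (LocalizedModule m.primeCompl P)
  classical
  obtain ⟨t, rfl⟩ := hN
  let S := t.biUnion fun p => (b.repr (f p)).support
  refine ⟨⟨S.image b, eq_top_iff.2 ?_⟩⟩
  rw [← b.span_eq, Submodule.span_le]
  rintro _ ⟨j, rfl⟩
  by_cases hj : j ∈ S
  · exact Submodule.subset_span (Finset.mem_coe.2 (Finset.mem_image_of_mem _ hj))
  exfalso
  have hN0 : ∀ z ∈ Submodule.span R (t : Set P), b.repr (f z) j = 0 := by
    intro z hz
    induction hz using Submodule.span_induction with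
    | mem p hp =>
      by_contra h
      exact hj (Finset.mem_biUnion.2 ⟨p, hp, Finsupp.mem_support_iff.2 h⟩)
    | zero => simp
    | add a c _ _ ha hc => simp [ha, hc]
    | smul r a _ ha => rw [map_smul, ← algebraMap_smul A r (f a), map_smul, Finsupp.smul_apply, ha, smul_zero]
  have hmax : ∀ z ∈ m • (⊤ : Submodule R P), b.repr (f z) j ∈ IsLocalRing.maximalIdeal A := by
    intro z hz
    refine Submodule.smul_induction_on hz (fun r hr y _ => ?_) fun u v hu hv => ?_
    · rw [map_smul, ← algebraMap_smul A r (f y), map_smul, Finsupp.smul_apply, smul_eq_mul]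
      exact Ideal.mul_mem_right _ _ ((IsLocalization.AtPrime.to_map_mem_maximal_iff A m r).2 hr)
    · rw [map_add, map_add, Finsupp.add_apply]
      exact add_mem hu hv
  obtain ⟨⟨y, s⟩, hys⟩ := IsLocalizedModule.surj m.primeCompl f (b j)
  obtain ⟨n, hn, z, hz, hyz⟩ := Submodule.mem_sup.1 (hcon y rfl)
  have h1 : b.repr (f y) j ∈ IsLocalRing.maximalIdeal A := by
    rw [← hyz, map_add, map_add, Finsupp.add_apply, hN0 n hn, zero_add]
    exact hmax z hz
  have hys' : algebraMap R A (s : R) • b j = f y := by rw [algebraMap_smul]; exact hys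
  rw [← hys', map_smul, Finsupp.smul_apply, Module.Basis.repr_self, Finsupp.single_eq_same, smul_eq_mul, mul_one] at h1
  exact (IsLocalization.AtPrime.to_map_mem_maximal_iff A m _).1 h1 |> s.2

theorem infRank_sub {q : P →ₗ[R] P} (hinf : InfRank q) {k : ℕ} (ι : (Fin k → R) →ₗ[R] P) (π : P →ₗ[R] (Fin k → R))
    (h1 : ∀ v, π (ι v) = v) (h2 : ∀ v, q (ι v) = ι v) : InfRank (q - ι ∘ₗ π) := by
  intro m hm N hN
  obtain ⟨x, hx, hxN⟩ := hinf m hm (N ⊔ LinearMap.range ι) (hN.sup (by rw [← Submodule.map_top]; exact Module.Finite.fg_top.map ι))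
  refine ⟨x - ι (π x), ?_, fun h => hxN ?_⟩
  · simp [hx, h1, h2]
  · have h' : x = (x - ι (π x)) + ι (π x) := (sub_add_cancel _ _).symm
    rw [h']
    refine add_mem ?_ (Submodule.mem_sup_left (Submodule.mem_sup_right ⟨_, rfl⟩))
    exact (sup_le_sup_right (le_sup_left : N ≤ N ⊔ LinearMap.range ι) (m • ⊤)) h

theorem exists_free_avoiding [IsNoetherianRing (R ⧸ (⊥ : Ideal R).jacobson)] [Module.Projective R P]
    {q : P →ₗ[R] P} (hq : ∀ x, q (q x) = q x) (hinf : InfRank q) (s : P) (hs : q s = s) :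
    ∀ k : ℕ, ∃ (ι : (Fin k → R) →ₗ[R] P) (π : P →ₗ[R] (Fin k → R)),
      (∀ v, π (ι v) = v) ∧ (∀ v, q (ι v) = ι v) ∧ (∀ x, π (q x) = π x) ∧ π s = 0 := by
  classical
  intro k
  induction k with
  | zero => exact ⟨0, 0, fun v => Subsingleton.elim _ _, fun v => by simp, fun x => rfl, rfl⟩
  | succ k ih =>
    obtain ⟨ι, π, h1, h2, h3, h4⟩ := ih
    let q1 := q - ι ∘ₗ π
    have hq1 : ∀ x, q1 (q1 x) = q1 x := fun x => by simp [q1, hq, h1, h2, h3]
    have hinf1 : InfRank q1 := infRank_sub hinf ι π h1 h2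
    have hs1 : q1 s = s := by simp [q1, hs, h4]
    obtain ⟨c, hc⟩ := exists_coords (R := R) (P := P)
    let T := (c s).support
    let Λ : Submodule R (P →ₗ[R] R) :=
      { carrier := {l | l ∘ₗ q1 = l ∧ l s = 0}
        zero_mem' := ⟨by simp, rfl⟩
        add_mem' := fun {a b} ha hb => ⟨by rw [LinearMap.add_comp, ha.1, hb.1], by simp [ha.2, hb.2]⟩
        smul_mem' := fun r a ha => ⟨by rw [LinearMap.smul_comp, ha.1], by simp [ha.2]⟩ }
    obtain ⟨e, -, l, ⟨hl1, hl2⟩, hl3⟩ := exists_unimodular_add Λ 0 ⊤ (by simp) (by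
      intro m hm N hN
      obtain ⟨y, hy, hyN⟩ := hinf1 m hm (N.map q1 ⊔ Submodule.span R (T : Set P))
        ((hN.map q1).sup (Submodule.fg_span T.finite_toSet))
      refine ⟨y, fun n hn => ?_⟩
      by_contra hcon
      push_neg at hcon
      apply hyN
      have hz : q1 (y - n) ∈ Submodule.span R (T : Set P) ⊔ m • ⊤ := by
        refine mem_of_coords_mem hc T m _ fun p hp => ?_
        refine hcon ((Finsupp.lapply p) ∘ₗ c ∘ₗ q1) ⟨LinearMap.ext fun x => ?_, ?_⟩
        · simp [hq1]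
        · simp only [LinearMap.comp_apply, hs1, Finsupp.lapply_apply]
          exact Finsupp.notMem_support_iff.1 hp
      have h5 : y = q1 n + q1 (y - n) := by rw [map_sub, hy]; abel
      rw [h5]
      exact add_mem (Submodule.mem_sup_left (Submodule.mem_sup_left ⟨n, hn, rfl⟩))
        ((sup_le_sup_right (le_sup_right : Submodule.span R (T : Set P) ≤ N.map q1 ⊔ Submodule.span R (T : Set P)) (m • ⊤)) hz))
    rw [zero_add] at hl3
    let e' := q1 e
    have hle : l e' = 1 := by rw [← hl3]; exact LinearMap.congr_fun hl1 e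
    have hqe : q e' = e' := by simp [e', q1, hq, h2]
    have hπe : π e' = 0 := by simp [e', q1, h1, h3]
    have hlι : ∀ v, l (ι v) = 0 := fun v => by
      rw [← LinearMap.congr_fun hl1 (ι v)]
      simp [q1, h1, h2]
    refine ⟨(LinearMap.toSpanSingleton R P e') ∘ₗ LinearMap.proj 0 + ι ∘ₗ LinearMap.funLeft R R Fin.succ,
      LinearMap.pi (Fin.cases l fun i => LinearMap.proj i ∘ₗ π), fun v => ?_, fun v => ?_, fun x => ?_, ?_⟩
    · funext i
      refine Fin.cases ?_ (fun j => ?_) i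
      · simp [hle, hlι]
      · simp [hπe, h1, LinearMap.funLeft]
    · simp [map_add, hqe, h2]
    · funext i
      refine Fin.cases ?_ (fun j => ?_) i
      · simp only [LinearMap.pi_apply, Fin.cases_zero]
        rw [← LinearMap.congr_fun hl1 (q x), ← LinearMap.congr_fun hl1 x]
        simp [q1, hq, h3]
      · simp [h3]
    · funext i
      refine Fin.cases ?_ (fun j => ?_) i
      · simp [hl2]
      · simp [h4]

theorem exists_free_containing [IsNoetherianRing (R ⧸ (⊥ : Ideal R).jacobson)] [Module.Projective R P]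
    {q : P →ₗ[R] P} (hq : ∀ x, q (q x) = q x) (hinf : InfRank q) (y : P) :
    ∃ (k : ℕ) (ι : (Fin k → R) →ₗ[R] P) (π : P →ₗ[R] (Fin k → R)),
      (∀ v, π (ι v) = v) ∧ (∀ v, q (ι v) = ι v) ∧ (∀ x, π (q x) = π x) ∧ ι (π y) = q y := by
  classical
  set s := q y with hsdef
  obtain ⟨c, hc⟩ := exists_coords (R := R) (P := P)
  let T := (c s).support
  let e := (Fintype.equivFin T).symm
  obtain ⟨ι, π, h1, h2, h3, h4⟩ := exists_free_avoiding hq hinf s (hq y) (Fintype.card T)
  let pr : P →ₗ[R] P := q - ι ∘ₗ π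
  let h : P →ₗ[R] (Fin (Fintype.card T) → R) := (LinearMap.pi fun j => Finsupp.lapply (e j).1 ∘ₗ c) ∘ₗ pr
  let π' := π + h
  let qq : (Fin (Fintype.card T) → R) →ₗ[R] P := (Pi.basisFun R _).constr R fun j => pr (e j).1
  let ι' := ι + (LinearMap.id - ι ∘ₗ π') ∘ₗ qq
  have hprι : ∀ v, pr (ι v) = 0 := fun v => by simp [pr, h1, h2]
  have hπ'ι : ∀ v, π' (ι v) = v := fun v => by simp [π', h, h1, hprι]
  have hprs : pr s = s := by simp [pr, s, hq, h4]
  have hcs : qq (h s) = s := by
    conv_rhs => rw [← hprs, ← hc s, Finsupp.linearCombination_apply, map_finsuppSum]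
    simp only [qq, Module.Basis.constr_apply_fintype]
    rw [Finsupp.sum, ← Finset.sum_coe_sort (c s).support, ← e.sum_comp]
    refine Finset.sum_congr rfl fun j _ => ?_
    simp [h, hprs]
  have hπ's : π' s = h s := by simp [π', h4]
  refine ⟨_, ι', π', fun v => ?_, fun v => ?_, fun x => ?_, ?_⟩
  · simp [ι', hπ'ι]
  · have hqpr : ∀ z, q (pr z) = pr z := fun z => by simp [pr, hq, h2]
    have hqq : q (qq v) = qq v := by
      simp only [qq, Module.Basis.constr_apply_fintype, map_sum, map_smul, hqpr]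
    simp [ι', h2, hqq]
  · have : pr (q x) = pr x := by simp [pr, hq, h3]
    simp [π', h, h3, this]
  · have h5 : π' y = π' s := by
      have : pr s = pr y := by simp [pr, s, hq, h3]
      simp [π', h, this, s, h3]
    rw [h5, hπ's]
    show ι (h s) + (qq (h s) - ι (π' (qq (h s)))) = s
    rw [hcs, hπ's, add_sub_cancel]

theorem free_of_countable [IsNoetherianRing (R ⧸ (⊥ : Ideal R).jacobson)] [Module.Projective R P]
    (hinf : InfRank (LinearMap.id : P →ₗ[R] P)) (g : ℕ → P) (hg : Submodule.span R (Set.range g) = ⊤) :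
    Module.Free R P := by
  classical
  let St := {q : P →ₗ[R] P // (∀ x, q (q x) = q x) ∧ InfRank q}
  have step : ∀ (q : St) (y : P), ∃ (q' : St) (k : ℕ) (ι : (Fin k → R) →ₗ[R] P) (π : P →ₗ[R] (Fin k → R)),
      (∀ v, π (ι v) = v) ∧ (∀ v, q.1 (ι v) = ι v) ∧ (∀ x, π (q.1 x) = π x) ∧
      (∀ x, q'.1 x = q.1 x - ι (π x)) ∧ q'.1 y = 0 := by
    rintro ⟨q, hq, hinfq⟩ y
    obtain ⟨k, ι, π, h1, h2, h3, h4⟩ := exists_free_containing hq hinfq y
    exact ⟨⟨q - ι ∘ₗ π, fun x => by simp [hq, h1, h2, h3], infRank_sub hinfq ι π h1 h2⟩, k, ι, π, h1, h2, h3,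
      fun x => rfl, by simp [h4]⟩
  choose nx kk ιι ππ h1 h2 h3 h4 h5 using step
  let Q : ℕ → St := fun n => Nat.rec (motive := fun _ => St) ⟨LinearMap.id, fun _ => rfl, hinf⟩ (fun n q => nx q (g n)) n
  let k : ℕ → ℕ := fun n => kk (Q n) (g n)
  let ι : ∀ n, (Fin (k n) → R) →ₗ[R] P := fun n => ιι (Q n) (g n)
  let π : ∀ n, P →ₗ[R] (Fin (k n) → R) := fun n => ππ (Q n) (g n)
  have hQ : ∀ n x, (Q (n + 1)).1 x = (Q n).1 x - ι n (π n x) := fun n x => h4 (Q n) (g n) x
  have hzero : ∀ n v j, n < j → (Q j).1 (ι n v) = 0 := by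
    intro n v j hj
    induction j, (hj : n + 1 ≤ j) using Nat.le_induction with
    | base => rw [hQ, h2 (Q n) (g n), h1 (Q n) (g n), sub_self]
    | succ j hj ih =>
      rw [hQ, ih, zero_sub, neg_eq_zero]
      rw [← h3 (Q j) (g j) (ι n v), ih]
      simp
  have hfix : ∀ j x, (Q j).1 x = x → ∀ i, i ≤ j → (Q i).1 x = x := by
    intro j
    induction j with
    | zero => intro x hx i hi; rw [Nat.le_zero.1 hi]; exact hx
    | succ j ih =>
      intro x hx i hi
      rcases Nat.lt_or_ge i (j + 1) with h | h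
      · refine ih x ?_ i (Nat.lt_succ_iff.1 h)
        have e1 : (Q j).1 x = x + ι j (π j x) := by rw [eq_comm, ← eq_sub_iff_add_eq, ← hQ]; exact hx.symm
        have e2 := congrArg (Q j).1 e1
        rw [(Q j).2.1, map_add, h2 (Q j) (g j), e1] at e2
        exact e1.trans (by
          have : ι j (π j x) = 0 := by simpa using e2
          rw [this, add_zero])
      · rw [le_antisymm hi h]; exact hx
  have hδ : ∀ n v j, j ≠ n → π j (ι n v) = 0 := by
    intro n v j hj
    rcases lt_or_gt_of_ne hj with h | h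
    · have hfix' : (Q (j + 1)).1 (ι n v) = ι n v := hfix n _ (h2 (Q n) (g n) v) (j + 1) h
      have e1 := hQ j (ι n v)
      rw [hfix', hfix n _ (h2 (Q n) (g n) v) j h.le] at e1
      have e3 : ι j (π j (ι n v)) = 0 := sub_eq_self.1 e1.symm
      have := congrArg (π j) e3
      rwa [h1 (Q j) (g j), map_zero] at this
    · rw [← h3 (Q j) (g j), hzero n v j h, map_zero]
  let b : (Σ n, Fin (k n)) → P := fun p => ι p.1 (Pi.single p.2 1)
  have hli : LinearIndependent R b := by
    rw [linearIndependent_iff]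
    intro l hl
    ext ⟨n, i⟩
    have := congrArg (fun z => π n z i) hl
    simp only [Finsupp.linearCombination_apply, map_finsuppSum, map_smul, map_zero, Pi.zero_apply] at this
    rw [Finsupp.sum, Finset.sum_apply, Finset.sum_eq_single ⟨n, i⟩] at this
    · simpa [b, π, ι, h1] using this
    · rintro ⟨n', i'⟩ _ hne
      by_cases hn : n' = n
      · subst hn
        have : i ≠ i' := fun h => hne (by rw [h])
        simp [b, π, ι, h1, this]
      · simp [b, hδ n' _ n (Ne.symm hn)]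
    · intro hnot
      simp [Finsupp.notMem_support_iff.1 hnot]
  have hspan : ∀ n x, x - (Q n).1 x ∈ Submodule.span R (Set.range b) := by
    intro n
    induction n with
    | zero => intro x; simp [Q]
    | succ n ih =>
      intro x
      rw [hQ, show x - ((Q n).1 x - ι n (π n x)) = (x - (Q n).1 x) + ι n (π n x) by abel]
      refine add_mem (ih x) ?_
      rw [pi_eq_sum_univ' (π n x), map_sum]
      refine Submodule.sum_mem _ fun i _ => ?_
      rw [map_smul]
      exact Submodule.smul_mem _ _ (Submodule.subset_span ⟨⟨n, i⟩, rfl⟩)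
  refine Module.Free.of_basis (Module.Basis.mk hli ?_)
  rw [← hg, Submodule.span_le]
  rintro _ ⟨n, rfl⟩
  have := hspan (n + 1) (g n)
  rwa [show (Q (n + 1)).1 (g n) = 0 from h5 (Q n) (g n), sub_zero] at this

end Groth.Agent.CAlgMisc2
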