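import Groth.Agent.CAlgH3.CMPolynomial
import Groth.Agent.CommAlg6.AtPrime

/-! Chains of primes in rings with a Cohen–Macaulay module of full support. -/

universe u

open IsLocalRing

namespace Groth.Agent.CAlgMisc2

variable {R : Type u} [CommRing R] [IsLocalRing R] [IsNoetherianRing R]
  {M : Type u} [AddCommGroup M] [Module R M] [Module.Finite R M]

theorem supportDim_eq_of_support_eq_univ (h : Module.support R M = Set.univ) :
    Module.supportDim R M = ringKrullDim R := by
  rw [Module.supportDim, h]
  exact Order.krullDim_eq_of_orderIso OrderIso.Set.univ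

theorem height_maximalIdeal_le_add_one (hM : _root_.LocCoh.IsCohenMacaulayModule R M)
    (hsupp : Module.support R M = Set.univ) {p : PrimeSpectrum R}
    (h : ∀ q : PrimeSpectrum R, p < q → q.asIdeal = maximalIdeal R) :
    (maximalIdeal R).height ≤ p.asIdeal.height + 1 := by
  have := CAlgH3.nontrivial_of_cm hM
  obtain ⟨n, hn⟩ := CAlgH3.exists_depth_eq_natCast (R := R) (M := M)
  obtain ⟨-, h2⟩ := CAlgH3.localization_isCohenMacaulayModule n M hn hM p.asIdeal
    (hsupp ▸ Set.mem_univ p)
  have hd : ringKrullDim (R ⧸ p.asIdeal) ≤ (1 : ℕ∞) := by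
    have hpm : (maximalIdeal R).IsPrime := inferInstance
    refine Order.krullDim_le_one_iff.2 fun x => ?_
    have hx : p.asIdeal ≤ x.asIdeal.comap (Ideal.Quotient.mk p.asIdeal) := fun r hr => by
      rw [Ideal.mem_comap, Ideal.Quotient.eq_zero_iff_mem.2 hr]; exact zero_mem _
    by_cases hxp : x.asIdeal.comap (Ideal.Quotient.mk p.asIdeal) = p.asIdeal
    · refine Or.inl fun y hy => ?_
      have hc : y.asIdeal.comap (Ideal.Quotient.mk p.asIdeal) = x.asIdeal.comap (Ideal.Quotient.mk p.asIdeal) :=
        le_antisymm (Ideal.comap_mono hy) (hxp.le.trans fun r hr => by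
          rw [Ideal.mem_comap, Ideal.Quotient.eq_zero_iff_mem.2 hr]; exact zero_mem _)
      show x.asIdeal ≤ y.asIdeal
      exact (Ideal.comap_injective_of_surjective _ Ideal.Quotient.mk_surjective hc).ge
    · refine Or.inr fun y hy => ?_
      have hc := h (PrimeSpectrum.comap (Ideal.Quotient.mk p.asIdeal) x) (lt_of_le_of_ne hx
        fun he => hxp (congrArg PrimeSpectrum.asIdeal he).symm)
      show y.asIdeal ≤ x.asIdeal
      have hle : y.asIdeal.comap (Ideal.Quotient.mk p.asIdeal) ≤ x.asIdeal.comap (Ideal.Quotient.mk p.asIdeal) :=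
        (le_maximalIdeal (Ideal.comap_ne_top _ y.2.ne_top)).trans hc.ge
      rwa [Ideal.comap_le_comap_iff_of_surjective _ Ideal.Quotient.mk_surjective] at hle
  rw [← WithBot.coe_le_coe, maximalIdeal_height_eq_ringKrullDim,
    ← supportDim_eq_of_support_eq_univ hsupp, ← h2, WithBot.coe_add]
  refine add_le_add ?_ hd
  rw [← IsLocalization.AtPrime.ringKrullDim_eq_height p.asIdeal (Localization.AtPrime p.asIdeal)]
  exact Module.supportDim_le_ringKrullDim _ _

theorem height_eq_add_one_of_covBy (hM : _root_.LocCoh.IsCohenMacaulayModule R M)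
    (hsupp : Module.support R M = Set.univ) {p q : PrimeSpectrum R} (h : p ⋖ q) :
    q.asIdeal.height = p.asIdeal.height + 1 := by
  refine le_antisymm ?_ (Ideal.height_add_one_le_of_lt_of_isPrime h.lt)
  have := CAlgH3.nontrivial_of_cm hM
  obtain ⟨n, hn⟩ := CAlgH3.exists_depth_eq_natCast (R := R) (M := M)
  obtain ⟨hq, -⟩ := CAlgH3.localization_isCohenMacaulayModule n M hn hM q.asIdeal
    (hsupp ▸ Set.mem_univ q)
  let A := Localization.AtPrime q.asIdeal
  have hsA : Module.support A (LocalizedModule q.asIdeal.primeCompl M) = Set.univ :=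
    Set.eq_univ_of_forall fun P => (CommAlg6.mem_support_localizedModule q.asIdeal P).2
      (hsupp ▸ Set.mem_univ _)
  obtain ⟨P, hP, hPp⟩ := CommAlg6.exists_under_eq q.asIdeal p.asIdeal h.le
  have hmax : (maximalIdeal A).under R = q.asIdeal :=
    IsLocalization.AtPrime.under_maximalIdeal A q.asIdeal
  have key := height_maximalIdeal_le_add_one hq hsA (p := ⟨P, hP⟩) fun Q hQ => by
    have h1 : p ≤ PrimeSpectrum.comap (algebraMap R A) Q := by
      show p.asIdeal ≤ Q.asIdeal.under R
      rw [← hPp]; exact Ideal.comap_mono hQ.le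
    have h2 : PrimeSpectrum.comap (algebraMap R A) Q ≤ q := CommAlg6.under_le q.asIdeal Q.asIdeal
    rcases h1.eq_or_lt with he | hlt
    · refine absurd ?_ hQ.ne
      apply PrimeSpectrum.ext
      show P = Q.asIdeal
      rw [← IsLocalization.map_under q.asIdeal.primeCompl A P,
        ← IsLocalization.map_under q.asIdeal.primeCompl A Q.asIdeal, hPp]
      exact congrArg (fun t : Ideal R => t.map (algebraMap R A)) (congrArg PrimeSpectrum.asIdeal he)
    · have he : PrimeSpectrum.comap (algebraMap R A) Q = q := by
        by_contra hne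
        exact h.2 hlt (lt_of_le_of_ne h2 hne)
      have he' : Q.asIdeal.under R = q.asIdeal := congrArg PrimeSpectrum.asIdeal he
      rw [← IsLocalization.map_under q.asIdeal.primeCompl A Q.asIdeal, he']
      exact Localization.AtPrime.map_eq_maximalIdeal
  have e1 := IsLocalization.height_under q.asIdeal.primeCompl (maximalIdeal A)
  have e2 := IsLocalization.height_under q.asIdeal.primeCompl P
  rw [← e1, ← e2, hmax, hPp] at key
  exact key

theorem length_eq_ringKrullDim (hM : _root_.LocCoh.IsCohenMacaulayModule R M)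
    (hsupp : Module.support R M = Set.univ) (s : LTSeries (PrimeSpectrum R))
    (hhead : s.head.asIdeal ∈ minimalPrimes R) (hlast : s.last.asIdeal = maximalIdeal R)
    (hsat : ∀ i : Fin s.length, s (Fin.castSucc i) ⋖ s (Fin.succ i)) :
    (s.length : WithBot ℕ∞) = ringKrullDim R := by
  have key : ∀ i : Fin (s.length + 1), (s i).asIdeal.height = (i : ℕ) := by
    intro i
    induction i using Fin.induction with
    | zero =>
      rw [Fin.val_zero, Nat.cast_zero, Ideal.height_eq_zero_iff]
      exact hhead
    | succ i ih =>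
      rw [height_eq_add_one_of_covBy hM hsupp (hsat i), ih]
      simp
  have h1 := key (Fin.last s.length)
  rw [show s (Fin.last s.length) = s.last from rfl, hlast, Fin.val_last] at h1
  rw [← maximalIdeal_height_eq_ringKrullDim, h1]
  rfl

end Groth.Agent.CAlgMisc2
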