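import Mathlib

/-! When is the cokernel of a map of finite projective modules projective near a prime. -/
set_option autoImplicit false
universe u v w
open TensorProduct

namespace Groth.Agent.CAlgMisc2

variable {R : Type u} [CommRing R] {M : Type v} {N : Type w} [AddCommGroup M] [Module R M]
  [AddCommGroup N] [Module R N]

theorem ker_baseChange_le_iff (K : Type u) [CommRing K] [Algebra R K] (d : M →ₗ[R] N) :
    LinearMap.ker (d.baseChange K) ≤ LinearMap.range ((LinearMap.ker d).subtype.baseChange K) ↔
      Function.Injective ((LinearMap.range d).subtype.lTensor K) := by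
  have hs : Function.Surjective d.rangeRestrict := d.surjective_rangeRestrict
  have hex : Function.Exact (LinearMap.ker d).subtype d.rangeRestrict := by
    rw [LinearMap.exact_iff, LinearMap.ker_rangeRestrict, Submodule.range_subtype]
  have hex' := lTensor_exact K hex hs
  have hd : ∀ x, d.baseChange K x = (LinearMap.range d).subtype.lTensor K (d.rangeRestrict.lTensor K x) := fun x => by
    rw [← LinearMap.lTensor_comp_apply, show (LinearMap.range d).subtype ∘ₗ d.rangeRestrict = d from rfl]; rfl
  constructor
  · intro h
    rw [injective_iff_map_eq_zero]
    intro y hy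
    obtain ⟨x, rfl⟩ := LinearMap.lTensor_surjective K hs y
    obtain ⟨z, hz⟩ := h (show x ∈ LinearMap.ker (d.baseChange K) by rw [LinearMap.mem_ker, hd, hy])
    exact (hex' x).2 ⟨z, hz⟩
  · intro h x hx
    rw [LinearMap.mem_ker, hd] at hx
    obtain ⟨z, hz⟩ := (hex' x).1 (h (hx.trans (map_zero _).symm))
    exact ⟨z, hz⟩

theorem baseChange_range_inclusion_residue_iff [Module.Finite R M] [Module.Finite R N] [Module.Projective R N]
    (d : M →ₗ[R] N) (p : Ideal R) [p.IsPrime] :
    Function.Injective ((LinearMap.range d).subtype.lTensor p.ResidueField) ↔
      Module.Projective (Localization.AtPrime p) (Localization.AtPrime p ⊗[R] (N ⧸ LinearMap.range d)) := by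
  let A := Localization.AtPrime p
  let κ := p.ResidueField
  let P := LinearMap.range d
  have : Module.Finite R P := Module.Finite.range d
  let ι := P.subtype.baseChange A
  let q := P.mkQ.baseChange A
  have hq : Function.Surjective q := LinearMap.lTensor_surjective A P.mkQ_surjective
  have hex : Function.Exact ι q := lTensor_exact A (LinearMap.exact_subtype_mkQ P) P.mkQ_surjective
  have hι : Function.Injective ι :=
    Module.Flat.lTensor_preserves_injective_linearMap (M := A) P.subtype Subtype.val_injective
  let eP := AlgebraTensorModule.cancelBaseChange R A A κ P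
  let eN := AlgebraTensorModule.cancelBaseChange R A A κ N
  have hcomm : ∀ x, eN (ι.lTensor κ x) = P.subtype.lTensor κ (eP x) := by
    intro x
    induction x using TensorProduct.induction_on with
    | zero => simp
    | add a b ha hb => simp only [map_add, ha, hb]
    | tmul k y =>
      induction y using TensorProduct.induction_on with
      | zero => simp
      | add a b ha hb => simp only [tmul_add, map_add, ha, hb]
      | tmul a z => simp [ι, eN, eP]
  have hiff : Function.Injective (P.subtype.lTensor κ) ↔ Function.Injective (ι.lTensor κ) := by
    constructor
    · intro h x y hxy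
      exact eP.injective (h (by rw [← hcomm, ← hcomm, hxy]))
    · intro h x y hxy
      obtain ⟨x, rfl⟩ := eP.surjective x
      obtain ⟨y, rfl⟩ := eP.surjective y
      rw [← hcomm, ← hcomm] at hxy
      rw [h (eN.injective hxy)]
  rw [hiff]
  have : Module.Free A (A ⊗[R] N) := Module.free_of_flat_of_isLocalRing
  constructor
  · intro h
    have := Module.free_of_lTensor_residueField_injective ι q hq hex h
    exact Module.Projective.of_free
  · intro h
    refine (IsLocalRing.split_injective_iff_lTensor_residueField_injective ι).1 ?_
    obtain ⟨s, hs⟩ := Module.projective_lifting_property q LinearMap.id hq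
    exact ((Function.Exact.split_tfae hex hι hq).out 0 1 : (∃ l, q ∘ₗ l = LinearMap.id) ↔ _).1 ⟨s, hs⟩

theorem condition_iff_exists [Module.Finite R M] [Module.Finite R N] [Module.Projective R N]
    (d : M →ₗ[R] N) (p : Ideal R) [p.IsPrime] :
    LinearMap.ker (d.baseChange p.ResidueField) ≤
        LinearMap.range ((LinearMap.ker d).subtype.baseChange p.ResidueField) ↔
      ∃ f : R, f ∉ p ∧
        Module.Projective (Localization.Away f)
          (LocalizedModule (Submonoid.powers f) (N ⧸ LinearMap.range d)) := by
  rw [ker_baseChange_le_iff, baseChange_range_inclusion_residue_iff]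
  let A := Localization.AtPrime p
  let C := N ⧸ LinearMap.range d
  have : Module.FinitePresentation R N := Module.finitePresentation_of_projective R N
  have : Module.FinitePresentation R C := Module.finitePresentation_of_surjective (LinearMap.range d).mkQ
    (Submodule.mkQ_surjective _) (by rw [Submodule.ker_mkQ]; exact Module.Finite.iff_fg.1 (Module.Finite.range d))
  let eC : A ⊗[R] C ≃ₗ[A] LocalizedModule p.primeCompl C :=
    (LocalizedModule.isBaseChange p.primeCompl C).equiv
  constructor
  · intro h
    have : Module.Projective A (LocalizedModule p.primeCompl C) := Module.Projective.of_equiv eC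
    have : Module.Free A (LocalizedModule p.primeCompl C) := Module.free_of_flat_of_isLocalRing
    obtain ⟨r, hr, hr', -⟩ := Module.FinitePresentation.exists_free_localizedModule_powers
      p.primeCompl (LocalizedModule.mkLinearMap p.primeCompl C) A
    exact ⟨r, hr, Module.Projective.of_free⟩
  · rintro ⟨f, hf, h⟩
    let Rf := Localization.Away f
    letI : Algebra Rf A := (IsLocalization.Away.lift f (g := algebraMap R A)
      (IsLocalization.map_units A (⟨f, hf⟩ : p.primeCompl))).toAlgebra
    have : IsScalarTower R Rf A := IsScalarTower.of_algebraMap_eq' (IsLocalization.Away.lift_comp f _).symm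
    have : Module.Projective Rf (Rf ⊗[R] C) :=
      Module.Projective.of_equiv (LocalizedModule.isBaseChange (Submonoid.powers f) C).equiv.symm
    exact Module.Projective.of_equiv (AlgebraTensorModule.cancelBaseChange R Rf A A C)

theorem projective_coker_iff [Module.Finite R M] [Module.Finite R N] [Module.Projective R N] (d : M →ₗ[R] N) :
    Module.Projective R (N ⧸ LinearMap.range d) ↔
      ∀ p : PrimeSpectrum R,
        LinearMap.ker (d.baseChange p.asIdeal.ResidueField) ≤
          LinearMap.range ((LinearMap.ker d).subtype.baseChange p.asIdeal.ResidueField) := by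
  refine ⟨fun h p => ?_, fun h => ?_⟩
  · rw [ker_baseChange_le_iff, baseChange_range_inclusion_residue_iff]
    infer_instance
  · have : Module.FinitePresentation R N := Module.finitePresentation_of_projective R N
    have : Module.FinitePresentation R (N ⧸ LinearMap.range d) :=
      Module.finitePresentation_of_surjective (LinearMap.range d).mkQ (Submodule.mkQ_surjective _)
        (by rw [Submodule.ker_mkQ]; exact Module.Finite.iff_fg.1 (Module.Finite.range d))
    refine Module.projective_of_localization_maximal fun m hm => ?_
    have h1 := h ⟨m, hm.isPrime⟩
    rw [ker_baseChange_le_iff, baseChange_range_inclusion_residue_iff] at h1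
    exact Module.Projective.of_equiv (LocalizedModule.isBaseChange m.primeCompl _).equiv

end Groth.Agent.CAlgMisc2
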