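import Mathlib

/-! A numerical characterisation of DVRs. -/
universe u

namespace Groth.Agent.CAlgMisc2

open IsLocalRing

theorem dvr_iff {R : Type u} [CommRing R] [IsLocalRing R] [IsNoetherianRing R] :
    (∃ _ : IsDomain R, IsDiscreteValuationRing R) ↔ (maximalIdeal R).spanFinrank ≤ 1 ∧ ringKrullDim R = 1 := by
  constructor
  · rintro ⟨_, _⟩
    refine ⟨?_, IsDiscreteValuationRing.ringKrullDim_eq_one R⟩
    obtain ⟨t, ht⟩ := (IsPrincipalIdealRing.principal (maximalIdeal R)).principal
    rw [ht]
    refine (Submodule.spanFinrank_span_le_ncard_of_finite (Set.finite_singleton t)).trans ?_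
    simp
  · rintro ⟨h1, h2⟩
    obtain ⟨t, ht⟩ : ∃ t, maximalIdeal R = Ideal.span {t} := by
      have hfg : (maximalIdeal R).FG := IsNoetherian.noetherian _
      obtain ⟨s, hs1, hs2⟩ := Submodule.FG.exists_span_set_encard_eq_spanFinrank hfg
      have : s.encard ≤ 1 := by rw [hs1]; exact_mod_cast h1
      rcases Set.encard_le_one_iff_eq.1 this with rfl | ⟨t, rfl⟩
      · exact ⟨0, by simpa using hs2.symm⟩
      · exact ⟨t, hs2.symm⟩
    have hnil : ¬ IsNilpotent t := by
      intro hn
      have hle : maximalIdeal R ≤ nilradical R := by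
        rw [ht, Ideal.span_le, Set.singleton_subset_iff]; exact hn
      haveI : Ring.KrullDimLE 0 R := by
        refine Ring.KrullDimLE.mk₀ fun P hP => ?_
        rw [show P = maximalIdeal R from le_antisymm (IsLocalRing.le_maximalIdeal hP.ne_top)
          (hle.trans (nilradical_le_prime P))]
        infer_instance
      rw [Ring.krullDimLE_iff, h2] at this
      exact absurd this (by norm_num)
    have hdec : ∀ x : R, x ≠ 0 → ∃ k u, IsUnit u ∧ x = u * t ^ k := by
      intro x hx
      have hex : ∃ k, x ∉ maximalIdeal R ^ k := by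
        by_contra hcon
        push_neg at hcon
        exact hx (by
          have := Submodule.mem_iInf (fun k => maximalIdeal R ^ k) |>.2 hcon
          rwa [Ideal.iInf_pow_eq_bot_of_isLocalRing _ (maximalIdeal.isMaximal R).ne_top, Ideal.mem_bot] at this)
      classical
      obtain ⟨k, hk, hmin⟩ : ∃ k, x ∉ maximalIdeal R ^ k ∧ ∀ j < k, x ∈ maximalIdeal R ^ j :=
        ⟨Nat.find hex, Nat.find_spec hex, fun j hj => not_not.1 (Nat.find_min hex hj)⟩
      obtain ⟨k, rfl⟩ := Nat.exists_eq_succ_of_ne_zero (show k ≠ 0 from fun h => hk (by simp [h]))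
      have hx' := hmin k k.lt_succ_self
      rw [ht, Ideal.span_singleton_pow, Ideal.mem_span_singleton'] at hx'
      obtain ⟨u, rfl⟩ := hx'
      refine ⟨k, u, ?_, rfl⟩
      by_contra hu
      apply hk
      have hu' : u ∈ maximalIdeal R := (mem_maximalIdeal u).2 hu
      rw [pow_succ']
      exact Ideal.mul_mem_mul hu' (Ideal.pow_mem_pow (ht ▸ Ideal.mem_span_singleton_self t) k)
    haveI : NoZeroDivisors R := ⟨fun {x y} hxy => by
      by_contra hcon
      push_neg at hcon
      obtain ⟨k, u, hu, rfl⟩ := hdec x hcon.1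
      obtain ⟨l, v, hv, rfl⟩ := hdec y hcon.2
      exact hnil ⟨k + l, (hu.mul hv).mul_right_eq_zero.1 (by rw [pow_add, ← hxy]; ring)⟩⟩
    haveI : IsDomain R := NoZeroDivisors.to_isDomain R
    have hf : ¬ IsField R := fun h => by
      rw [ringKrullDim_eq_zero_of_isField h] at h2
      exact absurd h2 (by norm_num)
    have hp : (maximalIdeal R).IsPrincipal := ⟨⟨t, ht⟩⟩
    have h := (IsDiscreteValuationRing.TFAE R hf).out 4 0
    exact ⟨inferInstance, h.1 hp⟩

end Groth.Agent.CAlgMisc2
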