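import Groth.Agent.CommAlg4.DecayingNoetherian
import Groth.Agent.S17539
import Groth.Agent.Matlis6.CompletionNoetherian
import Mathlib

/-! Completions of free modules inside products. -/
set_option autoImplicit false
universe u
open W4c5adicflatcompl
open TensorProduct

namespace Groth.Agent.CAlgMisc2

variable {R : Type u} [CommRing R] [IsNoetherianRing R]

theorem decaying_subtype_univ_injective (I : Ideal R) [IsAdicComplete I R] (α : Type u) (Q : Type u)
    [AddCommGroup Q] [Module R Q] : Function.Injective ((decaying I α R).subtype.rTensor Q) := by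
  have hfin : ∀ (N : Type u) [AddCommGroup N] [Module R N] [Module.Finite R N],
      Function.Injective ((decaying I α R).subtype.lTensor N) := fun N _ _ _ x y h => by
    refine (Groth.Agent.CommAlg4.decaying_tensor I α N).1 ?_
    simp only [LinearMap.comp_apply, h]
  rw [← LinearMap.lTensor_inj_iff_rTensor_inj]
  refine (injective_iff_map_eq_zero _).2 fun x hx => ?_
  obtain ⟨N, hN, hsub⟩ := TensorProduct.exists_finite_submodule_left_of_setFinite
    ({x} : Set (Q ⊗[R] decaying I α R)) (Set.finite_singleton x)
  obtain ⟨y, rfl⟩ := hsub rfl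
  have h1 : N.subtype.rTensor (α → R) ((decaying I α R).subtype.lTensor N y) =
      N.subtype.rTensor (α → R) 0 := by
    rw [map_zero, ← hx]
    exact LinearMap.congr_fun (by rw [LinearMap.rTensor_comp_lTensor, LinearMap.lTensor_comp_rTensor] :
      N.subtype.rTensor (α → R) ∘ₗ (decaying I α R).subtype.lTensor N =
        (decaying I α R).subtype.lTensor Q ∘ₗ N.subtype.rTensor (decaying I α R)) y
  obtain ⟨N', hN', hle, h2⟩ := (Module.Finite.iff_fg.1 hN).exists_rTensor_fg_inclusion_eq h1
  have : Module.Finite R N' := Module.Finite.iff_fg.2 hN'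
  have h3 : (decaying I α R).subtype.lTensor N' ((N.inclusion hle).rTensor _ y) = 0 := by
    rw [map_zero] at h2
    rw [← h2]
    exact LinearMap.congr_fun (by rw [LinearMap.rTensor_comp_lTensor, LinearMap.lTensor_comp_rTensor] :
      (decaying I α R).subtype.lTensor N' ∘ₗ (N.inclusion hle).rTensor (decaying I α R) =
        (N.inclusion hle).rTensor (α → R) ∘ₗ (decaying I α R).subtype.lTensor N) y
  have h4 : (N.inclusion hle).rTensor (decaying I α R) y = 0 := hfin N' (by rw [h3, map_zero])
  rw [show N.subtype = N'.subtype.comp (N.inclusion hle) from rfl, LinearMap.rTensor_comp, LinearMap.comp_apply,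
    h4, map_zero]

/-- The completion of a free module over a complete ring, inside the product. -/
theorem universallyInjective_completion (I : Ideal R) [IsAdicComplete I R] (α : Type u)
    (f : AdicCompletion I (α →₀ R) →ₗ[R] (α → AdicCompletion I R)) (hf : Function.Injective f)
    (hr : LinearMap.range f = decaying I α (AdicCompletion I R)) (Q : Type u) [AddCommGroup Q] [Module R Q] :
    Function.Injective (f.rTensor Q) := by
  let e := LinearEquiv.piCongrRight fun _ : α => AdicCompletion.ofLinearEquiv I R
  have hmem : ∀ v, e v ∈ decaying I α (AdicCompletion I R) ↔ v ∈ decaying I α R := by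
    intro v
    refine forall_congr' fun n => ?_
    have : ∀ z, (e v z ∈ (I ^ n • ⊤ : Submodule R (AdicCompletion I R))) ↔ v z ∈ (I ^ n • ⊤ : Submodule R R) := fun z =>
      ⟨fun h => by
        have := Groth.Agent.CommAlg4.map_mem_pow (AdicCompletion.ofLinearEquiv I R).symm.toLinearMap h
        simpa [e] using this, fun h => Groth.Agent.CommAlg4.map_mem_pow (AdicCompletion.ofLinearEquiv I R).toLinearMap h⟩
    simp only [this]
  have hmem' : ∀ x, e.symm (f x) ∈ decaying I α R := fun x => by
    rw [← hmem, LinearEquiv.apply_symm_apply, ← hr]; exact ⟨x, rfl⟩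
  let g : AdicCompletion I (α →₀ R) →ₗ[R] decaying I α R := (e.symm.toLinearMap.comp f).codRestrict _ hmem'
  have hg : Function.Bijective g := by
    refine ⟨fun a b h => hf (e.symm.injective (congrArg Subtype.val h)), fun d => ?_⟩
    have : e d.1 ∈ LinearMap.range f := by rw [hr, hmem]; exact d.2
    obtain ⟨x, hx⟩ := this
    exact ⟨x, Subtype.ext (show e.symm (f x) = d.1 by rw [hx, LinearEquiv.symm_apply_apply])⟩
  have hfg : f = e.toLinearMap.comp ((decaying I α R).subtype.comp g) :=
    LinearMap.ext fun x => (e.apply_symm_apply (f x)).symm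
  rw [hfg, LinearMap.rTensor_comp, LinearMap.rTensor_comp]
  exact (e.rTensor Q).injective.comp ((decaying_subtype_univ_injective I α Q).comp
    ((LinearEquiv.ofBijective g hg).rTensor Q).injective)

theorem flat_completion (I : Ideal R) (α : Type u) : Module.Flat R (AdicCompletion I (α →₀ R)) := by
  let A := AdicCompletion I R
  let J := I.map (algebraMap R A)
  have hI : I.FG := IsNoetherian.noetherian I
  have hN : IsNoetherianRing A := Groth.Agent.Matlis6.isNoetherianRing_adicCompletion I
  have hcR : IsAdicComplete I A := AdicCompletion.isAdicComplete hI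
  have hc : IsAdicComplete J A := (IsAdicComplete.map_algebraMap_iff _ _).mpr hcR
  have := Groth.Agent.CommAlg4.flat_decaying (A := A) J α
  obtain ⟨h1, h2⟩ := Groth.Agent.S17539.result I α R
  have hsame : ∀ v : α → A, v ∈ decaying J α A ↔ v ∈ decaying I α A := by
    intro v
    refine forall_congr' fun n => ?_
    have : ∀ z, v z ∈ (J ^ n • ⊤ : Submodule A A) ↔ v z ∈ (I ^ n • ⊤ : Submodule R A) := fun z => by
      rw [smul_eq_mul, Ideal.mul_top, Ideal.smul_top_eq_map, Submodule.restrictScalars_mem, Ideal.map_pow]
    simp only [this]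
  let e1 : AdicCompletion I (α →₀ R) ≃ₗ[R] decaying I α A :=
    (LinearEquiv.ofInjective _ h1).trans (LinearEquiv.ofEq _ _ h2)
  let e2 : decaying I α A ≃ₗ[R] decaying J α A :=
    { toFun := fun v => ⟨v.1, (hsame _).2 v.2⟩, invFun := fun v => ⟨v.1, (hsame _).1 v.2⟩,
      map_add' := fun _ _ => rfl, map_smul' := fun _ _ => rfl }
  have : Module.Flat R (decaying J α A) := Module.Flat.trans R A _
  exact Module.Flat.of_linearEquiv (e1.trans e2)

end Groth.Agent.CAlgMisc2
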