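import Mathlib

/-! The iterated equalizer chain of a finite injective extension reaches the base. -/
universe u

namespace Groth.Agent.CAlgMisc2
set_option linter.all false

open TensorProduct Function

/-- An element with `x ⊗ 1 = 1 ⊗ x` over a field is a scalar. -/
theorem mem_span_one_of_tmul_comm {k V : Type u} [Field k] [CommRing V] [Algebra k V] (x : V)
    (h : x ⊗ₜ[k] (1 : V) = (1 : V) ⊗ₜ[k] x) : x ∈ Submodule.span k {(1 : V)} := by
  by_contra hx
  obtain ⟨φ, hφx, hφ⟩ := Submodule.exists_dual_map_eq_bot_of_notMem hx inferInstance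
  have hφ1 : φ 1 = 0 := by
    have : φ 1 ∈ (Submodule.span k {(1 : V)}).map φ := Submodule.mem_map_of_mem (Submodule.mem_span_singleton_self 1)
    rwa [hφ, Submodule.mem_bot] at this
  have h2 := congrArg (fun z => TensorProduct.lid k V (LinearMap.rTensor V φ z)) h
  simp only [LinearMap.rTensor_tmul, TensorProduct.lid_tmul, hφ1, zero_smul] at h2
  exact (smul_eq_zero.1 h2).elim hφx fun h1 => hφx (by
    rw [show x = 0 by rw [← one_mul x, h1, zero_mul], map_zero])

theorem isArtinian_of_killed {R : Type u} [CommRing R] [IsNoetherianRing R] {M : Type u} [AddCommGroup M]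
    [Module R M] [Module.Finite R M] (I : Ideal R) (h : ∀ r ∈ I, ∀ x : M, r • x = 0)
    [Ring.KrullDimLE 0 (R ⧸ I)] : IsArtinian R M := by
  have hI : Module.IsTorsionBySet R M I := fun x r => h r r.2 x
  haveI : IsArtinianRing (R ⧸ I) := IsNoetherianRing.isArtinianRing_of_krullDimLE_zero
  letI := hI.module
  haveI : IsScalarTower R (R ⧸ I) M := hI.isScalarTower
  haveI : Module.Finite (R ⧸ I) M := Module.Finite.of_restrictScalars_finite R _ _
  haveI : IsArtinian (R ⧸ I) M := isArtinian_of_fg_of_artinian'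
  exact isArtinian_of_surjective_algebraMap (R := R ⧸ I) Ideal.Quotient.mk_surjective

theorem equalizer_chain_eq_bot (A B : Type u) [CommRing A] [CommRing B] [Algebra A B]
    [IsNoetherianRing A] [Module.Finite A B]
    (C : ℕ → Subalgebra A B)
    (hstep : ∀ (i : ℕ) (b : B), b ∈ C (i + 1) ↔ ∃ hb : b ∈ C i,
      ((⟨b, hb⟩ : C i) ⊗ₜ[A] (1 : C i) : C i ⊗[A] C i) = (1 : C i) ⊗ₜ[A] (⟨b, hb⟩ : C i)) :
    ∃ m : ℕ, C m = ⊥ := by
  classical
  let A' : Submodule A B := Subalgebra.toSubmodule (⊥ : Subalgebra A B)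
  let D : ℕ → Submodule A (B ⧸ A') := fun i => (Subalgebra.toSubmodule (C i)).map A'.mkQ
  have hanti : ∀ i j, i ≤ j → D j ≤ D i := by
    intro i j hij
    induction hij with
    | refl => exact le_rfl
    | step hij ih => exact le_trans (Submodule.map_mono fun b hb => ((hstep _ b).1 hb).1) ih
  obtain ⟨n₀, hn₀⟩ := monotone_stabilizes_iff_noetherian.mpr (inferInstance : IsNoetherian A A)
    ⟨fun i => (Module.annihilator A (D i) : Submodule A A), fun i j hij => fun r hr => Module.mem_annihilator.2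
      fun x => Subtype.ext (show r • (x : B ⧸ A') = 0 from congrArg Subtype.val (Module.mem_annihilator.1 hr ⟨x.1, hanti i j hij x.2⟩))⟩
  set 𝔞 : Ideal A := Module.annihilator A (D n₀) with h𝔞
  by_cases htop : 𝔞 = ⊤
  · refine ⟨n₀, eq_bot_iff.2 fun b hb => ?_⟩
    have h1 : (1 : A) • (⟨A'.mkQ b, Submodule.mem_map_of_mem hb⟩ : D n₀) = 0 :=
      Module.mem_annihilator.1 ((Ideal.eq_top_iff_one _).1 htop : (1 : A) ∈ 𝔞) _
    rw [one_smul] at h1
    exact (Submodule.Quotient.mk_eq_zero A').1 (congrArg Subtype.val h1)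
  exfalso
  obtain ⟨P, hP⟩ := Ideal.nonempty_minimalPrimes htop
  haveI := hP.1.1
  let p : PrimeSpectrum A := ⟨P, hP.1.1⟩
  let Ap := Localization.AtPrime P
  let f := LocalizedModule.mkLinearMap P.primeCompl (B ⧸ A')
  let L : ℕ → Submodule Ap (LocalizedModule P.primeCompl (B ⧸ A')) := fun i =>
    Submodule.localized' Ap P.primeCompl f (D i)
  have hLanti : ∀ i j, i ≤ j → L j ≤ L i := by
    intro i j hij x hx
    rw [Submodule.mem_localized'] at hx ⊢
    obtain ⟨m, hm, s, rfl⟩ := hx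
    exact ⟨m, hanti i j hij hm, s, rfl⟩
  let I : Ideal Ap := 𝔞.map (algebraMap A Ap)
  have hIL : Module.IsTorsionBySet Ap (L n₀) I := by
    intro x ⟨r, hr⟩
    show r • x = 0
    have hr' : r ∈ Submodule.span Ap (algebraMap A Ap '' (𝔞 : Set A)) := hr
    clear hr
    induction hr' using Submodule.span_induction with
    | mem r hr =>
      obtain ⟨a, ha, rfl⟩ := hr
      refine Subtype.ext ?_
      obtain ⟨y, hy⟩ := x
      obtain ⟨m, hm, s, rfl⟩ := (Submodule.mem_localized' ..).1 hy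
      show algebraMap A Ap a • IsLocalizedModule.mk' f m s = 0
      rw [algebraMap_smul, ← IsLocalizedModule.mk'_smul,
        show a • m = 0 from congrArg Subtype.val (Module.mem_annihilator.1 ha ⟨m, hm⟩), IsLocalizedModule.mk'_zero]
    | zero => exact zero_smul _ _
    | add a b _ _ ha hb => rw [add_smul, ha, hb, add_zero]
    | smul c a _ ha => rw [smul_assoc, ha, smul_zero]
  haveI : Module.Finite A (B ⧸ A') := inferInstance
  haveI : IsNoetherianRing Ap := IsLocalization.isNoetherianRing P.primeCompl Ap inferInstance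
  haveI : Module.Finite Ap (L n₀) := Module.Finite.iff_fg.2 (IsNoetherian.noetherian _)
  haveI : Ring.KrullDimLE 0 (Ap ⧸ I) := by
    refine Ring.KrullDimLE.mk₀ fun q hq => ?_
    let q' := q.comap (Ideal.Quotient.mk I)
    haveI : q'.IsPrime := Ideal.comap_isPrime _ _
    have hq' : q' = IsLocalRing.maximalIdeal Ap := by
      have h1 : q'.comap (algebraMap A Ap) ≤ P :=
        le_trans (Ideal.comap_mono (IsLocalRing.le_maximalIdeal (Ideal.IsPrime.ne_top ‹_›)))
          (IsLocalization.AtPrime.comap_maximalIdeal Ap P).le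
      have hIq : I ≤ q' := fun r hr => by
        show Ideal.Quotient.mk I r ∈ q
        rw [Ideal.Quotient.eq_zero_iff_mem.2 hr]
        exact q.zero_mem
      have h2 : P ≤ q'.comap (algebraMap A Ap) :=
        hP.2 ⟨inferInstance, Ideal.map_le_iff_le_comap.1 hIq⟩ h1
      refine le_antisymm (IsLocalRing.le_maximalIdeal (Ideal.IsPrime.ne_top ‹_›)) ?_
      rw [← Localization.AtPrime.map_eq_maximalIdeal]
      exact Ideal.map_le_iff_le_comap.2 h2
    have hmax : q'.IsMaximal := hq' ▸ inferInstance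
    have : q = q'.map (Ideal.Quotient.mk I) := (Ideal.map_comap_of_surjective _ Ideal.Quotient.mk_surjective q).symm
    rcases Ideal.map_eq_top_or_isMaximal_of_surjective (Ideal.Quotient.mk I) Ideal.Quotient.mk_surjective hmax with h | h
    · exact absurd (this.trans h) hq.ne_top
    · exact this ▸ h
  haveI : IsArtinian Ap (L n₀) := isArtinian_of_killed I fun r hr x => @hIL x ⟨r, hr⟩
  obtain ⟨k, hk⟩ := IsArtinian.monotone_stabilizes (M := L n₀) (R := Ap)
    ⟨fun i => OrderDual.toDual ((L (n₀ + i)).comap (L n₀).subtype),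
      fun i j hij => Submodule.comap_mono (hLanti _ _ (Nat.add_le_add_left hij n₀))⟩
  have hL : L (n₀ + k) = L (n₀ + (k + 1)) := by
    have h1 : (L (n₀ + k)).comap (L n₀).subtype = (L (n₀ + (k + 1))).comap (L n₀).subtype := hk (k + 1) (Nat.le_succ k)
    refine le_antisymm (fun x hx => ?_) (hLanti _ _ (Nat.le_succ _))
    exact (h1 ▸ (show (⟨x, hLanti _ _ (Nat.le_add_right _ _) hx⟩ : L n₀) ∈ (L (n₀ + k)).comap (L n₀).subtype from hx) :
      (⟨x, hLanti _ _ (Nat.le_add_right _ _) hx⟩ : L n₀) ∈ (L (n₀ + (k + 1))).comap (L n₀).subtype)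
  set m := n₀ + k with hm
  let K := P.ResidueField
  have hone : ∀ b : C m, (1 : K) ⊗ₜ[A] b ∈ Submodule.span K {(1 : K ⊗[A] C m)} := by
    intro b
    have h1 : f (A'.mkQ b) ∈ L (n₀ + (k + 1)) := hL ▸ (Submodule.mem_localized' ..).2
      ⟨A'.mkQ b, Submodule.mem_map_of_mem b.2, 1, IsLocalizedModule.mk'_one _ _ _⟩
    obtain ⟨d, hd, t, hdt⟩ := (Submodule.mem_localized' ..).1 h1
    have h2 : f d = f ((t : A) • A'.mkQ b) := by
      rw [map_smul, ← hdt]
      exact (IsLocalizedModule.mk'_cancel' f d t).symm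
    obtain ⟨c, hc⟩ := (IsLocalizedModule.eq_iff_exists P.primeCompl f).1 h2
    obtain ⟨e, he, hed⟩ := hd
    have h3 : ((c : A) * t) • (b : B) ∈ C (m + 1) := by
      have h4 : A'.mkQ (((c : A) * t) • (b : B) - (c : A) • e) = 0 := by
        rw [map_sub, map_smul, map_smul, hed, mul_smul]
        exact sub_eq_zero.2 hc.symm
      have h5 : ((c : A) * t) • (b : B) - (c : A) • e ∈ C (m + 1) :=
        (bot_le : (⊥ : Subalgebra A B) ≤ C (m + 1)) ((Submodule.Quotient.mk_eq_zero A').1 h4)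
      have h6 := add_mem h5 (Subalgebra.smul_mem (C (m + 1)) (show e ∈ C (m + 1) from he) (c : A))
      rwa [sub_add_cancel] at h6
    obtain ⟨hb', heq⟩ := (hstep m _).1 h3
    let ε : C m →ₐ[A] K ⊗[A] C m := Algebra.TensorProduct.includeRight
    let ε2 : (C m ⊗[A] C m) →ₗ[A] (K ⊗[A] C m) ⊗[K] (K ⊗[A] C m) :=
      TensorProduct.lift (((TensorProduct.mk K (K ⊗[A] C m) (K ⊗[A] C m)).restrictScalars₁₂ A A).compl₁₂
        ε.toLinearMap ε.toLinearMap)
    have hε2 : ∀ u v : C m, ε2 (u ⊗ₜ v) = ((1 : K) ⊗ₜ[A] u) ⊗ₜ[K] ((1 : K) ⊗ₜ[A] v) := fun u v => rfl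
    have h7 := congrArg ε2 heq
    rw [hε2, hε2] at h7
    have h8 : ((1 : K) ⊗ₜ[A] (⟨((c : A) * t) • (b : B), hb'⟩ : C m) : K ⊗[A] C m) =
        algebraMap A K ((c : A) * t) • ((1 : K) ⊗ₜ[A] b) := by
      rw [algebraMap_smul, ← tmul_smul]
      rfl
    have h9 := mem_span_one_of_tmul_comm ((1 : K) ⊗ₜ[A] (⟨((c : A) * t) • (b : B), hb'⟩ : C m)) h7
    rw [h8] at h9
    have hu : algebraMap A K ((c : A) * t) ≠ 0 := fun h =>
      (c * t).2 (Ideal.algebraMap_residueField_eq_zero.1 h)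
    have := Submodule.smul_mem _ (algebraMap A K ((c : A) * t))⁻¹ h9
    rwa [smul_smul, inv_mul_cancel₀ hu, one_smul] at this
  let π : C m →ₗ[A] D m := (A'.mkQ ∘ₗ (C m).val.toLinearMap).codRestrict (D m) fun b => Submodule.mem_map_of_mem b.2
  have hzero : ∀ z : K ⊗[A] D m, z = 0 := by
    intro z
    induction z with
    | zero => rfl
    | add a b ha hb => rw [ha, hb, add_zero]
    | tmul a d =>
      obtain ⟨_, b, hb, rfl⟩ := d
      obtain ⟨r, hr⟩ := Submodule.mem_span_singleton.1 (hone ⟨b, hb⟩)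
      have h1 : π.baseChange K ((1 : K) ⊗ₜ[A] (⟨b, hb⟩ : C m)) = 0 := by
        rw [← hr, map_smul, Algebra.TensorProduct.one_def, LinearMap.baseChange_tmul,
          show π 1 = 0 from Subtype.ext ((Submodule.Quotient.mk_eq_zero A').2 (Subalgebra.one_mem ⊥)),
          tmul_zero, smul_zero]
      have h2 : (a ⊗ₜ[A] (π ⟨b, hb⟩) : K ⊗[A] D m) = a • π.baseChange K ((1 : K) ⊗ₜ[A] (⟨b, hb⟩ : C m)) := by
        rw [LinearMap.baseChange_tmul, smul_tmul', smul_eq_mul, mul_one]
      show a ⊗ₜ[A] (π ⟨b, hb⟩) = 0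
      rw [h2, h1, smul_zero]
  haveI : Module.Finite A (D m) := Module.Finite.iff_fg.2 (IsNoetherian.noetherian _)
  have hsupp : p ∈ Module.support A (D m) := by
    rw [Module.mem_support_iff_of_finite]
    show Module.annihilator A (D m) ≤ P
    have : Module.annihilator A (D m) = 𝔞 := (hn₀ m (Nat.le_add_right _ _)).symm
    rw [this]
    exact hP.1.2
  obtain ⟨z, z', hzz⟩ := (Module.mem_support_iff_nontrivial_residueField_tensorProduct p).1 hsupp
  exact hzz ((hzero z).trans (hzero z').symm)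

end Groth.Agent.CAlgMisc2
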