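import Mathlib
import Groth.Agent.FlatCrit.Inj

/-! Exactness from exactness modulo the maximal ideal of the base. -/
universe u

namespace Groth.Agent.CAlgMisc2
set_option linter.all false

open TensorProduct Function IsLocalRing

variable {R S : Type u} [CommRing R] [CommRing S] [IsLocalRing R] [IsLocalRing S] [IsNoetherianRing S]
  [Algebra R S] [IsLocalHom (algebraMap R S)]
  {A B D : Type u} [AddCommGroup A] [Module S A] [AddCommGroup B] [Module S B] [Module.Finite S B]
  [AddCommGroup D] [Module S D] [Module R D] [IsScalarTower R S D] [Module.Flat R D]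

theorem exact_and_flat_of_exact_mod_max (f : A →ₗ[S] B) (g : B →ₗ[S] D) (hgf : ∀ a, g (f a) = 0)
    (hmod : ∀ x : B, g x ∈ (maximalIdeal R).map (algebraMap R S) • (⊤ : Submodule S D) →
      x ∈ LinearMap.range f ⊔ (maximalIdeal R).map (algebraMap R S) • (⊤ : Submodule S B)) :
    Exact f g ∧ Module.Flat R (D ⧸ LinearMap.range g) := by
  let Q := B ⧸ LinearMap.range f
  letI : Module R Q := Module.compHom Q (algebraMap R S)
  haveI : IsScalarTower R S Q := IsScalarTower.of_algebraMap_smul fun _ _ => rfl
  let v : Q →ₗ[S] D := (LinearMap.range f).liftQ g (by rintro _ ⟨a, rfl⟩; exact hgf a)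
  let u : Q →ₗ[R] D := v.restrictScalars R
  have hres : ∀ (E : Type u) [AddCommGroup E] [Module S E] [Module R E] [IsScalarTower R S E],
      ((maximalIdeal R).map (algebraMap R S) • (⊤ : Submodule S E)).restrictScalars R
      = maximalIdeal R • (⊤ : Submodule R E) := fun E _ _ _ _ => by
    rw [Ideal.smul_restrictScalars, Submodule.restrictScalars_top]
  have h : Injective (u.lTensor (ResidueField R)) := by
    rw [injective_iff_map_eq_zero]
    intro z hz
    obtain ⟨q, rfl⟩ := TensorProduct.mk_surjective R Q (ResidueField R) Ideal.Quotient.mk_surjective z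
    rw [TensorProduct.mk_apply, LinearMap.lTensor_tmul] at hz
    have h1 : u q ∈ LinearMap.ker (TensorProduct.mk R (R ⧸ maximalIdeal R) D 1) := hz
    rw [LinearMap.ker_tensorProductMk, ← hres, Submodule.restrictScalars_mem] at h1
    obtain ⟨x, rfl⟩ := Submodule.Quotient.mk_surjective _ q
    obtain ⟨_, ⟨a, rfl⟩, y, hy, hxy⟩ := Submodule.mem_sup.1 (hmod x h1)
    have h2 : (Submodule.Quotient.mk x : Q) ∈ LinearMap.ker (TensorProduct.mk R (R ⧸ maximalIdeal R) Q 1) := by
      rw [LinearMap.ker_tensorProductMk, ← hres, Submodule.restrictScalars_mem, ← hxy]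
      rw [Submodule.Quotient.mk_add, (Submodule.Quotient.mk_eq_zero _).2 (LinearMap.mem_range_self f a), zero_add]
      exact (Submodule.map_smul'' _ ⊤ (LinearMap.range f).mkQ).trans_le (Submodule.smul_mono le_rfl le_top)
        (Submodule.mem_map_of_mem hy)
    exact h2
  have hjac : (maximalIdeal R).map (algebraMap R S) ≤ Ideal.jacobson ⊥ := by
    rw [IsLocalRing.jacobson_eq_maximalIdeal ⊥ bot_ne_top]
    exact ((IsLocalRing.local_hom_TFAE (algebraMap R S)).out 0 2).mp (inferInstance : IsLocalHom (algebraMap R S))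
  refine ⟨fun x => ⟨fun hx => ?_, by rintro ⟨a, rfl⟩; exact hgf a⟩, ?_⟩
  · exact (Submodule.Quotient.mk_eq_zero _).1
      ((injective_iff_map_eq_zero _).1 (FlatCrit.injective_of_injective_mod_max u h hjac) (Submodule.Quotient.mk x) hx)
  · have := FlatCrit.flat_coker_of_injective_mod_max u h hjac
    have e : LinearMap.range u = (LinearMap.range g).restrictScalars R := by
      ext d
      constructor
      · rintro ⟨q, rfl⟩
        obtain ⟨x, rfl⟩ := Submodule.Quotient.mk_surjective _ q
        exact ⟨x, rfl⟩
      · rintro ⟨x, rfl⟩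
        exact ⟨Submodule.Quotient.mk x, rfl⟩
    exact Module.Flat.of_linearEquiv ((Submodule.Quotient.restrictScalarsEquiv R (LinearMap.range g)).symm ≪≫ₗ
      Submodule.quotEquivOfEq _ _ e.symm)

end Groth.Agent.CAlgMisc2
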