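import Mathlib

/-! Finite presentation of modules along surjective ring maps. -/
universe u

namespace Groth.Agent.CAlgMisc2

open TensorProduct

theorem fp_of_surjective {P Q M : Type u} [CommRing P] [CommRing Q] [Algebra P Q] [AddCommGroup M] [Module P M]
    [Module Q M] [IsScalarTower P Q M] (hs : Function.Surjective (algebraMap P Q))
    [Module.FinitePresentation P M] : Module.FinitePresentation Q M := by
  haveI : Algebra.IsEpi P Q := Algebra.isEpi_of_surjective_algebraMap P Q hs
  let e : Q ⊗[P] M →ₗ[Q] M := (LinearMap.id : M →ₗ[P] M).liftBaseChange Q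
  have hb : Function.Bijective e := by
    refine ⟨?_, fun x => ⟨1 ⊗ₜ x, by simp [e]⟩⟩
    have h : ⇑e = ⇑(TensorProduct.lift <| LinearMap.restrictScalars₁₂ P P (LinearMap.lsmul Q M)) := by
      funext z
      induction z with
      | zero => simp
      | add a b ha hb => simp only [map_add, ha, hb]
      | tmul a b => simp [e]
    rw [h]
    exact Algebra.injective_lift_lsmul P Q M
  exact Module.FinitePresentation.of_equiv (LinearEquiv.ofBijective e hb)

theorem fp_restrict_of_surjective {P Q M : Type u} [CommRing P] [CommRing Q] [Algebra P Q] [AddCommGroup M]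
    [Module P M] [Module Q M] [IsScalarTower P Q M] (hs : Function.Surjective (algebraMap P Q))
    (hker : (RingHom.ker (algebraMap P Q)).FG)
    [Module.FinitePresentation Q M] : Module.FinitePresentation P M := by
  haveI : Module.FinitePresentation P Q :=
    Module.finitePresentation_of_surjective (Algebra.linearMap P Q) hs hker
  exact Module.FinitePresentation.trans (R := P) (M := M) Q

theorem fp_presentation_iff {R A M : Type u} [CommRing R] [CommRing A] [Algebra R A] [AddCommGroup M] [Module A M]
    {P Q : Type u} [CommRing P] [CommRing Q] [Algebra R P] [Algebra R Q] [Algebra.FinitePresentation R P]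
    [Algebra.FinitePresentation R Q] (γ : P →ₐ[R] A) (α : Q →ₐ[R] A) (φ : P →ₐ[R] Q)
    (hφ : Function.Surjective φ) (hc : α.comp φ = γ) :
    @Module.FinitePresentation Q M _ _ (Module.compHom M α.toRingHom) ↔
      @Module.FinitePresentation P M _ _ (Module.compHom M γ.toRingHom) := by
  letI : Module Q M := Module.compHom M α.toRingHom
  letI : Module P M := Module.compHom M γ.toRingHom
  letI : Algebra P Q := φ.toRingHom.toAlgebra
  haveI : IsScalarTower P Q M := IsScalarTower.of_algebraMap_smul fun p m => by
    show α (φ p) • m = γ p • m
    rw [← hc]; rfl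
  constructor
  · intro h
    exact fp_restrict_of_surjective (P := P) (Q := Q) hφ (Algebra.FinitePresentation.ker_fG_of_surjective φ hφ)
  · intro h
    exact fp_of_surjective (P := P) (Q := Q) hφ

end Groth.Agent.CAlgMisc2
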