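import Mathlib
import Groth.Agent.CAlgMisc2.FlatNil
import Groth.Agent.CAlgMisc2.TorsionFree

/-! Flatness descends along finite injective maps of Noetherian rings. -/
universe u

namespace Groth.Agent.CAlgMisc2
set_option linter.all false

open TensorProduct Function

variable {R : Type u} [CommRing R] {M : Type u} [AddCommGroup M] [Module R M]

theorem flat_baseChange_tower (S A : Type u) [CommRing S] [CommRing A] [Algebra R S] [Algebra R A]
    [Algebra S A] [IsScalarTower R S A] [Module.Flat S (S ⊗[R] M)] : Module.Flat A (A ⊗[R] M) :=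
  Module.Flat.of_linearEquiv (AlgebraTensorModule.cancelBaseChange R S A A M).symm

theorem flat_baseChange_bot (S A : Type u) [CommRing S] [CommRing A] [Algebra R S] [Algebra R A]
    [Algebra A S] [IsScalarTower R A S] [Module.Flat S (S ⊗[R] M)] : Module.Flat S (S ⊗[A] (A ⊗[R] M)) :=
  Module.Flat.of_linearEquiv (AlgebraTensorModule.cancelBaseChange R A S S M)

theorem quotFlat_baseChange (A : Type u) [CommRing A] [Algebra R A] (I' : Ideal R)
    (h : FlatCrit.QuotFlat R M I') :
    FlatCrit.QuotFlat A (A ⊗[R] M) (I'.map (algebraMap R A)) := by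
  intro X Y _ _ _ _ i hY hi
  letI := Module.compHom X (algebraMap R A)
  letI := Module.compHom Y (algebraMap R A)
  haveI : IsScalarTower R A X := IsScalarTower.of_algebraMap_smul fun r x => rfl
  haveI : IsScalarTower R A Y := IsScalarTower.of_algebraMap_smul fun r x => rfl
  exact (rTensor_restrictScalars_injective_iff i).1
    (h (i.restrictScalars R) (fun r hr y => hY _ (Ideal.mem_map_of_mem _ hr) y) hi)

theorem quotFlat_finset_inf {ι : Type*} (s : Finset ι) (f : ι → Ideal R)
    (h : ∀ i ∈ s, FlatCrit.QuotFlat R M (f i)) : FlatCrit.QuotFlat R M (s.inf f) := by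
  classical
  induction s using Finset.induction_on with
  | empty =>
    intro A B _ _ _ _ i hB hi
    have hA : ∀ a : A, a = 0 := fun a => hi (by
      rw [map_zero, ← one_smul R (i a)]
      exact hB 1 (by simp) _)
    have : ∀ x : A ⊗[R] M, x = 0 := fun x => by
      induction x with
      | zero => rfl
      | tmul a m => rw [hA a, zero_tmul]
      | add x y hx hy => rw [hx, hy, add_zero]
    exact fun x y _ => by rw [this x, this y]
  | insert a s ha ih =>
    rw [Finset.inf_insert]
    exact FlatCrit.quotFlat_of_flat _ (flat_quotient_inf _ _ (h a (Finset.mem_insert_self a s))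
      (ih fun i hi => h i (Finset.mem_insert_of_mem hi)))

theorem quotFlat_radical [IsNoetherianRing R] (I : Ideal R)
    (h : ∀ P ∈ I.minimalPrimes, FlatCrit.QuotFlat R M P) : FlatCrit.QuotFlat R M I.radical := by
  have hf := Ideal.finite_minimalPrimes_of_isNoetherianRing R I
  have := quotFlat_finset_inf hf.toFinset id fun P hP => h P (hf.mem_toFinset.1 hP)
  rwa [Finset.inf_id_eq_sInf, hf.coe_toFinset, Ideal.sInf_minimalPrimes] at this

/-- The domain case. -/
theorem flat_of_domain_core [IsDomain R] [IsNoetherianRing R] (S : Type u) [CommRing S] [IsDomain S]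
    [Algebra R S] [Module.Finite R S] (hinj : Injective (algebraMap R S)) [Module.Flat S (S ⊗[R] M)]
    (hq : ∀ (J : Ideal R), J ≠ ⊥ → (J.map (algebraMap R S)).comap (algebraMap R S) = J → FlatCrit.QuotFlat R M J) :
    Module.Flat R M := by
  classical
  haveI : Module.IsTorsionFree R S :=
    (Module.isTorsionFree_iff_smul_eq_zero ..).2 fun r s h => by
      rw [Algebra.smul_def, mul_eq_zero] at h
      exact h.imp_left fun h => hinj (by rw [h, map_zero])
  obtain ⟨d, emb, hemb⟩ := exists_injective_pi (R := R) (M := S)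
  obtain ⟨i0, hi0⟩ : ∃ i, emb 1 i ≠ 0 := by
    by_contra h
    push Not at h
    exact one_ne_zero (hemb (a₁ := (1 : S)) (a₂ := 0) (by rw [map_zero]; funext i; exact h i))
  let φ : S →ₗ[R] R := LinearMap.proj i0 ∘ₗ emb
  set c := φ 1 with hc
  have hc0 : c ≠ 0 := hi0
  have hφr : ∀ r : R, φ (algebraMap R S r) = r * c := fun r => by
    rw [Algebra.algebraMap_eq_smul_one, map_smul, smul_eq_mul, ← hc]
  have hone : ∀ m : M, c • m = TensorProduct.lid R M (φ.rTensor M ((1 : S) ⊗ₜ[R] m)) := fun m => by simp [hc]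
  have hc2 : ∀ m : M, c ^ 2 • m = 0 → c • m = 0 := by
    intro m hm
    have h1 : (algebraMap R S c ^ 2) • ((1 : S) ⊗ₜ[R] m) = (0 : S ⊗[R] M) := by
      rw [← map_pow, algebraMap_smul, ← tmul_smul, hm, tmul_zero]
    have h2 : ((1 : S) ⊗ₜ[R] m : S ⊗[R] M) = 0 :=
      (smul_eq_zero.1 h1).resolve_left (pow_ne_zero 2 fun h => hc0 (hinj (by rw [h, map_zero])))
    rw [hone, h2, map_zero, map_zero]
  let μ : ∀ N : Ideal R, (N ⊗[R] M) →ₗ[R] M := fun N => (TensorProduct.lid R M).toLinearMap ∘ₗ N.subtype.rTensor M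
  rw [Module.Flat.iff_rTensor_injective']
  intro N
  have hker : ∀ x, μ N x = 0 → c • x = 0 := by
    intro x hx
    have hx0 : N.subtype.rTensor M x = 0 := (TensorProduct.lid R M).map_eq_zero_iff.1 hx
    let NS := N.map (algebraMap R S)
    let ι : N →ₗ[R] NS :=
      { toFun := fun n => ⟨algebraMap R S n, Ideal.mem_map_of_mem _ n.2⟩
        map_add' := fun a b => Subtype.ext (map_add (algebraMap R S) (a : R) b)
        map_smul' := fun r a => Subtype.ext (by
          show algebraMap R S (r * (a : R)) = r • algebraMap R S a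
          rw [map_mul, Algebra.smul_def]) }
    have hψ : ∀ z ∈ NS.restrictScalars R, φ z ∈ N := by
      intro z hz
      rw [← Ideal.smul_top_eq_map] at hz
      refine Submodule.smul_induction_on hz (fun r hr s _ => ?_) fun a b ha hb => ?_
      · rw [map_smul, smul_eq_mul]
        exact N.mul_mem_right _ hr
      · rw [map_add]
        exact add_mem ha hb
    let ψ : NS →ₗ[R] N := (φ ∘ₗ NS.subtype.restrictScalars R).codRestrict N fun z => hψ z z.2
    have hinjNS : Injective ((NS.subtype.restrictScalars R).rTensor M) :=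
      rTensor_injective_of_flat_baseChange (S := S) NS.subtype Subtype.val_injective
    have hιx : ι.rTensor M x = 0 := by
      apply hinjNS
      rw [map_zero]
      have h2 : ((NS.subtype.restrictScalars R).rTensor M) ∘ₗ (ι.rTensor M) =
          ((Algebra.linearMap R S).rTensor M) ∘ₗ N.subtype.rTensor M := by
        rw [← LinearMap.rTensor_comp, ← LinearMap.rTensor_comp]
        rfl
      have h3 := LinearMap.congr_fun h2 x
      simp only [LinearMap.comp_apply, hx0, map_zero] at h3
      exact h3
    have hcomp : ψ ∘ₗ ι = c • LinearMap.id := LinearMap.ext fun n => Subtype.ext (by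
      show φ (algebraMap R S n) = c * n
      rw [hφr, mul_comm])
    have := congrArg (fun f => LinearMap.rTensor M f x) hcomp
    simp only [LinearMap.rTensor_comp, LinearMap.comp_apply, hιx, map_zero, LinearMap.rTensor_smul,
      LinearMap.rTensor_id, LinearMap.smul_apply, LinearMap.id_apply] at this
    exact this.symm
  rw [injective_iff_map_eq_zero]
  intro x hx
  have hx' : μ N x = 0 := by simp [μ, hx]
  obtain ⟨k, hk⟩ := Ideal.exists_pow_inf_eq_pow_smul (I := Ideal.span {c}) (N : Submodule R R)
  let Jc := Ideal.span {c ^ (k + 3)}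
  let J := (Jc.map (algebraMap R S)).comap (algebraMap R S)
  have hJ0 : J ≠ ⊥ := fun h => pow_ne_zero (k + 3) hc0 (Ideal.mem_bot.1 (h ▸
    (Ideal.le_comap_map (Ideal.mem_span_singleton_self (c ^ (k + 3))))))
  have hJfix : (J.map (algebraMap R S)).comap (algebraMap R S) = J :=
    le_antisymm (Ideal.comap_mono Ideal.map_comap_le) Ideal.le_comap_map
  have hJle : ∀ a ∈ J, a ∈ Ideal.span {c} ^ (k + 2) := by
    intro a ha
    rw [Ideal.mem_comap, Ideal.map_span, Set.image_singleton, Ideal.mem_span_singleton] at ha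
    obtain ⟨s, hs⟩ := ha
    have h1 := congrArg φ hs
    rw [hφr, ← Algebra.smul_def, map_smul, smul_eq_mul, pow_succ, mul_assoc, mul_left_comm, mul_comm a c] at h1
    rw [Ideal.span_singleton_pow, Ideal.mem_span_singleton]
    exact ⟨φ s, mul_left_cancel₀ hc0 h1⟩
  let f : N →ₗ[R] R ⧸ J := J.mkQ ∘ₗ N.subtype
  have hmem : x ∈ LinearMap.range ((LinearMap.ker f).subtype.rTensor M) := by
    rw [← (rTensor_exact M (LinearMap.exact_subtype_mkQ _) (Submodule.mkQ_surjective _)).linearMap_ker_eq, LinearMap.mem_ker]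
    refine hq J hJ0 hJfix ((LinearMap.ker f).liftQ f le_rfl) ?_
      (LinearMap.ker_eq_bot.1 (Submodule.ker_liftQ_eq_bot _ _ _ le_rfl)) ?_
    · intro r hr b
      obtain ⟨b, rfl⟩ := Ideal.Quotient.mk_surjective b
      rw [← Ideal.Quotient.mk_eq_mk, ← Submodule.Quotient.mk_smul, Submodule.Quotient.mk_eq_zero, smul_eq_mul]
      exact J.mul_mem_right _ hr
    · rw [map_zero, ← LinearMap.comp_apply, ← LinearMap.rTensor_comp, Submodule.liftQ_mkQ,
        LinearMap.rTensor_comp, LinearMap.comp_apply, hx, map_zero]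
  have hdiv : ∀ n : N, n ∈ LinearMap.ker f → ∃ n' : N, n = c ^ 2 • n' := by
    intro n hn
    have h1 : (n : R) ∈ J := (Submodule.Quotient.mk_eq_zero J).1 hn
    have h2 : (n : R) ∈ Ideal.span {c} ^ (k + 2) • (⊤ : Submodule R R) ⊓ N :=
      ⟨by rw [smul_eq_mul, Ideal.mul_top]; exact hJle _ h1, n.2⟩
    rw [hk (k + 2) (by omega), show k + 2 - k = 2 by omega, Ideal.span_singleton_pow,
      Submodule.ideal_span_singleton_smul, Submodule.mem_smul_pointwise_iff_exists] at h2
    obtain ⟨b, hb, hbn⟩ := h2
    exact ⟨⟨b, hb.2⟩, Subtype.ext hbn.symm⟩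
  obtain ⟨w, rfl⟩ := hmem
  have hw : ∀ w : LinearMap.ker f ⊗[R] M, ∃ y : N ⊗[R] M, (LinearMap.ker f).subtype.rTensor M w = c ^ 2 • y := by
    intro w
    induction w with
    | zero => exact ⟨0, by simp⟩
    | tmul n m =>
      obtain ⟨n', hn'⟩ := hdiv n.1 n.2
      exact ⟨n' ⊗ₜ m, by rw [LinearMap.rTensor_tmul, Submodule.subtype_apply, hn', smul_tmul']⟩
    | add a b ha hb =>
      obtain ⟨ya, hya⟩ := ha
      obtain ⟨yb, hyb⟩ := hb
      exact ⟨ya + yb, by rw [map_add, hya, hyb, smul_add]⟩
  obtain ⟨y, hy⟩ := hw w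
  rw [hy, map_smul] at hx'
  have h3 : μ N (c • y) = 0 := by rw [map_smul]; exact hc2 _ hx'
  rw [hy, pow_two, mul_smul]
  exact hker _ h3

theorem flat_of_flat_baseChange_finite [IsNoetherianRing R] (S : Type u) [CommRing S]
    [Algebra R S] [Module.Finite R S] (hinj : Injective (algebraMap R S)) [Module.Flat S (S ⊗[R] M)] :
    Module.Flat R M := by
  have key : ∀ I : Ideal R, ∀ J : Ideal S, J.comap (algebraMap R S) = I →
      Module.Flat (R ⧸ I) ((R ⧸ I) ⊗[R] M) := by
    intro I
    induction I using WellFoundedGT.induction with | _ I ih => ?_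
    rintro J rfl
    set I := J.comap (algebraMap R S) with hI
    let A := R ⧸ I
    letI : Algebra A (S ⧸ J) := Ideal.quotientAlgebra
    haveI : IsScalarTower R A (S ⧸ J) := IsScalarTower.of_algebraMap_eq fun _ => rfl
    by_cases hprime : I.IsPrime
    · obtain ⟨Q, hQJ, hQp, hQI⟩ := Ideal.exists_ideal_over_prime_of_isIntegral I J (le_of_eq hI.symm)
      letI : Algebra A (S ⧸ Q) := ((Ideal.Quotient.factor hQJ).comp (algebraMap A (S ⧸ J))).toAlgebra
      haveI : IsScalarTower R A (S ⧸ Q) := IsScalarTower.of_algebraMap_eq fun _ => rfl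
      haveI : Module.Finite A (S ⧸ Q) := Module.Finite.of_restrictScalars_finite R A _
      haveI := flat_baseChange_tower (R := R) (M := M) S (S ⧸ Q)
      haveI := flat_baseChange_bot (R := R) (M := M) (S ⧸ Q) A
      refine flat_of_domain_core (S ⧸ Q) ?_ fun K hK hKfix => ?_
      · rw [injective_iff_map_eq_zero]
        intro a ha
        obtain ⟨a, rfl⟩ := Ideal.Quotient.mk_surjective a
        rw [Ideal.Quotient.eq_zero_iff_mem, ← hQI, Ideal.mem_comap, ← Ideal.Quotient.eq_zero_iff_mem]
        exact ha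
      · let K' := K.comap (algebraMap R A)
        have hKK' : K'.map (algebraMap R A) = K :=
          Ideal.map_comap_of_surjective _ Ideal.Quotient.mk_surjective K
        have hlt : I < K' := by
          refine lt_of_le_of_ne (fun a ha => ?_) fun h => hK ?_
          · show Ideal.Quotient.mk I a ∈ K
            rw [Ideal.Quotient.eq_zero_iff_mem.2 ha]
            exact K.zero_mem
          · rw [← hKK', ← h, Ideal.Quotient.algebraMap_eq, Ideal.map_quotient_self]
        have hK' : ((K.map (algebraMap A (S ⧸ Q))).comap (algebraMap S (S ⧸ Q))).comap (algebraMap R S) = K' := by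
          rw [Ideal.comap_comap, ← IsScalarTower.algebraMap_eq, IsScalarTower.algebraMap_eq R A (S ⧸ Q),
            ← Ideal.comap_comap, hKfix]
        rw [← hKK']
        exact quotFlat_baseChange A K' (FlatCrit.quotFlat_of_flat _ (ih K' hlt _ hK'))
    · haveI := flat_baseChange_tower (R := R) (M := M) S (S ⧸ J)
      haveI := flat_baseChange_bot (R := R) (M := M) (S ⧸ J) A
      have hrad : FlatCrit.QuotFlat R M I.radical := quotFlat_radical I fun P hP => by
        haveI := hP.1.1
        obtain ⟨Q, -, -, hQ⟩ := Ideal.exists_ideal_over_prime_of_isIntegral P J hP.1.2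
        exact FlatCrit.quotFlat_of_flat _ (ih P (lt_of_le_of_ne hP.1.2 fun h => hprime (h ▸ hP.1.1)) Q hQ)
      refine flat_of_flat_baseChange_of_nilpotent (R' := S ⧸ J) Ideal.algebraMap_quotient_injective
        (I.radical.map (algebraMap R A)) ?_ (quotFlat_baseChange A _ hrad)
      obtain ⟨n, hn⟩ := Ideal.exists_radical_pow_le_of_fg I (IsNoetherian.noetherian _)
      refine ⟨n, ?_⟩
      rw [← Ideal.map_pow, Ideal.zero_eq_bot, ← le_bot_iff, Ideal.Quotient.algebraMap_eq, ← Ideal.map_quotient_self I]
      exact Ideal.map_mono hn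
  haveI := key ⊥ ⊥ (by rw [← RingHom.ker_eq_comap_bot]; exact (RingHom.injective_iff_ker_eq_bot _).1 hinj)
  haveI := FlatCrit.quotFlat_of_flat (M := M) ⊥ this
  rw [Module.Flat.iff_rTensor_injective']
  intro N
  exact this N.subtype (fun r hr b => by rw [Ideal.mem_bot.1 hr, zero_smul]) Subtype.val_injective

end Groth.Agent.CAlgMisc2
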