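import Groth.Agent.CAlgML.Projective
import Groth.Agent.CAlgMisc2.FiniteDescent

/-! Projectivity descends along finite injective maps of Noetherian rings. -/
universe u

namespace Groth.Agent.CAlgMisc2
set_option linter.all false

open TensorProduct Function CAlgML
open CAlg (IsCountablyGenerated IsMittagLeffler)
open scoped Classical

variable {R : Type u} [CommRing R] {M : Type u} [AddCommGroup M] [Module R M]
variable {S : Type u} [CommRing S] [Algebra R S]

theorem projective_descent_of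
    (hflat : ∀ (N : Type u) [AddCommGroup N] [Module R N], Module.Flat S (S ⊗[R] N) → Module.Flat R N)
    (hml : ∀ (N : Type u) [AddCommGroup N] [Module R N], Module.Flat R N → IsMittagLeffler S (S ⊗[R] N) →
      IsMittagLeffler R N)
    (hzero : ∀ (N : Type u) [AddCommGroup N] [Module R N], Module.Flat R N → Subsingleton (S ⊗[R] N) →
      Subsingleton N)
    [Module.Projective S (S ⊗[R] M)] : Module.Projective R M := by
  obtain ⟨I, Q, hQ, hQc⟩ := exists_cg_decomposition (R := S) (M := S ⊗[R] M)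
  obtain ⟨hind, htop⟩ := (DirectSum.isInternal_submodule_iff_iSupIndep_and_iSup_eq_top Q).1 hQ
  have hquot : ∀ (J : Set I) (B : Submodule R M), B.baseChange S = ⨆ i ∈ J, Q i →
      Module.Projective S (S ⊗[R] (M ⧸ B)) ∧ Module.Flat R (M ⧸ B) := by
    intro J B hB
    have hcompl := isCompl_biSup_compl hind htop J
    have : Module.Projective S (⨆ i ∈ Jᶜ, Q i : Submodule S (S ⊗[R] M)) :=
      Module.Projective.of_split (M := S ⊗[R] M) (Submodule.subtype _)
        (Submodule.projectionOnto _ _ hcompl.symm)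
        (LinearMap.ext fun x => Submodule.projectionOnto_apply_left hcompl.symm x)
    have hproj : Module.Projective S (S ⊗[R] (M ⧸ B)) := Module.Projective.of_equiv
      ((Submodule.quotientEquivOfIsCompl _ _ hcompl).symm ≪≫ₗ Submodule.quotEquivOfEq _ _ hB.symm
        ≪≫ₗ baseChangeQuotientEquiv B)
    exact ⟨hproj, hflat _ Module.Flat.of_projective⟩
  suffices hmain : ∃ 𝓛 : Set (Submodule R M), sSupIndep 𝓛 ∧
      (∀ C ∈ 𝓛, Module.Projective R C) ∧ (sSup 𝓛).baseChange S = ⨆ i ∈ (Set.univ : Set I), Q i by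
    obtain ⟨𝓛, h1, h2, h3⟩ := hmain
    have hA : (sSup 𝓛).baseChange S = ⊤ := by rw [h3]; simpa using htop
    have hsub : Subsingleton (S ⊗[R] (M ⧸ sSup 𝓛)) := by
      have : Subsingleton ((S ⊗[R] M) ⧸ (sSup 𝓛).baseChange S) :=
        Submodule.Quotient.subsingleton_iff.2 hA
      exact (baseChangeQuotientEquiv _).symm.toEquiv.subsingleton
    have htop' : sSup 𝓛 = ⊤ := Submodule.Quotient.subsingleton_iff.1
        (hzero _ (hquot Set.univ _ h3).2 hsub)
    exact projective_of_isInternal (L := fun L : 𝓛 => L.1)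
      (isInternal_of_indep_top ((sSupIndep_iff 𝓛).1 h1) (by rwa [← sSup_eq_iSup']))
      fun L => h2 _ L.2
  refine exists_internal_of_extend
    (fun J A => A.baseChange S = ⨆ i ∈ J, Q i) (fun C => Module.Projective R C)
    (by simp)
    (fun c _ _ hΦ => by
      simp only [Submodule.baseChange_eq_span, Submodule.map_iSup, iSup_iUnion]
      refine le_antisymm (Submodule.span_le.2 fun x hx => ?_) (iSup₂_le fun z hz => ?_)
      · refine (?_ : (⨆ z ∈ c, Submodule.map (TensorProduct.mk R S M 1) z.2) ≤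
          (⨆ z ∈ c, ⨆ i ∈ z.1, Q i).restrictScalars R) hx
        refine iSup₂_le fun z hz y hy => ?_
        refine le_iSup₂ (f := fun z _ => ⨆ i ∈ z.1, Q i) z hz ?_
        rw [← hΦ z hz, Submodule.baseChange_eq_span]
        exact Submodule.subset_span hy
      · rw [← hΦ z hz, Submodule.baseChange_eq_span]
        exact Submodule.span_mono fun x hx =>
          le_iSup₂ (f := fun z _ => Submodule.map (TensorProduct.mk R S M 1) z.2) z hz hx)
    ?_
  intro J A hA hne
  obtain ⟨i, hi⟩ := (Set.ne_univ_iff_exists_notMem J).1 hne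
  obtain ⟨T, K, hT, hK, -, hiK, hTK⟩ := exists_tensor_closure Q htop
    (fun i => (cg_iff _).2 (hQc i)) ∅ Set.countable_empty {i} (Set.countable_singleton i)
  let B := A ⊔ Submodule.span R T
  have hB : B.baseChange S = ⨆ j ∈ J ∪ K, Q j := by rw [baseChange_sup, hA, hTK, iSup_union]
  obtain ⟨hpA, hfA⟩ := hquot J A hA
  obtain ⟨-, hfB⟩ := hquot _ B hB
  let Bb := B.map A.mkQ
  let v : (M ⧸ A) →ₗ[R] M ⧸ B := A.mapQ B LinearMap.id le_sup_left
  have hv : Function.Surjective v := by
    intro q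
    obtain ⟨m, rfl⟩ := B.mkQ_surjective q
    exact ⟨A.mkQ m, rfl⟩
  have hex : Function.Exact Bb.subtype v := by
    rw [LinearMap.exact_iff, Submodule.range_subtype]
    refine le_antisymm (fun q hq => ?_) ?_
    · obtain ⟨m, rfl⟩ := A.mkQ_surjective q
      exact Submodule.mem_map_of_mem ((Submodule.Quotient.mk_eq_zero B).1 hq)
    · rintro _ ⟨m, hm, rfl⟩
      exact (Submodule.Quotient.mk_eq_zero B).2 hm
  have hui := ui_of_flat_right Bb.subtype v Bb.injective_subtype hex hv
  have := (flat_of_ui _ _ hex hv hui).1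
  have hBb : Bb = Submodule.map A.mkQ (Submodule.span R T) := by
    simp [Bb, B, Submodule.map_sup]
  have hcg : IsCountablyGenerated R Bb := (cg_iff _).1 (hBb ▸ CG.map _ ⟨T, hT, rfl⟩)
  have : Module.Projective R Bb :=
    projective_of_flat_ml (ml_of_ui _ hui (hml _ hfA (ml_of_projective (R := S)))) hcg
  let f : Submodule.span R T →ₗ[R] Bb := LinearMap.codRestrict Bb
    (A.mkQ ∘ₗ (Submodule.span R T).subtype)
    fun t => Submodule.mem_map_of_mem (Submodule.mem_sup_right t.2)
  have hf : Function.Surjective f := by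
    rintro ⟨q, hq⟩
    rw [hBb] at hq
    obtain ⟨t, ht, rfl⟩ := hq
    exact ⟨⟨t, ht⟩, rfl⟩
  obtain ⟨σ, hσ⟩ := Module.projective_lifting_property f LinearMap.id hf
  let σM := (Submodule.span R T).subtype ∘ₗ σ
  have hσM : ∀ y, A.mkQ (σM y) = (y : M ⧸ A) := fun y =>
    congr(($hσ y : M ⧸ A))
  have hinj : Function.Injective σM := fun a b h => by
    apply Subtype.ext
    rw [← hσM, ← hσM, h]
  refine ⟨J ∪ K, ⟨Set.subset_union_left, fun h => hi (h (Or.inr (hiK rfl)))⟩,
    LinearMap.range σM, Module.Projective.of_equiv (LinearEquiv.ofInjective σM hinj), ?_, ?_⟩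
  · rw [Submodule.disjoint_def]
    rintro _ hy ⟨y, rfl⟩
    have : y = 0 := Subtype.ext (by
      rw [← hσM]; exact (Submodule.Quotient.mk_eq_zero A).2 hy)
    simp [this]
  · rw [← hB]
    congr 1
    refine le_antisymm (sup_le le_sup_left ?_) (sup_le le_sup_left fun t ht => ?_)
    · rintro _ ⟨y, rfl⟩
      exact Submodule.mem_sup_right (σ y).2
    · have : t - σM (f ⟨t, ht⟩) ∈ A := by
        rw [← Submodule.Quotient.mk_eq_zero, ← Submodule.mkQ_apply, map_sub, hσM]
        exact sub_self _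
      rw [show t = (t - σM (f ⟨t, ht⟩)) + σM (f ⟨t, ht⟩) from (sub_add_cancel _ _).symm]
      exact add_mem (Submodule.mem_sup_left this) (Submodule.mem_sup_right ⟨_, rfl⟩)


theorem exists_linearMap_quotient_prime [Module.Finite R S] (hinj : Injective (algebraMap R S))
    (I : Ideal R) [I.IsPrime] :
    ∃ (Q : Ideal S) (_ : Q.IsPrime) (φ : (S ⧸ Q) →ₗ[R] R ⧸ I), φ 1 ≠ 0 := by
  obtain ⟨Q, -, hQp, hQI⟩ := Ideal.exists_ideal_over_prime_of_isIntegral I (⊥ : Ideal S)
    (by rw [← RingHom.ker_eq_comap_bot, (RingHom.injective_iff_ker_eq_bot _).1 hinj]; exact bot_le)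
  subst hQI
  letI : Algebra (R ⧸ Q.comap (algebraMap R S)) (S ⧸ Q) := Ideal.quotientAlgebra
  haveI : IsScalarTower R (R ⧸ Q.comap (algebraMap R S)) (S ⧸ Q) := IsScalarTower.of_algebraMap_eq fun _ => rfl
  haveI : Module.Finite (R ⧸ Q.comap (algebraMap R S)) (S ⧸ Q) := Module.Finite.of_restrictScalars_finite R _ _
  haveI : Module.IsTorsionFree (R ⧸ Q.comap (algebraMap R S)) (S ⧸ Q) :=
    (Module.isTorsionFree_iff_smul_eq_zero ..).2 fun r s h => by
      rw [Algebra.smul_def, mul_eq_zero] at h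
      exact h.imp_left fun h => Ideal.algebraMap_quotient_injective (by rw [h, map_zero])
  obtain ⟨d, emb, hemb⟩ := exists_injective_pi (R := R ⧸ Q.comap (algebraMap R S)) (M := S ⧸ Q)
  obtain ⟨i0, hi0⟩ : ∃ i, emb 1 i ≠ 0 := by
    by_contra h
    push Not at h
    exact one_ne_zero (hemb (a₁ := (1 : S ⧸ Q)) (a₂ := 0) (by rw [map_zero]; funext i; exact h i))
  exact ⟨Q, hQp, (LinearMap.proj i0 ∘ₗ emb).restrictScalars R, hi0⟩

theorem ml_finite_descent [IsNoetherianRing R] [Module.Finite R S] (hinj : Injective (algebraMap R S))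
    [Module.Flat R M] (h : IsMittagLeffler S (S ⊗[R] M)) : IsMittagLeffler R M := by
  rw [ml_iff_zero]
  suffices key : ∀ I : Ideal R, ∀ (ι : Type u) (Q : ι → Type u) [∀ i, AddCommGroup (Q i)] [∀ i, Module R (Q i)],
      (∀ i, ∀ r ∈ I, ∀ y : Q i, r • y = 0) → ∀ x : M ⊗[R] (∀ i, Q i),
      (∀ i, piRightHom R R M Q x i = 0) → x = 0 from
    fun ι Q _ _ x hx => key ⊥ ι Q (fun i r hr y => by rw [Ideal.mem_bot.1 hr, zero_smul]) x hx
  intro I
  induction I using WellFoundedGT.induction with | _ I ih => ?_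
  intro ι Q _ _ hIQ x hx
  have aux : ∀ a : R, a ∉ I → ∀ y : M ⊗[R] (∀ i, Q i),
      (∀ i, piRightHom R R M Q y i = 0) →
      (LinearMap.pi fun j => (Submodule.torsionBy R (Q j) a).mkQ ∘ₗ LinearMap.proj j :
        (∀ i, Q i) →ₗ[R] ∀ j, Q j ⧸ Submodule.torsionBy R (Q j) a).lTensor M y = 0 → y = 0 := by
    intro a ha y hy hy0
    let incl : (∀ i, Submodule.torsionBy R (Q i) a) →ₗ[R] ∀ i, Q i :=
      LinearMap.pi fun j => (Submodule.torsionBy R (Q j) a).subtype ∘ₗ LinearMap.proj j
    have hex : Exact incl (LinearMap.pi fun j => (Submodule.torsionBy R (Q j) a).mkQ ∘ₗ LinearMap.proj j :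
        (∀ i, Q i) →ₗ[R] ∀ j, Q j ⧸ Submodule.torsionBy R (Q j) a) := by
      intro z
      constructor
      · intro hz
        refine ⟨fun i => ⟨z i, (Submodule.Quotient.mk_eq_zero _).1 (congrFun hz i)⟩, rfl⟩
      · rintro ⟨z, rfl⟩
        funext i
        exact (Submodule.Quotient.mk_eq_zero _).2 (z i).2
    have hsurj : Surjective (LinearMap.pi fun j => (Submodule.torsionBy R (Q j) a).mkQ ∘ₗ LinearMap.proj j :
        (∀ i, Q i) →ₗ[R] ∀ j, Q j ⧸ Submodule.torsionBy R (Q j) a) := fun z => by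
      choose w hw using fun i => Submodule.mkQ_surjective _ (z i)
      exact ⟨w, funext hw⟩
    obtain ⟨y', rfl⟩ := ((lTensor_exact M hex hsurj) y).1 hy0
    rw [ih (I ⊔ Ideal.span {a}) (left_lt_sup.2 fun hle => ha (hle (Ideal.mem_span_singleton_self a))) ι
      (fun i => Submodule.torsionBy R (Q i) a) (fun i r hr z => ?_) y' (fun i => ?_), map_zero]
    · obtain ⟨r₁, hr₁, r₂, hr₂, rfl⟩ := Submodule.mem_sup.1 hr
      obtain ⟨t, rfl⟩ := Ideal.mem_span_singleton'.1 hr₂
      apply Subtype.ext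
      rw [Submodule.coe_smul, add_smul, mul_smul, hIQ i r₁ hr₁, (Submodule.mem_torsionBy_iff a _).1 z.2, smul_zero, add_zero]
      rfl
    · apply Module.Flat.lTensor_preserves_injective_linearMap (M := M) (Submodule.torsionBy R (Q i) a).subtype Subtype.val_injective
      rw [map_zero, ← piRightHom_lTensor (fun j => (Submodule.torsionBy R (Q j) a).subtype)]
      exact hy i
  by_cases hIt : I = ⊤
  · have : ∀ z : ∀ i, Q i, z = 0 := fun z => funext fun i => by
      rw [← one_smul R (z i)]; exact hIQ i 1 (hIt ▸ Submodule.mem_top) (z i)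
    induction x with
    | zero => rfl
    | tmul m z => rw [this z, tmul_zero]
    | add p q hp hq =>
      have hz : ∀ w : M ⊗[R] (∀ i, Q i), w = 0 := fun w => by
        induction w with
        | zero => rfl
        | tmul m z => rw [this z, tmul_zero]
        | add p q hp hq => rw [hp, hq, add_zero]
      exact hz _
  by_cases hprime : I.IsPrime
  · obtain ⟨P, hP, φ, hφ⟩ := exists_linearMap_quotient_prime hinj I
    obtain ⟨c, hc⟩ := Ideal.Quotient.mk_surjective (φ 1)
    have hcI : c ∉ I := fun h => hφ (by rw [← hc, Ideal.Quotient.eq_zero_iff_mem.2 h])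
    let ψ : ∀ i, (R ⧸ I) →ₗ[R] Q i →ₗ[R] Q i := fun i => Submodule.liftQ I (LinearMap.lsmul R (Q i))
      fun r hr => LinearMap.mem_ker.2 (LinearMap.ext fun y => hIQ i r hr y)
    let Φ : ∀ i, ((S ⧸ P) ⊗[R] Q i) →ₗ[R] Q i := fun i => TensorProduct.lift ((ψ i).comp φ)
    let u : ∀ i, Q i →ₗ[R] (S ⧸ P) ⊗[R] Q i := fun i => TensorProduct.mk R (S ⧸ P) (Q i) 1
    have hΦu : ∀ i (y : Q i), Φ i (u i y) = c • y := fun i y => by
      simp only [Φ, u, TensorProduct.mk_apply, TensorProduct.lift.tmul, LinearMap.comp_apply, ← hc]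
      rfl
    have h1 : ((LinearMap.pi fun j => u j ∘ₗ LinearMap.proj j :
        (∀ i, Q i) →ₗ[R] ∀ j, (S ⧸ P) ⊗[R] Q j)).lTensor M x = 0 :=
      eq_zero_of_baseChange_ml (S := S) h _ fun i => by rw [piRightHom_lTensor, hx i, map_zero]
    have h2 : ∀ y : M ⊗[R] (∀ i, Q i),
        (LinearMap.pi fun j => Φ j ∘ₗ LinearMap.proj j :
          (∀ j, (S ⧸ P) ⊗[R] Q j) →ₗ[R] ∀ j, Q j).lTensor M
          (((LinearMap.pi fun j => u j ∘ₗ LinearMap.proj j :
            (∀ i, Q i) →ₗ[R] ∀ j, (S ⧸ P) ⊗[R] Q j)).lTensor M y) = c • y := by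
      intro y
      rw [← LinearMap.comp_apply, ← LinearMap.lTensor_comp,
        show (LinearMap.pi fun j => Φ j ∘ₗ LinearMap.proj j : (∀ j, (S ⧸ P) ⊗[R] Q j) →ₗ[R] ∀ j, Q j) ∘ₗ
          (LinearMap.pi fun j => u j ∘ₗ LinearMap.proj j) = c • LinearMap.id from
          LinearMap.ext fun z => funext fun i => hΦu i (z i),
        LinearMap.lTensor_smul, LinearMap.lTensor_id]
      rfl
    have hcx : c • x = 0 := by rw [← h2, h1, map_zero]
    refine aux c hcI x hx ?_
    let cq : (∀ j, Q j ⧸ Submodule.torsionBy R (Q j) c) →ₗ[R] ∀ j, Q j :=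
      LinearMap.pi fun j => (Submodule.liftQ _ (LinearMap.lsmul R (Q j) c) le_rfl) ∘ₗ LinearMap.proj j
    have hcq : Injective cq := by
      rw [injective_iff_map_eq_zero]
      intro z hz
      funext i
      obtain ⟨w, hw⟩ := Submodule.Quotient.mk_surjective _ (z i)
      have h3 : c • w = 0 := by
        have := congrFun hz i
        change Submodule.liftQ (LinearMap.ker (LinearMap.lsmul R (Q i) c)) (LinearMap.lsmul R (Q i) c) le_rfl (z i) = 0 at this
        rwa [← hw] at this
      rw [← hw]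
      exact (Submodule.Quotient.mk_eq_zero _).2 ((Submodule.mem_torsionBy_iff c w).2 h3)
    apply Module.Flat.lTensor_preserves_injective_linearMap (M := M) cq hcq
    rw [map_zero, ← LinearMap.comp_apply, ← LinearMap.lTensor_comp,
      show cq ∘ₗ (LinearMap.pi fun j => (Submodule.torsionBy R (Q j) c).mkQ ∘ₗ LinearMap.proj j :
        (∀ i, Q i) →ₗ[R] ∀ j, Q j ⧸ Submodule.torsionBy R (Q j) c) = c • LinearMap.id from rfl,
      LinearMap.lTensor_smul, LinearMap.lTensor_id]
    exact hcx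
  · obtain ⟨a, b, hab, ha, hb⟩ : ∃ a b, a * b ∈ I ∧ a ∉ I ∧ b ∉ I := by
      by_contra hcon
      push Not at hcon
      exact hprime ⟨hIt, fun {p q} hpq => or_iff_not_imp_left.2 (hcon p q hpq)⟩
    refine aux a ha x hx ?_
    refine ih (I ⊔ Ideal.span {b}) (left_lt_sup.2 fun hle => hb (hle (Ideal.mem_span_singleton_self b))) ι _
      (fun i r hr z => ?_) _ (fun i => by rw [piRightHom_lTensor, hx i, map_zero])
    obtain ⟨z, rfl⟩ := Submodule.Quotient.mk_surjective _ z
    obtain ⟨r₁, hr₁, r₂, hr₂, rfl⟩ := Submodule.mem_sup.1 hr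
    obtain ⟨t, rfl⟩ := Ideal.mem_span_singleton'.1 hr₂
    rw [← Submodule.Quotient.mk_smul, Submodule.Quotient.mk_eq_zero, Submodule.mem_torsionBy_iff,
      ← mul_smul]
    refine hIQ i _ ?_ z
    rw [mul_add, ← mul_assoc, mul_comm a t, mul_assoc]
    exact I.add_mem (I.mul_mem_left _ hr₁) (I.mul_mem_left _ hab)

theorem subsingleton_finite_descent [IsNoetherianRing R] [Module.Finite R S] (hinj : Injective (algebraMap R S))
    [Module.Flat R M] (h : Subsingleton (S ⊗[R] M)) : Subsingleton M := by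
  have hP : ∀ P : Ideal R, P.IsPrime → (⊤ : Submodule R M) ≤ P • ⊤ := by
    intro P hPp m _
    obtain ⟨Q, hQ, φ, hφ⟩ := exists_linearMap_quotient_prime hinj P
    obtain ⟨c, hc⟩ := Ideal.Quotient.mk_surjective (φ 1)
    have hcP : c ∉ P := fun h => hφ (by rw [← hc, Ideal.Quotient.eq_zero_iff_mem.2 h])
    have h1 : ((Ideal.Quotient.mk Q 1) ⊗ₜ[R] m : (S ⧸ Q) ⊗[R] M) = 0 := by
      have := congrArg (LinearMap.rTensor M (Ideal.Quotient.mkₐ R Q).toLinearMap) (h.elim ((1 : S) ⊗ₜ[R] m) 0)
      rwa [LinearMap.rTensor_tmul, map_zero] at this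
    have h2 : ((Ideal.Quotient.mk P c) ⊗ₜ[R] m : (R ⧸ P) ⊗[R] M) = 0 := by
      have := congrArg (φ.rTensor M) h1
      rwa [LinearMap.rTensor_tmul, map_zero, map_one, ← hc] at this
    let μ : (R ⧸ P) →ₗ[R] R ⧸ P := c • LinearMap.id
    have hμ : Injective μ := by
      rw [injective_iff_map_eq_zero]
      intro z hz
      obtain ⟨z, rfl⟩ := Ideal.Quotient.mk_surjective z
      exact Ideal.Quotient.eq_zero_iff_mem.2 ((hPp.mem_or_mem
        (Ideal.Quotient.eq_zero_iff_mem.1 hz)).resolve_left hcP)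
    have h3 : ((Ideal.Quotient.mk P 1) ⊗ₜ[R] m : (R ⧸ P) ⊗[R] M) = 0 := by
      apply Module.Flat.rTensor_preserves_injective_linearMap (M := M) μ hμ
      rw [map_zero, LinearMap.rTensor_tmul, ← h2]
      congr 1
      show c • Ideal.Quotient.mk P 1 = _
      rw [← Ideal.Quotient.mk_eq_mk, ← Submodule.Quotient.mk_smul, smul_eq_mul, mul_one]
      rfl
    have h4 := congrArg (quotTensorEquivQuotSMul M P) h3
    rw [quotTensorEquivQuotSMul_mk_tmul, map_zero, one_smul, Submodule.Quotient.mk_eq_zero] at h4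
    exact h4
  have hf := Ideal.finite_minimalPrimes_of_isNoetherianRing R ⊥
  have hprod : ∀ s : Finset (Ideal R), (∀ P ∈ s, P.IsPrime) → (⊤ : Submodule R M) ≤ (∏ P ∈ s, P) • ⊤ := by
    intro s
    induction s using Finset.induction_on with
    | empty => intro _; simp
    | insert P s hPs ih =>
      intro hs
      rw [Finset.prod_insert hPs, Submodule.mul_smul]
      exact (hP P (hs P (Finset.mem_insert_self P s))).trans
        (Submodule.smul_mono le_rfl (ih fun Q hQ => hs Q (Finset.mem_insert_of_mem hQ)))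
  let J := ∏ P ∈ hf.toFinset, P
  have hJ : (⊤ : Submodule R M) ≤ J • ⊤ := hprod _ fun P hP => (hf.mem_toFinset.1 hP).1.1
  have hJle : J ≤ (⊥ : Ideal R).radical := by
    rw [← Ideal.sInf_minimalPrimes]
    exact le_sInf fun P hP => Ideal.prod_le_inf.trans (Finset.inf_le (f := fun P => P) (hf.mem_toFinset.2 hP))
  obtain ⟨n, hn⟩ := Ideal.exists_radical_pow_le_of_fg (⊥ : Ideal R) (IsNoetherian.noetherian _)
  have hpow : ∀ k, (⊤ : Submodule R M) ≤ J ^ k • ⊤ := by
    intro k
    induction k with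
    | zero => simp
    | succ k ih =>
      rw [pow_succ', Submodule.mul_smul]
      exact hJ.trans (Submodule.smul_mono le_rfl ih)
  have h0 : (⊤ : Submodule R M) ≤ ⊥ := (hpow n).trans (by
    rw [le_bot_iff.1 ((Ideal.pow_right_mono hJle n).trans hn), Submodule.bot_smul])
  exact ⟨fun a b => by
    rw [(Submodule.mem_bot R).1 (h0 (Submodule.mem_top (x := a))), (Submodule.mem_bot R).1 (h0 (Submodule.mem_top (x := b)))]⟩

theorem projective_finite_descent [IsNoetherianRing R] [Module.Finite R S] (hinj : Injective (algebraMap R S))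
    [Module.Projective S (S ⊗[R] M)] : Module.Projective R M :=
  projective_descent_of (S := S)
    (fun N _ _ h => flat_of_flat_baseChange_finite S hinj)
    (fun N _ _ _ h => ml_finite_descent hinj h)
    (fun N _ _ _ h => subsingleton_finite_descent hinj h)

end Groth.Agent.CAlgMisc2
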