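import Mathlib
import Groth.Agent.HenselLib.FlatQuot

/-! Base change of Hom between modules, one of which is power torsion. -/
universe u

namespace Groth.Agent.CAlgMisc2

open TensorProduct Function HenselLib.FlatQuot

theorem mem_range_of_killed {R S N : Type u} [CommRing R] [CommRing S] [Algebra R S] [Module.Flat R S]
    [AddCommGroup N] [Module R N] (J : Ideal R) (hJ : J.FG) (z : S ⊗[R] N) (hz : ∀ a ∈ J, a • z = 0) :
    z ∈ LinearMap.range ((Submodule.torsionBySet R N J).subtype.lTensor S) := by
  obtain ⟨k, g, hg⟩ := Submodule.fg_iff_exists_fin_generating_family.1 hJ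
  let φ : N →ₗ[R] (Fin k → N) := LinearMap.pi fun i => LinearMap.lsmul R N (g i)
  have hker : LinearMap.ker φ = Submodule.torsionBySet R N J := by
    ext x
    constructor
    · intro hx
      rw [Submodule.mem_torsionBySet_iff]
      rintro ⟨a, ha⟩
      rw [← hg] at ha
      show a • x = 0
      obtain ⟨c, rfl⟩ := Ideal.mem_span_range_iff_exists_fun.1 ha
      rw [Finset.sum_smul]
      refine Finset.sum_eq_zero fun i _ => ?_
      rw [mul_smul, show g i • x = 0 from congrFun hx i, smul_zero]
    · intro hx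
      exact funext fun i => (Submodule.mem_torsionBySet_iff _ _).1 hx ⟨g i, hg ▸ Submodule.subset_span ⟨i, rfl⟩⟩
  have hex : Exact (LinearMap.ker φ).subtype φ := LinearMap.exact_subtype_ker_map φ
  have h0 : φ.lTensor S z = 0 := by
    apply (TensorProduct.piRight R R S (fun _ : Fin k => N)).injective
    rw [map_zero]
    funext i
    have hc : ∀ w : S ⊗[R] N, TensorProduct.piRight R R S (fun _ : Fin k => N) (φ.lTensor S w) i = g i • w := by
      intro w
      induction w with
      | zero => simp
      | add a b ha hb => simp only [map_add, Pi.add_apply, ha, hb, smul_add]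
      | tmul s n => simp [φ, tmul_smul]
    rw [hc, Pi.zero_apply]
    exact hz _ (hg ▸ Submodule.subset_span ⟨i, rfl⟩)
  obtain ⟨w, hw⟩ := (Module.Flat.lTensor_exact S hex z).1 h0
  rw [← hker]
  exact ⟨w, hw⟩

theorem bijective_baseChange_hom {R S M N : Type u} [CommRing R] [CommRing S] [Algebra R S] [Module.Flat R S]
    (I : Ideal R) (hI : I.FG)
    (hq : Bijective (Ideal.quotientMap (I.map (algebraMap R S)) (algebraMap R S) Ideal.le_comap_map))
    [AddCommGroup M] [Module R M] [AddCommGroup N] [Module R N]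
    (hMN : (∀ x : M, IsTors I x) ∨ (∀ y : N, IsTors I y)) :
    Bijective (fun f : M →ₗ[R] N => LinearMap.baseChange S f) := by
  let T : Submodule R N :=
    { carrier := {y | IsTors I y}
      zero_mem' := ⟨0, fun _ _ => smul_zero _⟩
      add_mem' := fun {a b} ⟨i, hi⟩ ⟨j, hj⟩ => ⟨i + j, fun c hc => by
        rw [smul_add, hi c (Ideal.pow_le_pow_right (Nat.le_add_right i j) hc), hj c (Ideal.pow_le_pow_right (Nat.le_add_left j i) hc), add_zero]⟩
      smul_mem' := fun r a ⟨i, hi⟩ => ⟨i, fun c hc => by rw [smul_comm, hi c hc, smul_zero]⟩ }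
  have hT : Bijective (TensorProduct.mk R S T 1) := bijective_mk_of_torsion hq T fun y => by
    obtain ⟨i, hi⟩ := y.2
    exact ⟨i, fun c hc => Subtype.ext (hi c hc)⟩
  have hTinj : Injective (fun y : T => (1 : S) ⊗ₜ[R] (y : N)) :=
    (Module.Flat.lTensor_preserves_injective_linearMap (M := S) T.subtype T.subtype_injective).comp hT.1
  have tors_map : ∀ (f : M →ₗ[R] N) x, IsTors I x → f x ∈ T := fun f x ⟨i, hi⟩ =>
    ⟨i, fun c hc => by rw [← map_smul, hi c hc, map_zero]⟩
  have hall : ∀ (f : M →ₗ[R] N) x, f x ∈ T := fun f x => hMN.elim (fun h => tors_map f x (h x)) fun h => h (f x)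
  refine ⟨fun f g hfg => LinearMap.ext fun x => ?_, fun F => ?_⟩
  · have := LinearMap.congr_fun hfg ((1 : S) ⊗ₜ[R] x)
    simp only [LinearMap.baseChange_tmul] at this
    exact congrArg Subtype.val (@hTinj ⟨f x, hall f x⟩ ⟨g x, hall g x⟩ this)
  · have hex : ∀ x : M, ∃ y : T, (1 : S) ⊗ₜ[R] (y : N) = F (1 ⊗ₜ x) := by
      intro x
      rcases hMN with h | h
      · obtain ⟨n, hn⟩ := h x
        obtain ⟨w, hw⟩ := mem_range_of_killed (I ^ n) (Submodule.FG.pow hI n) (F (1 ⊗ₜ x)) fun a ha => by
          rw [← LinearMap.map_smul_of_tower, ← TensorProduct.tmul_smul, hn a ha, TensorProduct.tmul_zero, map_zero]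
        have hle : Submodule.torsionBySet R N (I ^ n : Ideal R) ≤ T := fun y hy =>
          ⟨n, fun c hc => (Submodule.mem_torsionBySet_iff _ _).1 hy ⟨c, hc⟩⟩
        obtain ⟨y, hy⟩ := hT.2 ((Submodule.inclusion hle).lTensor S w)
        refine ⟨y, ?_⟩
        rw [← hw]
        have := congrArg (T.subtype.lTensor S) hy
        rw [← LinearMap.comp_apply (T.subtype.lTensor S) ((Submodule.inclusion hle).lTensor S), ← LinearMap.lTensor_comp, Submodule.subtype_comp_inclusion] at this
        exact this
      · obtain ⟨y, hy⟩ := (bijective_mk_of_torsion hq N h).2 (F (1 ⊗ₜ x))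
        exact ⟨⟨y, h y⟩, hy⟩
    choose g hg using hex
    refine ⟨T.subtype ∘ₗ { toFun := g
                           map_add' := fun a b => hTinj (by simp [hg, tmul_add])
                           map_smul' := fun r a => hTinj (by simp [hg, tmul_smul, LinearMap.map_smul_of_tower]) }, ?_⟩
    refine LinearMap.ext fun z => ?_
    induction z with
    | zero => simp
    | add a b ha hb => simp only [map_add, ha, hb]
    | tmul s x =>
      show s ⊗ₜ[R] ((g x : T) : N) = F (s ⊗ₜ x)
      have h1 : ∀ (X : Type u) [AddCommGroup X] [Module R X] (v : X), s ⊗ₜ[R] v = s • ((1 : S) ⊗ₜ[R] v) := fun X _ _ v => by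
        rw [smul_tmul', smul_eq_mul, mul_one]
      rw [h1 N, h1 M, map_smul, hg]

end Groth.Agent.CAlgMisc2
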