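import Mathlib

/-! Where a map to a finite module is surjective. -/
universe u

namespace Groth.Agent.CAlgMisc2

open TensorProduct

variable {R : Type u} [CommRing R] {M N : Type u} [AddCommGroup M] [Module R M] [AddCommGroup N] [Module R N]
  (φ : M →ₗ[R] N)

theorem surjective_iff_subsingleton_of_exact {A B C : Type*} [AddCommGroup A] [AddCommGroup B] [AddCommGroup C]
    (a : A → B) (b : B →+ C) (hex : Function.Exact a b) (hb : Function.Surjective b) :
    Function.Surjective a ↔ Subsingleton C := by
  constructor
  · intro ha
    refine subsingleton_of_forall_eq 0 fun c => ?_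
    obtain ⟨y, rfl⟩ := hb c
    exact (hex y).2 (ha y)
  · intro _ y
    exact (hex y).1 (Subsingleton.elim _ _)

theorem surjective_localized_iff (S : Submonoid R) :
    Function.Surjective (LocalizedModule.map S φ) ↔ Subsingleton (LocalizedModule S (N ⧸ LinearMap.range φ)) :=
  surjective_iff_subsingleton_of_exact _ (LocalizedModule.map S (LinearMap.range φ).mkQ).toAddMonoidHom
    (LocalizedModule.map_exact S φ (LinearMap.range φ).mkQ (LinearMap.exact_map_mkQ_range φ))
    (LocalizedModule.map_surjective S _ (Submodule.mkQ_surjective _))

theorem surjective_lTensor_iff (K : Type u) [AddCommGroup K] [Module R K] :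
    Function.Surjective (φ.lTensor K) ↔ Subsingleton (K ⊗[R] (N ⧸ LinearMap.range φ)) :=
  surjective_iff_subsingleton_of_exact _ ((LinearMap.range φ).mkQ.lTensor K).toAddMonoidHom
    (lTensor_exact K (LinearMap.exact_map_mkQ_range φ) (Submodule.mkQ_surjective _))
    (LinearMap.lTensor_surjective K (Submodule.mkQ_surjective _))

theorem surjLocus_eq : {p : PrimeSpectrum R | Function.Surjective (LocalizedModule.map p.asIdeal.primeCompl φ)} =
    (Module.support R (N ⧸ LinearMap.range φ))ᶜ := by
  ext p
  rw [Set.mem_setOf_eq, Set.mem_compl_iff, surjective_localized_iff, Module.mem_support_iff, not_nontrivial_iff_subsingleton]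

theorem surjective_atPrime_iff [Module.Finite R N] (p : PrimeSpectrum R) :
    Function.Surjective (LocalizedModule.map p.asIdeal.primeCompl φ) ↔
      Function.Surjective (φ.lTensor p.asIdeal.ResidueField) := by
  rw [surjective_localized_iff, surjective_lTensor_iff, ← not_nontrivial_iff_subsingleton,
    ← not_nontrivial_iff_subsingleton, not_iff_not]
  exact (Module.mem_support_iff (R := R)).symm.trans (Module.mem_support_iff_nontrivial_residueField_tensorProduct p)

theorem isOpen_surjLocus [Module.Finite R N] :
    IsOpen {p : PrimeSpectrum R | Function.Surjective (LocalizedModule.map p.asIdeal.primeCompl φ)} := by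
  rw [surjLocus_eq]; exact Module.isClosed_support.isOpen_compl

theorem surjective_away [Module.Finite R N] (f : R)
    (hf : (↑(PrimeSpectrum.basicOpen f) : Set (PrimeSpectrum R)) ⊆
      {p : PrimeSpectrum R | Function.Surjective (LocalizedModule.map p.asIdeal.primeCompl φ)}) :
    Function.Surjective (LocalizedModule.map (Submonoid.powers f) φ) := by
  rw [surjective_localized_iff]
  rw [surjLocus_eq] at hf
  exact LocalizedModule.subsingleton_iff_disjoint.2 (Set.subset_compl_iff_disjoint_right.1 hf)

end Groth.Agent.CAlgMisc2
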