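import Mathlib
import Groth.Agent.CAlgMisc2.SurjLocus

/-! The locus where a map of finite projective modules is injective on fibres. -/
universe u

namespace Groth.Agent.CAlgMisc2

open TensorProduct

variable {R : Type u} [CommRing R] {P₁ P₂ : Type u} [AddCommGroup P₁] [Module R P₁] [AddCommGroup P₂] [Module R P₂]

/-- The ideal of scalars `c` such that `φ` has a retraction up to `c`. -/
noncomputable def retrIdeal (φ : P₁ →ₗ[R] P₂) : Ideal R where
  carrier := {c | ∃ r : P₂ →ₗ[R] P₁, r ∘ₗ φ = c • LinearMap.id}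
  zero_mem' := ⟨0, by simp⟩
  add_mem' := fun {a b} ⟨r, hr⟩ ⟨s, hs⟩ => ⟨r + s, by rw [LinearMap.add_comp, hr, hs, add_smul]⟩
  smul_mem' := fun a b ⟨r, hr⟩ => ⟨a • r, by rw [LinearMap.smul_comp, hr, smul_smul, smul_eq_mul]⟩

theorem injective_fibre_iff [Module.Finite R P₁] [Module.Projective R P₁] [Module.Finite R P₂]
    [Module.Projective R P₂] (φ : P₁ →ₗ[R] P₂) (p : PrimeSpectrum R) :
    Function.Injective (φ.lTensor p.asIdeal.ResidueField) ↔ ¬ retrIdeal φ ≤ p.asIdeal := by
  let K := p.asIdeal.ResidueField
  constructor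
  · intro hinj
    obtain ⟨g, hg⟩ := LinearMap.exists_leftInverse_of_injective (φ.baseChange K)
      (LinearMap.ker_eq_bot.2 hinj)
    obtain ⟨b, π, ι, hπ, -, hπι⟩ := Module.Finite.exists_comp_eq_id_of_projective R P₂
    classical
    have hden : ∀ j : Fin b, ∃ (d : R) (y : P₁), d ∉ p.asIdeal ∧ (1 : K) ⊗ₜ[R] y = d • g ((1 : K) ⊗ₜ[R] π (Pi.single j 1)) := by
      intro j
      induction g ((1 : K) ⊗ₜ[R] π (Pi.single j 1)) with
      | zero => exact ⟨1, 0, (Ideal.ne_top_iff_one _).1 p.isPrime.ne_top, by simp⟩
      | add a b ha hb =>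
        obtain ⟨d, y, hd, hy⟩ := ha
        obtain ⟨e, z, he, hz⟩ := hb
        exact ⟨d * e, e • y + d • z, p.asIdeal.primeCompl.mul_mem hd he, by
          rw [tmul_add, tmul_smul, tmul_smul, hy, hz, smul_smul, smul_smul, smul_add, mul_comm e d]⟩
      | tmul k y =>
        obtain ⟨⟨a, d, hd⟩, hk⟩ := IsLocalization.surj p.asIdeal.primeCompl (Classical.choose (IsLocalRing.residue_surjective k))
        refine ⟨d, a • y, hd, ?_⟩
        have hk' := congrArg (IsLocalRing.residue (Localization.AtPrime p.asIdeal)) hk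
        rw [map_mul, Classical.choose_spec (IsLocalRing.residue_surjective k)] at hk'
        rw [tmul_smul, smul_tmul', smul_tmul', Algebra.smul_def, Algebra.smul_def, mul_one, mul_comm]
        congr 1
        exact hk'.symm
    choose d y hd hy using hden
    let D := ∏ j, d j
    let r : P₂ →ₗ[R] P₁ := ((Pi.basisFun R (Fin b)).constr R fun j => (∏ i ∈ Finset.univ.erase j, d i) • y j) ∘ₗ ι
    have hr : ∀ x : P₂, (1 : K) ⊗ₜ[R] r x = D • g ((1 : K) ⊗ₜ[R] x) := by
      have h0 : ∀ v : Fin b → R, (1 : K) ⊗ₜ[R] ((Pi.basisFun R (Fin b)).constr R (fun j => (∏ i ∈ Finset.univ.erase j, d i) • y j) v) =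
          D • g ((1 : K) ⊗ₜ[R] π v) := by
        intro v
        rw [Module.Basis.constr_apply_fintype, tmul_sum]
        conv_rhs => rw [pi_eq_sum_univ' v, map_sum, tmul_sum, map_sum, Finset.smul_sum]
        refine Finset.sum_congr rfl fun j _ => ?_
        rw [map_smul, tmul_smul, tmul_smul, tmul_smul, LinearMap.map_smul_of_tower, hy, smul_smul (∏ i ∈ _, d i),
          Finset.prod_erase_mul _ _ (Finset.mem_univ j), smul_comm D]
        simp [D]
      intro x
      show (1 : K) ⊗ₜ[R] ((Pi.basisFun R (Fin b)).constr R _ (ι x)) = _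
      rw [h0, show π (ι x) = x from LinearMap.congr_fun hπι x]
    let h : P₁ →ₗ[R] P₁ := r ∘ₗ φ
    have hDne : algebraMap R K D ≠ 0 := by
      rw [Ne, Ideal.algebraMap_residueField_eq_zero, Ideal.IsPrime.prod_mem_iff (hp := p.isPrime)]
      rintro ⟨j, -, hj⟩
      exact hd j hj
    have hh : ∀ z : K ⊗[R] P₁, h.lTensor K z = D • z := by
      intro z
      induction z with
      | zero => simp
      | add a b ha hb => rw [map_add, ha, hb, smul_add]
      | tmul k x =>
        have h1 : (1 : K) ⊗ₜ[R] h x = D • ((1 : K) ⊗ₜ[R] x) := by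
          show (1 : K) ⊗ₜ[R] r (φ x) = _
          rw [hr, ← LinearMap.baseChange_tmul, ← LinearMap.comp_apply, hg, LinearMap.id_apply]
        have h2 := congrArg (fun w => k • w) h1
        simpa [smul_tmul', smul_comm k D, LinearMap.lTensor_tmul] using h2
    have hsur : Function.Surjective (h.lTensor K) := fun z => by
      refine ⟨(algebraMap R K D)⁻¹ • z, ?_⟩
      rw [hh, ← algebraMap_smul K D, smul_smul, mul_inv_cancel₀ hDne, one_smul]
    have hsp := (surjective_atPrime_iff h p).2 hsur
    have hbij : Function.Bijective (LocalizedModule.map p.asIdeal.primeCompl h) :=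
      OrzechProperty.bijective_of_surjective_endomorphism _ hsp
    obtain ⟨n, gen, hgen⟩ := Submodule.fg_iff_exists_fin_generating_family.1 (Module.Finite.fg_top (R := R) (M := P₁))
    have hcok : ∀ x : P₁, ∃ c ∉ p.asIdeal, c • x ∈ LinearMap.range h := by
      intro x
      obtain ⟨w, hw⟩ := hsp (LocalizedModule.mk x 1)
      induction w using LocalizedModule.induction_on with
      | h w s =>
        rw [LocalizedModule.map_mk, LocalizedModule.mk_eq] at hw
        obtain ⟨c, hc⟩ := hw
        refine ⟨c * s, p.asIdeal.primeCompl.mul_mem c.2 s.2, ⟨(c : R) • w, ?_⟩⟩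
        simpa [Submonoid.smul_def, mul_smul] using hc
    choose c hc hcr using fun j => hcok (gen j)
    let C := ∏ j, c j
    have hC : ∀ x : P₁, C • x ∈ LinearMap.range h := by
      intro x
      have hx : x ∈ Submodule.span R (Set.range gen) := hgen ▸ Submodule.mem_top
      induction hx using Submodule.span_induction with
      | mem z hz =>
        obtain ⟨j, rfl⟩ := hz
        rw [show C = (∏ i ∈ Finset.univ.erase j, c i) * c j from (Finset.prod_erase_mul _ _ (Finset.mem_univ j)).symm, mul_smul]
        exact Submodule.smul_mem _ _ (hcr j)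
      | zero => simp
      | add a b _ _ ha hb => rw [smul_add]; exact add_mem ha hb
      | smul a x _ hx => rw [smul_comm]; exact Submodule.smul_mem _ _ hx
    obtain ⟨t, ht⟩ := Module.projective_lifting_property h.rangeRestrict
      ((C • LinearMap.id : P₁ →ₗ[R] P₁).codRestrict _ hC) h.surjective_rangeRestrict
    have hker : ∀ x : P₁, ∃ c ∉ p.asIdeal, c • (t (h x) - C • x) = 0 := by
      intro x
      have h1 : h (t (h x) - C • x) = 0 := by
        have := congrArg Subtype.val (LinearMap.congr_fun ht (h x))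
        rw [map_sub, map_smul, sub_eq_zero]
        simpa using this
      have h2 : LocalizedModule.mk (t (h x) - C • x) (1 : p.asIdeal.primeCompl) = LocalizedModule.mk 0 1 :=
        hbij.1 (by rw [LocalizedModule.map_mk, LocalizedModule.map_mk, h1, map_zero])
      rw [LocalizedModule.mk_eq] at h2
      obtain ⟨c, hc⟩ := h2
      exact ⟨c, c.2, by simpa [Submonoid.smul_def] using hc⟩
    choose e he her using fun j => hker (gen j)
    let E := ∏ j, e j
    intro hle
    have hmem : E * C ∈ retrIdeal φ := by
      refine ⟨E • (t ∘ₗ r), ?_⟩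
      refine LinearMap.ext_on_range hgen fun j => ?_
      show E • t (h (gen j)) = (E * C) • gen j
      rw [mul_smul, ← sub_eq_zero, ← smul_sub,
        show E = (∏ i ∈ Finset.univ.erase j, e i) * e j from (Finset.prod_erase_mul _ _ (Finset.mem_univ j)).symm,
        mul_smul, her, smul_zero]
    have hEC : E * C ∉ p.asIdeal := by
      refine p.asIdeal.primeCompl.mul_mem ?_ ?_
      · exact fun hm => (Ideal.IsPrime.prod_mem_iff (hp := p.isPrime)).1 hm |>.elim fun j hj => he j hj.2
      · exact fun hm => (Ideal.IsPrime.prod_mem_iff (hp := p.isPrime)).1 hm |>.elim fun j hj => hc j hj.2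
    exact hEC (hle hmem)
  · intro hle
    obtain ⟨c, ⟨r, hr⟩, hc⟩ := SetLike.not_le_iff_exists.1 hle
    have hcne : algebraMap R K c ≠ 0 := fun h => hc (Ideal.algebraMap_residueField_eq_zero.1 h)
    refine (injective_iff_map_eq_zero _).2 fun z hz => ?_
    have h1 : (r ∘ₗ φ).lTensor K z = 0 := by rw [LinearMap.lTensor_comp, LinearMap.comp_apply, hz, map_zero]
    rw [hr, LinearMap.lTensor_smul, LinearMap.lTensor_id, LinearMap.smul_apply, LinearMap.id_apply, ← algebraMap_smul K c,
      smul_eq_zero] at h1
    exact h1.resolve_left hcne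

theorem injLocus_away [Module.Finite R P₁] [Module.Projective R P₁] [Module.Finite R P₂]
    [Module.Projective R P₂] (φ : P₁ →ₗ[R] P₂) (f : R)
    (hf : (↑(PrimeSpectrum.basicOpen f) : Set (PrimeSpectrum R)) ⊆
      {p : PrimeSpectrum R | Function.Injective (φ.lTensor p.asIdeal.ResidueField)}) :
    Function.Injective (LocalizedModule.map (Submonoid.powers f) φ) ∧
      Module.Finite (Localization.Away f) (LocalizedModule (Submonoid.powers f) (P₂ ⧸ LinearMap.range φ)) ∧
      Module.Projective (Localization.Away f) (LocalizedModule (Submonoid.powers f) (P₂ ⧸ LinearMap.range φ)) := by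
  obtain ⟨N, hN⟩ : f ∈ (retrIdeal φ).radical := by
    rw [Ideal.radical_eq_sInf, Submodule.mem_sInf]
    rintro P ⟨hP, hPp⟩
    by_contra hfP
    exact (injective_fibre_iff φ ⟨P, hPp⟩).1 (@hf ⟨P, hPp⟩ hfP) hP
  obtain ⟨r, hr⟩ := hN
  set S := Submonoid.powers f
  let u : Localization.Away f := Localization.mk 1 ⟨f ^ N, N, rfl⟩
  have hu : ∀ {V : Type u} [AddCommGroup V] [Module R V] (v : LocalizedModule S V),
      u • (f ^ N • v) = v := by
    intro V _ _ v
    rw [← algebraMap_smul (Localization.Away f) (f ^ N) v, smul_smul]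
    rw [← Localization.mk_one_eq_algebraMap, Localization.mk_mul, one_mul, mul_one]
    rw [Localization.mk_self (⟨f ^ N, N, rfl⟩ : S), one_smul]
  let r' : LocalizedModule S P₂ →ₗ[Localization.Away f] LocalizedModule S P₁ := u • LocalizedModule.map S r
  have hr' : ∀ x, r' (LocalizedModule.map S φ x) = x := by
    intro x
    induction x using LocalizedModule.induction_on with
    | h x s =>
      show u • LocalizedModule.map S r (LocalizedModule.map S φ (LocalizedModule.mk x s)) = _
      rw [LocalizedModule.map_mk, LocalizedModule.map_mk, show r (φ x) = f ^ N • x from LinearMap.congr_fun hr x,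
        ← LocalizedModule.smul'_mk, hu]
  refine ⟨Function.LeftInverse.injective hr', ?_, ?_⟩
  · exact Module.Finite.of_isLocalizedModule S (LocalizedModule.mkLinearMap S (P₂ ⧸ LinearMap.range φ))
  · haveI : Module.Projective (Localization.Away f) (LocalizedModule S P₂) :=
      Module.projective_of_isLocalizedModule S (LocalizedModule.mkLinearMap S P₂)
    let q := LocalizedModule.map S (LinearMap.range φ).mkQ
    have hq : Function.Surjective q := LocalizedModule.map_surjective S _ (Submodule.mkQ_surjective _)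
    have hex : Function.Exact (LocalizedModule.map S φ) q := LocalizedModule.map_exact S φ _ (LinearMap.exact_map_mkQ_range φ)
    let ψ : LocalizedModule S P₂ →ₗ[Localization.Away f] LocalizedModule S P₂ :=
      LinearMap.id - LocalizedModule.map S φ ∘ₗ r'
    have hψ : LinearMap.ker q ≤ LinearMap.ker ψ := fun x hx => by
      obtain ⟨y, rfl⟩ := (hex x).1 hx
      simp [ψ, hr']
    let e := q.quotKerEquivOfSurjective hq
    refine Module.Projective.of_split ((LinearMap.ker q).liftQ ψ hψ ∘ₗ e.symm.toLinearMap) q ?_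
    refine LinearMap.ext fun x => ?_
    obtain ⟨z, rfl⟩ := hq x
    have : e.symm (q z) = Submodule.Quotient.mk z := (LinearEquiv.symm_apply_eq e).2 rfl
    show q ((LinearMap.ker q).liftQ ψ hψ (e.symm (q z))) = q z
    rw [this, Submodule.liftQ_apply]
    simp [ψ, (hex _).2 ⟨r' z, rfl⟩]

end Groth.Agent.CAlgMisc2
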