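import Mathlib

/-! Reduction of the range of an idempotent of a finite free module. -/
universe u

namespace Groth.Agent.CAlgMisc2

open TensorProduct

theorem exists_baseChange_equiv_range {R : Type u} [CommRing R] (I : Ideal R) {n : ℕ}
    (e : (Fin n → R) →ₗ[R] (Fin n → R)) (he : ∀ x, e (e x) = e x)
    {Pb : Type u} [AddCommGroup Pb] [Module (R ⧸ I) Pb]
    (i : Pb →ₗ[R ⧸ I] (Fin n → R ⧸ I)) (p : (Fin n → R ⧸ I) →ₗ[R ⧸ I] Pb) (hpi : ∀ v, p (i v) = v)
    (h : ∀ x : Fin n → R, (fun k => Ideal.Quotient.mk I (e x k)) = i (p fun k => Ideal.Quotient.mk I (x k))) :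
    Nonempty (((R ⧸ I) ⊗[R] LinearMap.range e) ≃ₗ[R ⧸ I] Pb) := by
  let ps := TensorProduct.piScalarRight R (R ⧸ I) (R ⧸ I) (Fin n)
  have key : ∀ z, ps (e.baseChange (R ⧸ I) z) = i (p (ps z)) := by
    intro z
    induction z with
    | zero => simp
    | add a b ha hb => simp only [map_add, ha, hb]
    | tmul s x =>
      have h1 : ∀ y : Fin n → R, ps (s ⊗ₜ y) = s • (fun k => Ideal.Quotient.mk I (y k)) := fun y => by
        ext k
        simp [ps, TensorProduct.piScalarRight_apply, Algebra.smul_def, mul_comm]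
      rw [LinearMap.baseChange_tmul, h1, h1, h, map_smul, map_smul]
  let F := p ∘ₗ ps.toLinearMap ∘ₗ ((LinearMap.range e).subtype.baseChange (R ⧸ I))
  let G := (e.rangeRestrict.baseChange (R ⧸ I)) ∘ₗ ps.symm.toLinearMap ∘ₗ i
  have hsub : ∀ z, (LinearMap.range e).subtype.baseChange (R ⧸ I) (e.rangeRestrict.baseChange (R ⧸ I) z) =
      e.baseChange (R ⧸ I) z := by
    intro z
    induction z with
    | zero => simp
    | add a b ha hb => simp only [map_add, ha, hb]
    | tmul s x => simp
  refine ⟨LinearEquiv.ofLinear F G ?_ ?_⟩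
  · refine LinearMap.ext fun v => ?_
    show p (ps ((LinearMap.range e).subtype.baseChange (R ⧸ I) (e.rangeRestrict.baseChange (R ⧸ I) (ps.symm (i v))))) = v
    rw [hsub, key, LinearEquiv.apply_symm_apply, hpi, hpi]
  · refine LinearMap.ext fun w => ?_
    show e.rangeRestrict.baseChange (R ⧸ I) (ps.symm (i (p (ps ((LinearMap.range e).subtype.baseChange (R ⧸ I) w))))) = w
    rw [← key, LinearEquiv.symm_apply_apply]
    induction w with
    | zero => simp
    | add a b ha hb => simp only [map_add, ha, hb]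
    | tmul s x =>
      obtain ⟨_, y, rfl⟩ := x
      simp only [LinearMap.baseChange_tmul]
      congr 1
      exact Subtype.ext (by simp [he])

end Groth.Agent.CAlgMisc2
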