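import Groth.Prelude.Def_CAlgX
import Groth.Agent.CAlgMisc1.Imports
import Mathlib.LinearAlgebra.Matrix.NonsingularInverse
import Mathlib.LinearAlgebra.Multilinear.Basic
import Mathlib.LinearAlgebra.Matrix.ToLin
import Mathlib.RingTheory.Support
import Mathlib.RingTheory.Spectrum.Prime.Module

/-! Maximal minors of rectangular matrices. -/

universe u

namespace Groth.Agent.CAlgMisc2

variable {R : Type u} [CommRing R] {n m : ℕ}

theorem det_mul_mem_span (B : Matrix (Fin m) (Fin n) R) (A : Matrix (Fin n) (Fin m) R) :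
    (B * A).det ∈ Ideal.span (Set.range fun g : Fin m → Fin n => (A.submatrix g id).det) := by
  classical
  have hrow : (B * A) = fun i => ∑ k, B i k • A k := by
    funext i j
    simp [Matrix.mul_apply, Finset.sum_apply]
  have : (B * A).det = (Matrix.detRowAlternating (R := R) (n := Fin m)).toMultilinearMap
      (fun i => ∑ k, B i k • A k) := by rw [← hrow]; rfl
  rw [this, MultilinearMap.map_sum]
  refine Submodule.sum_mem _ fun g _ => ?_
  rw [MultilinearMap.map_smul_univ, smul_eq_mul]
  refine Ideal.mul_mem_left _ _ (Ideal.subset_span ⟨g, rfl⟩)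

theorem exists_left_mul_eq_smul (A : Matrix (Fin n) (Fin m) R) {f : R} (hf : f ∈ CAlgX.minorIdeal A m) :
    ∃ B : Matrix (Fin m) (Fin n) R, B * A = f • (1 : Matrix (Fin m) (Fin m) R) := by
  classical
  let J : Ideal R :=
    { carrier := {f | ∃ B : Matrix (Fin m) (Fin n) R, B * A = f • (1 : Matrix (Fin m) (Fin m) R)}
      add_mem' := fun {a b} ⟨B, hB⟩ ⟨C, hC⟩ => ⟨B + C, by rw [Matrix.add_mul, hB, hC, add_smul]⟩
      zero_mem' := ⟨0, by simp⟩
      smul_mem' := fun r a ⟨B, hB⟩ => ⟨r • B, by rw [Matrix.smul_mul, hB, smul_smul, smul_eq_mul]⟩ }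
  suffices hle : CAlgX.minorIdeal A m ≤ J from hle hf
  refine Ideal.span_le.2 ?_
  rintro _ ⟨⟨r, c⟩, rfl⟩
  show (A.submatrix r c).det ∈ J
  let P : Matrix (Fin m) (Fin n) R := fun i k => if r i = k then 1 else 0
  let Q : Matrix (Fin m) (Fin m) R := fun k j => if k = c j then 1 else 0
  have hP : P * A = A.submatrix r id := by ext i j; simp [P, Matrix.mul_apply]
  have hQ : A.submatrix r c = A.submatrix r id * Q := by ext i j; simp [Q, Matrix.mul_apply]
  refine ⟨Q.det • ((A.submatrix r id).adjugate * P), ?_⟩
  rw [Matrix.smul_mul, Matrix.mul_assoc, hP, Matrix.adjugate_mul, smul_smul, hQ, Matrix.det_mul, mul_comm]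

theorem pow_mem_minorIdeal (A : Matrix (Fin n) (Fin m) R) {f : R} {B : Matrix (Fin m) (Fin n) R}
    (h : B * A = f • (1 : Matrix (Fin m) (Fin m) R)) : f ^ m ∈ CAlgX.minorIdeal A m := by
  have h1 := det_mul_mem_span B A
  rw [h, Matrix.det_smul, Matrix.det_one, mul_one, Fintype.card_fin] at h1
  refine (Ideal.span_le.2 ?_) h1
  rintro _ ⟨g, rfl⟩
  exact Ideal.subset_span ⟨(g, id), rfl⟩

/-- The complement of the support of a finitely presented module is quasi-compact. -/
theorem isCompact_support_compl (M : Type u) [AddCommGroup M] [Module R M] [Module.FinitePresentation R M] :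
    IsCompact (Module.support R M)ᶜ := by
  classical
  obtain ⟨n, K, e, hK⟩ := Module.FinitePresentation.exists_fin R M
  obtain ⟨m, v, hv⟩ := Submodule.fg_iff_exists_fin_generating_family.1 hK
  let V : Matrix (Fin m) (Fin n) R := fun k => v k
  let d : (Fin n → Fin m) → R := fun g => (V.submatrix g id).det
  have key : (Module.support R M)ᶜ = ⋃ g, (PrimeSpectrum.basicOpen (d g) : Set (PrimeSpectrum R)) := by
    ext p
    simp only [Set.mem_compl_iff, Set.mem_iUnion, SetLike.mem_coe, PrimeSpectrum.mem_basicOpen]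
    rw [LinearEquiv.support_eq e, Module.mem_support_iff_of_finite]
    constructor
    · intro hp
      obtain ⟨s, hs, hsp⟩ := SetLike.not_le_iff_exists.1 hp
      have hrow : ∀ i, s • (Pi.single i (1 : R) : Fin n → R) ∈ Submodule.span R (Set.range v) := fun i => by
        have h0 := Module.mem_annihilator.1 hs (Submodule.Quotient.mk (Pi.single i 1))
        rw [← Submodule.Quotient.mk_smul, Submodule.Quotient.mk_eq_zero] at h0
        rwa [hv]
      choose b hb using fun i => (Submodule.mem_span_range_iff_exists_fun R).1 (hrow i)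
      let B : Matrix (Fin n) (Fin m) R := fun i k => b i k
      have hBV : B * V = s • (1 : Matrix (Fin n) (Fin n) R) := by
        ext i j
        have := congrFun (hb i) j
        simp only [Finset.sum_apply, Pi.smul_apply, smul_eq_mul] at this
        rw [Matrix.mul_apply, this, Matrix.smul_apply, Matrix.one_apply, smul_eq_mul, Pi.single_apply]
        simp only [eq_comm]
      have hmem := det_mul_mem_span B V
      rw [hBV, Matrix.det_smul, Matrix.det_one, mul_one, Fintype.card_fin] at hmem
      by_contra! hall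
      exact hsp (p.2.mem_of_pow_mem n ((Ideal.span_le.2 (by rintro _ ⟨g, rfl⟩; exact hall g)) hmem))
    · rintro ⟨g, hg⟩ hle
      refine hg (hle (Module.mem_annihilator.2 fun x => ?_))
      obtain ⟨x, rfl⟩ := Submodule.Quotient.mk_surjective _ x
      rw [← Submodule.Quotient.mk_smul, Submodule.Quotient.mk_eq_zero]
      have hx : d g • x = Matrix.vecMul (Matrix.vecMul x (V.submatrix g id).adjugate) (V.submatrix g id) := by
        rw [Matrix.vecMul_vecMul, Matrix.adjugate_mul, Matrix.vecMul_smul, Matrix.vecMul_one]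
      rw [hx, Matrix.vecMul_eq_sum]
      refine Submodule.sum_mem _ fun i _ => Submodule.smul_mem _ _ ?_
      rw [← hv]
      exact Submodule.subset_span ⟨g i, rfl⟩
  rw [key]
  exact isCompact_iUnion fun g => PrimeSpectrum.isCompact_basicOpen _

end Groth.Agent.CAlgMisc2
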