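import Groth.Agent.CAlgMisc1.Imports
import Mathlib.RingTheory.Ideal.KrullsHeightTheorem
import Mathlib.RingTheory.Ideal.MinimalPrime.Noetherian
import Mathlib.RingTheory.Ideal.Height
import Mathlib.RingTheory.KrullDimension.Basic

/-! Abundance of primes in Noetherian domains of dimension at least two. -/

universe u

namespace Groth.Agent.CAlgMisc2

open IsLocalRing

variable {A : Type u} [CommRing A] [IsDomain A] [IsLocalRing A] [IsNoetherianRing A]

/-- In a Noetherian local domain of dimension `≥ 2` no nonzero element lies in all nonzero primes. -/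
theorem exists_prime_notMem (hdim : 1 < (maximalIdeal A).height) {x : A} (hx : x ≠ 0) :
    ∃ P : Ideal A, P.IsPrime ∧ P ≠ ⊥ ∧ x ∉ P := by
  by_contra! hcon
  have hfin : (Ideal.span {x}).minimalPrimes.Finite := Ideal.finite_minimalPrimes_of_isNoetherianRing A _
  have hsub : (maximalIdeal A : Set A) ⊆ ⋃ P ∈ (hfin.toFinset : Set (Ideal A)), id P := by
    intro y hy
    simp only [Set.Finite.coe_toFinset, Set.mem_iUnion, id_eq, SetLike.mem_coe]
    by_cases hy0 : y = 0
    · obtain ⟨P, hP⟩ := Ideal.nonempty_minimalPrimes (I := Ideal.span {x}) (ne_top_of_le_ne_top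
        (maximalIdeal.isMaximal A).ne_top (Ideal.span_le.2 (Set.singleton_subset_iff.2
          (hcon _ inferInstance (fun h => by rw [h, Ideal.height_bot] at hdim; exact absurd hdim (by simp))))))
      exact ⟨P, hP, hy0 ▸ zero_mem _⟩
    obtain ⟨P, hP, hPy⟩ := Ideal.exists_minimalPrimes_le
      (show Ideal.span {y} ≤ maximalIdeal A from Ideal.span_le.2 (Set.singleton_subset_iff.2 hy))
    have hyP : y ∈ P := hP.1.2 (Ideal.mem_span_singleton_self y)
    have := hP.1.1
    have hPne : P ≠ ⊥ := fun h => hy0 (by simpa [h] using hyP)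
    have hxP : Ideal.span {x} ≤ P := Ideal.span_le.2 (Set.singleton_subset_iff.2 (hcon P ‹_› hPne))
    obtain ⟨Q, hQ, hQP⟩ := Ideal.exists_minimalPrimes_le hxP
    refine ⟨P, ⟨⟨hP.1.1, hxP⟩, fun Q' hQ' hle => ?_⟩, hyP⟩
    by_contra hne
    have := hQ'.1
    have hlt : Q' < P := lt_of_le_not_ge hle hne
    have h1 := Ideal.height_le_one_of_isPrincipal_of_mem_minimalPrimes (Ideal.span {y}) P hP
    have h2 := Ideal.height_add_one_le_of_lt_of_isPrime hlt
    have hQ'ne : (⊥ : Ideal A) < Q' :=
      bot_lt_iff_ne_bot.2 fun h => hx (by simpa [h] using hQ'.2 (Ideal.mem_span_singleton_self x))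
    have h3 := Ideal.height_add_one_le_of_lt_of_isPrime hQ'ne
    have h4 := ((add_le_add (le_add_self.trans h3) le_rfl).trans h2).trans h1
    exact absurd h4 (by decide)
  obtain ⟨P, hP, hle⟩ := (Ideal.subset_union_prime ⊥ ⊥ (fun P hP _ _ => (hfin.mem_toFinset.1 hP).1.1)).1 hsub
  have hPm := hfin.mem_toFinset.1 hP
  have := hPm.1.1
  have h1 := Ideal.height_le_one_of_isPrincipal_of_mem_minimalPrimes (Ideal.span {x}) P hPm
  rw [← (maximalIdeal.isMaximal A).eq_of_le hPm.1.1.ne_top hle] at h1
  exact absurd (hdim.trans_le h1) (lt_irrefl _)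

/-- Between two primes with a prime in between there is a prime avoiding a given element. -/
theorem exists_prime_between {R : Type u} [CommRing R] [IsNoetherianRing R] {p m q : Ideal R}
    [p.IsPrime] [m.IsPrime] [q.IsPrime] (hpm : p < m) (hmq : m < q) {x : R} (hx : x ∉ p) :
    ∃ P : Ideal R, P.IsPrime ∧ p < P ∧ x ∉ P := by
  let B := R ⧸ p
  let π : R →+* B := Ideal.Quotient.mk p
  have hker : ∀ {I : Ideal R}, p ≤ I → (I.map π).comap π = I := fun {I} h => by
    rw [Ideal.comap_map_of_surjective' _ Ideal.Quotient.mk_surjective, Ideal.mk_ker, sup_eq_left.2 h]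
  have hq' : (q.map π).IsPrime := Ideal.map_isPrime_of_surjective Ideal.Quotient.mk_surjective
    (by rw [Ideal.mk_ker]; exact (hpm.trans hmq).le)
  have hm' : (m.map π).IsPrime := Ideal.map_isPrime_of_surjective Ideal.Quotient.mk_surjective
    (by rw [Ideal.mk_ker]; exact hpm.le)
  let A := Localization.AtPrime (q.map π)
  have : IsDomain A := IsLocalization.isDomain_localization (q.map π).primeCompl_le_nonZeroDivisors
  have hb : (⊥ : Ideal B) < m.map π := bot_lt_iff_ne_bot.2 fun h => hpm.ne' (by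
    have := hker hpm.le
    rw [h] at this
    exact this.symm.trans (by rw [← RingHom.ker_eq_comap_bot]; exact Ideal.mk_ker))
  have hlt : m.map π < q.map π := lt_of_le_of_ne (Ideal.map_mono hmq.le) fun h => hmq.ne (by
    rw [← hker hpm.le, h, hker (hpm.trans hmq).le])
  have hdim : 1 < (maximalIdeal A).height := by
    rw [IsLocalization.height_under (q.map π).primeCompl (maximalIdeal A) |>.symm,
      IsLocalization.AtPrime.under_maximalIdeal A (q.map π)]
    have h1 := Ideal.height_add_one_le_of_lt_of_isPrime hb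
    have h2 := Ideal.height_add_one_le_of_lt_of_isPrime hlt
    have := ((add_le_add (le_add_self.trans h1) le_rfl).trans h2)
    exact lt_of_lt_of_le (by decide) this
  have hxA : algebraMap B A (π x) ≠ 0 :=
    (map_ne_zero_iff _ (IsLocalization.injective A (q.map π).primeCompl_le_nonZeroDivisors)).2
      (by rwa [Ne, Ideal.Quotient.eq_zero_iff_mem])
  obtain ⟨P, hP, hne, hxP⟩ := exists_prime_notMem hdim hxA
  refine ⟨(P.comap (algebraMap B A)).comap π, inferInstance, ?_, hxP⟩
  refine lt_of_le_of_ne (fun r hr => ?_) fun h => hne ?_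
  · rw [Ideal.mem_comap, Ideal.Quotient.eq_zero_iff_mem.2 hr]; exact zero_mem _
  · have hb0 : P.comap (algebraMap B A) = ⊥ := by
      rw [← Ideal.map_comap_of_surjective π Ideal.Quotient.mk_surjective (P.comap (algebraMap B A)), ← h,
        Ideal.map_quotient_self]
    rw [← IsLocalization.map_under (q.map π).primeCompl A P, Ideal.under_def, hb0, Ideal.map_bot]

theorem isJacobsonRing_of_infinite {R : Type u} [CommRing R] [IsNoetherianRing R]
    (h : ∀ (p : Ideal R) [p.IsPrime], p.IsMaximal ∨ {q : PrimeSpectrum R | p ≤ q.asIdeal}.Infinite) :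
    IsJacobsonRing R := by
  rw [isJacobsonRing_iff_prime_eq]
  intro p
  induction p using WellFoundedGT.induction with
  | _ p ih =>
    intro hp
    by_contra hne
    have hpJ : p < p.jacobson := lt_of_le_of_ne Ideal.le_jacobson (Ne.symm hne)
    obtain ⟨x, hxJ, hxp⟩ := SetLike.exists_of_lt hpJ
    have hall : ∀ q : Ideal R, q.IsPrime → p < q → p.jacobson ≤ q := fun q hq hlt =>
      (Ideal.jacobson_mono hlt.le).trans (ih q hlt hq).le
    have hinf := (h p).resolve_left fun hm => hne (@Ideal.jacobson_eq_self_of_isMaximal R _ p hm)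
    refine hinf (Set.Finite.subset (((Ideal.finite_minimalPrimes_of_isNoetherianRing R p.jacobson).preimage
      (f := PrimeSpectrum.asIdeal) (fun a _ b _ hab => PrimeSpectrum.ext hab)).insert ⟨p, hp⟩) fun q hq => ?_)
    rcases (show p ≤ q.asIdeal from hq).eq_or_lt with he | hlt
    · exact Or.inl (PrimeSpectrum.ext he.symm)
    refine Or.inr (show q.asIdeal ∈ p.jacobson.minimalPrimes from ?_)
    obtain ⟨m, hm, hmq⟩ := Ideal.exists_minimalPrimes_le (hall _ q.2 hlt)
    rcases hmq.eq_or_lt with he | hlt'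
    · exact he ▸ hm
    have := hm.1.1
    have hpm : p < m := lt_of_lt_of_le hpJ hm.1.2
    obtain ⟨P, hP, hpP, hxP⟩ := exists_prime_between hpm hlt' hxp
    exact absurd (hall P hP hpP hxJ) hxP

theorem infinite_of_isOpen (hdim : 2 ≤ ringKrullDim A) (U : Set (PrimeSpectrum A)) (hU : IsOpen U)
    (hne : U.Nonempty) : U.Infinite := by
  classical
  intro hfin
  have hht : 1 < (maximalIdeal A).height := by
    rw [← WithBot.coe_lt_coe, maximalIdeal_height_eq_ringKrullDim]
    exact lt_of_lt_of_le (by decide) hdim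
  obtain ⟨q₀, hq₀⟩ := hne
  obtain ⟨_, ⟨f, rfl⟩, hfq, hsub⟩ := PrimeSpectrum.isTopologicalBasis_basic_opens.exists_subset_of_mem_open hq₀ hU
  have hf0 : f ≠ 0 := fun h => hfq (h ▸ zero_mem _)
  have hchoice : ∀ q : PrimeSpectrum A, ∃ a, a ≠ 0 ∧ (q.asIdeal ≠ ⊥ → a ∈ q.asIdeal) := fun q => by
    by_cases h : q.asIdeal = ⊥
    · exact ⟨1, one_ne_zero, fun h' => absurd h h'⟩
    · obtain ⟨a, ha, ha0⟩ := Submodule.exists_mem_ne_zero_of_ne_bot h
      exact ⟨a, ha0, fun _ => ha⟩
  choose a ha0 ha using hchoice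
  obtain ⟨P, hP, hPne, hxP⟩ := exists_prime_notMem hht
    (x := f * ∏ q ∈ hfin.toFinset, a q) (mul_ne_zero hf0 (Finset.prod_ne_zero_iff.2 fun q _ => ha0 q))
  refine hxP ?_
  by_cases hfP : f ∈ P
  · exact P.mul_mem_right _ hfP
  · exact P.mul_mem_left _ (Ideal.mem_of_dvd _ (Finset.dvd_prod_of_mem a
      (hfin.mem_toFinset.2 (hsub (show (⟨P, hP⟩ : PrimeSpectrum A) ∈ PrimeSpectrum.basicOpen f from hfP))))
      (ha ⟨P, hP⟩ hPne))

end Groth.Agent.CAlgMisc2
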