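import Mathlib

/-! Polynomials with unit content ideal; flatness criterion for quotients. -/
universe u v w

namespace Groth.Agent.CAlgMisc2

open MvPolynomial TensorProduct MonomialOrder

theorem eq_zero_of_mul_eq_zero_of_content {A : Type u} [CommRing A] {n : ℕ} (f : MvPolynomial (Fin n) A)
    (hf : Ideal.span (Set.range fun d => f.coeff d) = ⊤) :
    ∀ g : MvPolynomial (Fin n) A, f * g = 0 → g = 0 := by
  classical
  let m : MonomialOrder (Fin n) := MonomialOrder.lex
  suffices ∀ k, ∀ g : MvPolynomial (Fin n) A, g.support.card ≤ k → f * g = 0 → g = 0 from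
    fun g => this _ g le_rfl
  intro k
  induction k with
  | zero =>
    intro g hg _
    exact MvPolynomial.support_eq_empty.1 (Finset.card_eq_zero.1 (Nat.le_zero.1 hg))
  | succ k ih =>
    intro g hg hfg
    by_contra hg0
    have key : ∀ l, ∀ h : MvPolynomial (Fin n) A, h.support.card ≤ l → h * g = 0 →
        ∀ d, MvPolynomial.C (h.coeff d) * g = 0 := by
      intro l
      induction l with
      | zero =>
        intro h hh _ d
        rw [MvPolynomial.support_eq_empty.1 (Finset.card_eq_zero.1 (Nat.le_zero.1 hh))]
        simp
      | succ l ihl =>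
        intro h hh hhg d
        by_cases hh0 : h = 0
        · simp [hh0]
        set a := m.leadingCoeff h with ha
        have hag : MvPolynomial.C a * g = 0 := by
          refine ih _ ?_ (by rw [mul_left_comm, hfg, mul_zero])
          have hsub : (MvPolynomial.C a * g).support ⊆ g.support.erase (m.degree g) := by
            intro e he
            rw [MvPolynomial.mem_support_iff, MvPolynomial.coeff_C_mul] at he
            refine Finset.mem_erase.2 ⟨?_, MvPolynomial.mem_support_iff.2 (right_ne_zero_of_mul he)⟩
            rintro rfl
            apply he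
            have := m.coeff_mul_of_degree_add (f := h) (g := g)
            rw [hhg, MvPolynomial.coeff_zero] at this
            exact this.symm
          have h1 := Finset.card_le_card hsub
          rw [Finset.card_erase_of_mem (m.degree_mem_support hg0)] at h1
          omega
        set h' := h - MvPolynomial.monomial (m.degree h) a with hh'
        have hmon : MvPolynomial.monomial (m.degree h) a * g = 0 := by
          rw [show MvPolynomial.monomial (m.degree h) a =
            MvPolynomial.monomial (m.degree h) 1 * MvPolynomial.C a by
              rw [mul_comm, MvPolynomial.C_mul_monomial, mul_one], mul_assoc, hag, mul_zero]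
        have hsub' : h'.support ⊆ h.support.erase (m.degree h) := by
          intro e he
          rw [MvPolynomial.mem_support_iff, hh', MvPolynomial.coeff_sub, MvPolynomial.coeff_monomial] at he
          by_cases hed : m.degree h = e
          · subst hed
            simp [ha, MonomialOrder.leadingCoeff] at he
          · rw [if_neg hed, sub_zero] at he
            exact Finset.mem_erase.2 ⟨fun e' => hed e'.symm, MvPolynomial.mem_support_iff.2 he⟩
        have hcard : h'.support.card ≤ l := by
          have h1 := Finset.card_le_card hsub'
          rw [Finset.card_erase_of_mem (m.degree_mem_support hh0)] at h1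
          omega
        by_cases hed : m.degree h = d
        · subst hed; exact hag
        · have := ihl h' hcard (by rw [hh', sub_mul, hhg, hmon, sub_zero]) d
          rwa [hh', MvPolynomial.coeff_sub, MvPolynomial.coeff_monomial, if_neg hed, sub_zero] at this
    apply hg0
    let J : Ideal A := Ideal.comap MvPolynomial.C (LinearMap.ker (LinearMap.mulRight (MvPolynomial (Fin n) A) g))
    have hJ : Ideal.span (Set.range fun d => f.coeff d) ≤ J := Ideal.span_le.2 <| by
      rintro _ ⟨d, rfl⟩
      exact key _ f le_rfl hfg d
    have : (1 : A) ∈ J := hJ (hf ▸ Submodule.mem_top)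
    simpa [J] using this

theorem flat_of_surjective_of_inf_le {A : Type u} [CommRing A] {P : Type v} {Q : Type w} [AddCommGroup P]
    [Module A P] [AddCommGroup Q] [Module A Q] [Module.Flat A P] (q : P →ₗ[A] Q) (hq : Function.Surjective q)
    (h : ∀ I : Ideal A, I.FG → LinearMap.ker q ⊓ I • ⊤ ≤ I • LinearMap.ker q) : Module.Flat A Q := by
  rw [Module.Flat.iff_lift_lsmul_comp_subtype_injective]
  intro I hI
  rw [injective_iff_map_eq_zero]
  intro x hx
  obtain ⟨y, rfl⟩ := LinearMap.lTensor_surjective I hq x
  let μP : I ⊗[A] P →ₗ[A] P := TensorProduct.lift ((LinearMap.lsmul A P).comp I.subtype)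
  have hμ : Function.Injective μP := (Module.Flat.iff_lift_lsmul_comp_subtype_injective.1 inferInstance) hI
  have hy : μP y ∈ LinearMap.ker q ⊓ I • ⊤ := by
    refine ⟨?_, ?_⟩
    · show q (μP y) = 0
      rw [← hx]
      clear hx
      induction y with
      | zero => simp
      | tmul a p => simp [μP]
      | add a b ha hb => simp only [map_add, ha, hb]
    · clear hx
      induction y with
      | zero => simp
      | tmul a p => simpa [μP] using Submodule.smul_mem_smul a.2 (Submodule.mem_top : p ∈ ⊤)
      | add a b ha hb => rw [map_add]; exact Submodule.add_mem _ ha hb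
  have : ∀ z ∈ I • LinearMap.ker q, ∃ y' : I ⊗[A] P, μP y' = z ∧ q.lTensor I y' = 0 := by
    intro z hz
    refine Submodule.smul_induction_on hz (fun a ha p hp => ⟨(⟨a, ha⟩ : I) ⊗ₜ p, ?_, ?_⟩) ?_
    · simp [μP]
    · simp [LinearMap.mem_ker.1 hp]
    · rintro z₁ z₂ ⟨y₁, h1, h1'⟩ ⟨y₂, h2, h2'⟩
      exact ⟨y₁ + y₂, by rw [map_add, h1, h2], by rw [map_add, h1', h2', add_zero]⟩
  obtain ⟨y', hy1, hy2⟩ := this _ (h I hI hy)
  rw [← hμ hy1, hy2]

end Groth.Agent.CAlgMisc2
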