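import Mathlib

/-! Pure ideals, closed sets stable under generalization, finite flat modules. -/
set_option autoImplicit false
universe u

open PrimeSpectrum

namespace Groth.Agent.CAlgMisc2

variable {R : Type u} [CommRing R]

theorem stableUnderGeneralization_of_pure {I : Ideal R} [I.Pure] :
    StableUnderGeneralization (zeroLocus (I : Set R)) := by
  intro p q hqp hp
  rw [← PrimeSpectrum.le_iff_specializes] at hqp
  rw [PrimeSpectrum.mem_zeroLocus] at hp ⊢
  intro x hx
  obtain ⟨y, hy, hxy⟩ := Ideal.exists_eq_mul_of_pure hx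
  have hy1 : 1 - y ∉ q.asIdeal := fun h => p.isPrime.ne_top ((Ideal.eq_top_iff_one _).2
    (by simpa using p.asIdeal.add_mem (hqp h) (hp hy)))
  have h0 : x * (1 - y) = 0 := by rw [mul_sub, mul_one, ← hxy, sub_self]
  exact (q.isPrime.mem_or_mem (h0 ▸ q.asIdeal.zero_mem)).resolve_right hy1

theorem exists_pure_of_stable (Z : Set (PrimeSpectrum R)) (hc : IsClosed Z)
    (hg : StableUnderGeneralization Z) : ∃ I : Ideal R, I.Pure ∧ zeroLocus (I : Set R) = Z := by
  classical
  obtain ⟨J, rfl⟩ := (isClosed_iff_zeroLocus_ideal Z).1 hc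
  let I : Ideal R := ⨅ p : zeroLocus (J : Set R), RingHom.ker (algebraMap R (Localization.AtPrime p.1.asIdeal))
  have hmemI : ∀ x, x ∈ I ↔ ∀ p : PrimeSpectrum R, (J : Set R) ⊆ p.asIdeal → ∃ t ∉ p.asIdeal, t * x = 0 := by
    intro x
    simp only [I, Submodule.mem_iInf, RingHom.mem_ker]
    refine ⟨fun h p hp => ?_, fun h p => ?_⟩
    · obtain ⟨t, ht⟩ := (IsLocalization.map_eq_zero_iff p.asIdeal.primeCompl _ _).1 (h ⟨p, hp⟩)
      exact ⟨t.1, t.2, ht⟩
    · obtain ⟨t, ht, htx⟩ := h p.1 p.2
      exact (IsLocalization.map_eq_zero_iff p.1.asIdeal.primeCompl _ _).2 ⟨⟨t, ht⟩, htx⟩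
  -- a power of every element of `J` lies in `I`
  have hpow : ∀ y ∈ J, ∃ N, y ^ N ∈ I := by
    intro y hy
    let T : Ideal R := ⨆ n : ℕ, Submodule.annihilator (Ideal.span {y ^ n})
    have hT : J ⊔ T = ⊤ := by
      by_contra hne
      obtain ⟨m, hm, hle⟩ := Ideal.exists_le_maximal _ hne
      obtain ⟨hJm, hTm⟩ := sup_le_iff.1 hle
      -- every prime below `m` contains `y`, so `y` is nilpotent at `m`
      have hnil : algebraMap R (Localization.AtPrime m) y ∈ nilradical (Localization.AtPrime m) := by
        rw [nilradical_eq_sInf, Ideal.mem_sInf]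
        intro Q hQ
        have : (⟨Q.comap (algebraMap R (Localization.AtPrime m)), hQ.comap _⟩ : PrimeSpectrum R) ∈ zeroLocus (J : Set R) := by
          refine hg (x := ⟨m, hm.isPrime⟩) ?_ hJm
          rw [← PrimeSpectrum.le_iff_specializes]
          show Q.comap (algebraMap R (Localization.AtPrime m)) ≤ m
          calc Q.comap (algebraMap R (Localization.AtPrime m))
              ≤ (IsLocalRing.maximalIdeal _).comap (algebraMap R (Localization.AtPrime m)) :=
                Ideal.comap_mono (IsLocalRing.le_maximalIdeal hQ.ne_top)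
            _ = m := IsLocalization.AtPrime.comap_maximalIdeal _ m
        exact this hy
      obtain ⟨n, hn⟩ := hnil
      rw [← map_pow, Ideal.zero_eq_bot, Ideal.mem_bot] at hn
      rw [IsLocalization.map_eq_zero_iff m.primeCompl] at hn
      obtain ⟨t, ht⟩ := hn
      refine t.2 (hTm (le_iSup (fun n : ℕ => Submodule.annihilator (Ideal.span {y ^ n})) n ?_))
      rw [Submodule.mem_annihilator_span_singleton]
      exact ht
    obtain ⟨j, hj, t, ht, hjt⟩ := Submodule.mem_sup.1 ((Ideal.eq_top_iff_one _).1 hT)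
    have hdir : Monotone fun n : ℕ => Submodule.annihilator (Ideal.span {y ^ n}) := by
      intro a b hab s hs
      rw [Submodule.mem_annihilator_span_singleton, smul_eq_mul] at hs ⊢
      rw [show y ^ b = y ^ a * y ^ (b - a) by rw [← pow_add, Nat.add_sub_cancel' hab], ← mul_assoc, hs, zero_mul]
    obtain ⟨N, hN⟩ := (Submodule.mem_iSup_of_directed _ hdir.directed_le).1 ht
    rw [Submodule.mem_annihilator_span_singleton, smul_eq_mul] at hN
    refine ⟨N, (hmemI _).2 fun p hp => ⟨t, fun htp => p.isPrime.ne_top ((Ideal.eq_top_iff_one _).2 ?_), hN⟩⟩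
    rw [← hjt]; exact add_mem (hp hj) htp
  have hz : zeroLocus (I : Set R) = zeroLocus (J : Set R) := by
    refine Set.Subset.antisymm (fun q hq y hy => ?_) fun p hp x hx => ?_
    · obtain ⟨N, hN⟩ := hpow y hy
      exact q.isPrime.mem_of_pow_mem N (hq hN)
    · obtain ⟨t, ht, htx⟩ := (hmemI x).1 hx p hp
      exact (p.isPrime.mem_or_mem (htx ▸ p.asIdeal.zero_mem)).resolve_left ht
  have hel : ∀ x ∈ I, ∃ y ∈ I, x = x * y := by
    intro x hx
    have hA : Submodule.annihilator (Ideal.span {x}) ⊔ J = ⊤ := by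
      by_contra hne
      obtain ⟨m, hm, hle⟩ := Ideal.exists_le_maximal _ hne
      obtain ⟨hAm, hJm⟩ := sup_le_iff.1 hle
      obtain ⟨t, ht, htx⟩ := (hmemI x).1 hx ⟨m, hm.isPrime⟩ hJm
      exact ht (hAm ((Submodule.mem_annihilator_span_singleton _ _).2 htx))
    obtain ⟨s, hs, y, hy, hsy⟩ := Submodule.mem_sup.1 ((Ideal.eq_top_iff_one _).1 hA)
    rw [Submodule.mem_annihilator_span_singleton, smul_eq_mul] at hs
    have hxy : x * y = x := by linear_combination x * hsy - hs
    obtain ⟨N, hN⟩ := hpow y hy
    refine ⟨y ^ N, hN, ?_⟩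
    clear hN
    induction N with
    | zero => rw [pow_zero, mul_one]
    | succ n ih => rw [pow_succ, ← mul_assoc, ← ih, hxy]
  refine ⟨I, Ideal.Pure.of_inf_eq_mul I fun K _ => le_antisymm ?_ Ideal.mul_le_inf, hz⟩
  rintro x ⟨hx, hxK⟩
  obtain ⟨y, hy, hxy⟩ := hel x hx
  rw [hxy, mul_comm x y]
  exact Ideal.mul_mem_mul hy hxK

theorem tfae_pure (I : Ideal R) :
    List.TFAE [I.Pure ∧ I.FG, ∃ e : R, IsIdempotentElem e ∧ I = Ideal.span {e},
      I.Pure ∧ IsOpen (zeroLocus (I : Set R)), Module.Projective R (R ⧸ I)] := by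
  tfae_have 1 → 2 := fun ⟨h, hfg⟩ => by
    obtain ⟨e, he, hI⟩ := (Ideal.isIdempotentElem_iff_of_fg I hfg).1 (Ideal.isIdempotentElem_of_pure I)
    exact ⟨e, he, hI⟩
  tfae_have 2 → 3 := by
    rintro ⟨e, he, rfl⟩
    refine ⟨Ideal.Pure.of_isIdempotentElem (Submodule.fg_span_singleton e) ?_, ?_⟩
    · rw [IsIdempotentElem, Ideal.span_singleton_mul_span_singleton, he.eq]
    · rw [PrimeSpectrum.zeroLocus_span,
        zeroLocus_eq_basicOpen_of_mul_add e (1 - e) (by rw [mul_sub, mul_one, he.eq, sub_self]) (by ring)]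
      exact (basicOpen _).2
  tfae_have 3 → 4 := by
    rintro ⟨h, ho⟩
    obtain ⟨e, he, hZ⟩ := isClopen_iff_zeroLocus.1 ⟨isClosed_zeroLocus _, ho⟩
    have hp : (Ideal.span {e}).Pure := Ideal.Pure.of_isIdempotentElem (Submodule.fg_span_singleton e)
      (by rw [IsIdempotentElem, Ideal.span_singleton_mul_span_singleton, he.eq])
    obtain rfl : I = Ideal.span {e} := Ideal.zeroLocus_inj_of_pure.1 (by rw [hZ, PrimeSpectrum.zeroLocus_span])
    let s : R ⧸ Ideal.span {e} →ₗ[R] R := Submodule.liftQ _ (LinearMap.mulRight R (1 - e)) (by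
      intro x hx
      obtain ⟨c, rfl⟩ := Ideal.mem_span_singleton'.1 hx
      show c * e * (1 - e) = 0
      rw [mul_assoc, mul_sub, mul_one, he.eq, sub_self, mul_zero])
    refine Module.Projective.of_split s (Submodule.mkQ _) (Submodule.linearMap_qext _ (LinearMap.ext fun x => ?_))
    show Submodule.Quotient.mk (x * (1 - e)) = Submodule.Quotient.mk x
    rw [Submodule.Quotient.eq]
    exact Ideal.mem_span_singleton'.2 ⟨-x, by ring⟩
  tfae_have 4 → 1 := fun h => by
    refine ⟨(inferInstance : Module.Flat R (R ⧸ I)), ?_⟩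
    obtain ⟨s, hs⟩ := Module.projective_lifting_property (Submodule.mkQ I) LinearMap.id (Submodule.mkQ_surjective I)
    let e := 1 - s (Submodule.Quotient.mk 1)
    have : I = Ideal.span {e} := by
      refine le_antisymm (fun x hx => Ideal.mem_span_singleton'.2 ⟨x, ?_⟩) ((Ideal.span_singleton_le_iff_mem _).2 ?_)
      · have : x * s (Submodule.Quotient.mk 1) = 0 := by
          rw [← smul_eq_mul, ← map_smul, ← Submodule.Quotient.mk_smul, smul_eq_mul, mul_one,
            (Submodule.Quotient.mk_eq_zero I).2 hx, map_zero]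
        show x * (1 - _) = x
        rw [mul_sub, mul_one, this, sub_zero]
      · have := LinearMap.congr_fun hs (Submodule.Quotient.mk 1)
        exact (Submodule.Quotient.eq I).1 this.symm
    rw [this]; exact Submodule.fg_span_singleton e
  tfae_finish

variable {M : Type u} [AddCommGroup M] [Module R M] [Module.Finite R M] [Module.Flat R M]

attribute [local instance] Module.free_of_flat_of_isLocalRing

/-- Generators at a prime generate nearby; the rank can only drop nearby. -/
theorem exists_nbhd_presentation (p : PrimeSpectrum R) : ∃ a ∉ p.asIdeal,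
    ∃ φ : (Fin (Module.rankAtStalk (R := R) M p) →₀ R) →ₗ[R] M,
      (∀ x : M ⧸ LinearMap.range φ, ∃ k : ℕ, a ^ k • x = 0) ∧
      ∀ q : PrimeSpectrum R, a ∉ q.asIdeal →
        Module.rankAtStalk (R := R) M q ≤ Module.rankAtStalk (R := R) M p := by
  by_cases hR : Subsingleton R
  · exact absurd (Subsingleton.elim (1 : R) 0 ▸ p.asIdeal.zero_mem) (p.asIdeal.ne_top_iff_one.1 p.isPrime.ne_top)
  have := not_subsingleton_iff_nontrivial.1 hR
  let Rₚ := Localization.AtPrime p.asIdeal
  let f : (Fin (Module.rankAtStalk (R := R) M p) →₀ R) →ₗ[R] Fin (Module.rankAtStalk (R := R) M p) →₀ Rₚ :=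
    Finsupp.mapRange.linearMap (Algebra.linearMap R Rₚ)
  let g : M →ₗ[R] LocalizedModule.AtPrime p.asIdeal M := LocalizedModule.mkLinearMap p.asIdeal.primeCompl M
  obtain ⟨φ, -, -, hφps⟩ := Module.exists_localizedMap_surjective_of_surjective p.asIdeal.primeCompl f g
    ((Module.finBasis Rₚ (LocalizedModule.AtPrime p.asIdeal M)).repr.restrictScalars R).symm.surjective
  obtain ⟨a, hap, hφas⟩ := by
    refine Module.exists_localizedMap_away_surjective_of_localizedMap_atPrime_surjective p.asIdeal φ ?_
    simpa [LocalizedModule.coe_map_eq f g]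
  rw [LinearMap.localizedMap_surjective_iff_subsingleton_localized_coker, LocalizedModule.subsingleton_iff] at hφas
  refine ⟨a, hap, φ, fun x => ?_, fun q hq => ?_⟩
  · obtain ⟨_, ⟨k, rfl⟩, h⟩ := hφas x
    exact ⟨k, h⟩
  · have hs : Function.Surjective (LocalizedModule.map q.asIdeal.primeCompl φ) := by
      rw [LinearMap.localizedMap_surjective_iff_subsingleton_localized_coker, LocalizedModule.subsingleton_iff]
      intro x
      obtain ⟨_, ⟨k, rfl⟩, h⟩ := hφas x
      exact ⟨a ^ k, fun h' => hq (q.isPrime.mem_of_pow_mem k h'), h⟩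
    have h1 := LinearMap.finrank_le_finrank_of_surjective (f := LocalizedModule.map q.asIdeal.primeCompl φ) hs
    refine le_trans h1 ?_
    show Module.rankAtStalk (R := R) (Fin (Module.rankAtStalk (R := R) M p) →₀ R) q ≤ _
    simp

theorem isClosed_rank_ge (n : ℕ) : IsClosed {p : PrimeSpectrum R | n ≤ Module.rankAtStalk (R := R) M p} := by
  rw [← isOpen_compl_iff, isOpen_iff_forall_mem_open]
  intro p hp
  obtain ⟨a, ha, -, -, hle⟩ := exists_nbhd_presentation (M := M) p
  refine ⟨basicOpen a, fun q hq hn => hp ?_, (basicOpen a).2, ha⟩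
  exact le_trans hn (hle q hq)

theorem finitePresentation_of_isLocallyConstant (h : IsLocallyConstant (Module.rankAtStalk (R := R) M)) :
    Module.FinitePresentation R M := by
  classical
  obtain ⟨n, π, hπ⟩ := Module.Finite.exists_fin' R M
  refine Module.finitePresentation_of_surjective π hπ ?_
  have key : ∀ p : PrimeSpectrum R, ∃ b ∉ p.asIdeal,
      Module.Free (Localization.Away b) (LocalizedModule.Away b M) := by
    intro p
    obtain ⟨a, ha, φ, hφ, -⟩ := exists_nbhd_presentation (M := M) p
    obtain ⟨U, ⟨c, rfl⟩, hpc, hc⟩ := isTopologicalBasis_basic_opens.exists_subset_of_mem_open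
      (rfl : p ∈ Module.rankAtStalk (R := R) M ⁻¹' {Module.rankAtStalk (R := R) M p}) (h.isOpen_fiber _)
    have hb : a * c ∉ p.asIdeal := fun h' => (p.isPrime.mem_or_mem h').elim ha hpc
    refine ⟨a * c, hb, ?_⟩
    by_cases hR : Subsingleton R
    · exact absurd (Subsingleton.elim (1 : R) 0 ▸ p.asIdeal.zero_mem) (p.asIdeal.ne_top_iff_one.1 p.isPrime.ne_top)
    have := not_subsingleton_iff_nontrivial.1 hR
    have hsurj : Function.Surjective (LocalizedModule.map (Submonoid.powers (a * c)) φ) := by
      rw [LinearMap.localizedMap_surjective_iff_subsingleton_localized_coker, LocalizedModule.subsingleton_iff]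
      intro x
      obtain ⟨k, hk⟩ := hφ x
      exact ⟨(a * c) ^ k, ⟨k, rfl⟩, by rw [mul_pow, mul_comm, mul_smul, hk, smul_zero]⟩
    have : Module.Free (Localization.Away (a * c))
        (LocalizedModule.Away (a * c) (Fin (Module.rankAtStalk (R := R) M p) →₀ R)) :=
      Module.free_of_isLocalizedModule (Submonoid.powers (a * c)) (LocalizedModule.mkLinearMap _ _)
    let φb : LocalizedModule.Away (a * c) (Fin (Module.rankAtStalk (R := R) M p) →₀ R) →ₗ[Localization.Away (a * c)]
        LocalizedModule.Away (a * c) M := LocalizedModule.map (Submonoid.powers (a * c)) φ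
    suffices hbij : Function.Bijective φb from Module.Free.of_equiv (LinearEquiv.ofBijective φb hbij)
    have hsurjb : Function.Surjective φb := hsurj
    have : Module.Finite (Localization.Away (a * c)) (LocalizedModule.Away (a * c) M) := inferInstance
    have : Module.Flat (Localization.Away (a * c)) (LocalizedModule.Away (a * c) M) := inferInstance
    refine Module.bijective_of_surjective_of_rankAtStalk_eq (R := Localization.Away (a * c)) (M := LocalizedModule.Away (a * c) (Fin (Module.rankAtStalk (R := R) M p) →₀ R)) (N := LocalizedModule.Away (a * c) M) (φ := φb) hsurjb fun m hm => ?_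
    have hmem : PrimeSpectrum.comap (algebraMap R (Localization (Submonoid.powers (a * c)))) ⟨m, hm.isPrime⟩ ∈
        (basicOpen c : Set (PrimeSpectrum R)) := fun hcm => hm.ne_top (Ideal.eq_top_of_isUnit_mem m hcm
      (isUnit_of_mul_isUnit_right (x := algebraMap R _ a) (by
        rw [← map_mul]; exact IsLocalization.Away.algebraMap_isUnit _)))
    simp [Module.rankAtStalk_isBaseChange (LocalizedModule.isBaseChange (Submonoid.powers (a * c)) _)]
    exact (hc hmem).symm
  choose b hb hfree using key
  have hspan : Ideal.span (Set.range b) = ⊤ := by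
    by_contra hne
    obtain ⟨m, hm, hle⟩ := Ideal.exists_le_maximal _ hne
    exact hb ⟨m, hm.isPrime⟩ (hle (Ideal.subset_span ⟨_, rfl⟩))
  refine Submodule.of_localizationSpan (Set.range b) hspan ?_
  rintro ⟨_, p, rfl⟩
  have := hfree p
  have hs : Function.Surjective (LocalizedModule.map (Submonoid.powers (b p)) π) :=
    LocalizedModule.map_surjective _ π hπ
  show (Submodule.localized (Submonoid.powers (b p)) (LinearMap.ker π)).FG
  rw [Submodule.localized, LinearMap.localized'_ker_eq_ker_localizedMap _ _ _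
    (LocalizedModule.mkLinearMap (Submonoid.powers (b p)) M)]
  have : Module.Free (Localization (Submonoid.powers (b p))) (LocalizedModule (Submonoid.powers (b p)) M) := hfree p
  have : Module.FinitePresentation (Localization (Submonoid.powers (b p))) (LocalizedModule (Submonoid.powers (b p)) M) :=
    Module.finitePresentation_of_projective _ _
  exact Module.FinitePresentation.fg_ker _ hs

theorem projective_iff_open :
    (∀ Z : Set (PrimeSpectrum R), IsClosed Z → StableUnderGeneralization Z → IsOpen Z) ↔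
      ∀ (M : Type u) [AddCommGroup M] [Module R M], Module.Finite R M → Module.Flat R M →
        Module.Projective R M := by
  refine ⟨fun h M _ _ _ _ => ?_, fun h Z hc hg => ?_⟩
  · have hopen : ∀ n, IsOpen {p : PrimeSpectrum R | n ≤ Module.rankAtStalk (R := R) M p} := fun n =>
      h _ (isClosed_rank_ge n) fun p q hqp hp => by
        show n ≤ _
        rw [← PrimeSpectrum.le_iff_specializes] at hqp
        rw [Module.rankAtStalk_eq_of_le_of_finite_of_flat M hqp]
        exact hp
    have hlc : IsLocallyConstant (Module.rankAtStalk (R := R) M) := IsLocallyConstant.iff_isOpen_fiber.2 fun n => by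
      have : Module.rankAtStalk (R := R) M ⁻¹' {n} = {p : PrimeSpectrum R | n ≤ Module.rankAtStalk (R := R) M p} ∩
          {p : PrimeSpectrum R | n + 1 ≤ Module.rankAtStalk (R := R) M p}ᶜ := by
        ext p; simp; omega
      rw [this]
      exact (hopen n).inter (isClosed_rank_ge (n + 1)).isOpen_compl
    have := finitePresentation_of_isLocallyConstant hlc
    exact Module.Flat.projective_of_finitePresentation
  · obtain ⟨I, hI, rfl⟩ := exists_pure_of_stable Z hc hg
    have h32 : Module.Projective R (R ⧸ I) → I.Pure ∧ IsOpen (zeroLocus (I : Set R)) := ((tfae_pure I).out 3 2).1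
    exact (h32 (h (R ⧸ I) inferInstance hI)).2

end Groth.Agent.CAlgMisc2
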