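import Groth.Agent.AssSch12.Mult
import Mathlib

/-! A system of parameters bounds the number of components of top dimension. -/
set_option autoImplicit false
universe u
open IsLocalRing

namespace Groth.Agent.CAlgMisc2

variable {R : Type u} [CommRing R]

theorem support_quotient_prime (q : Ideal R) :
    Module.support R (R ⧸ q) = PrimeSpectrum.zeroLocus (q : Set R) := by
  rw [Module.support_eq_zeroLocus, Ideal.annihilator_quotient]

theorem le_supportDim_iff (q : Ideal R) (n : ℕ) :
    (n : WithBot ℕ∞) ≤ Module.supportDim R (R ⧸ q) ↔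
      ∃ l : LTSeries (PrimeSpectrum R), l.length = n ∧ q ≤ l.head.asIdeal := by
  rw [Module.supportDim, Order.le_krullDim_iff]
  constructor
  · rintro ⟨l, hl⟩
    refine ⟨l.map Subtype.val fun _ _ h => h, hl, ?_⟩
    have : l.head.1 ∈ PrimeSpectrum.zeroLocus (q : Set R) := by rw [← support_quotient_prime]; exact l.head.2
    exact this
  · rintro ⟨l, hl, hq⟩
    refine ⟨⟨l.length, fun i => ⟨l i, ?_⟩, fun i => l.step i⟩, hl⟩
    rw [support_quotient_prime]
    show q ≤ (l i).asIdeal
    exact hq.trans (l.monotone (Fin.zero_le i))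

variable [IsNoetherianRing R] [IsLocalRing R]

/-- One step up, through a given element of the maximal ideal. -/
theorem exists_next (q : PrimeSpectrum R) {x : R} (hx : x ∈ maximalIdeal R) (n : ℕ)
    (h : ((n + 1 : ℕ) : WithBot ℕ∞) ≤ Module.supportDim R (R ⧸ q.asIdeal)) :
    ∃ r : PrimeSpectrum R, q < r ∧ x ∈ r.asIdeal ∧ (n : WithBot ℕ∞) ≤ Module.supportDim R (R ⧸ r.asIdeal) := by
  by_cases hxq : x ∈ q.asIdeal
  · obtain ⟨l, hl, hq⟩ := (le_supportDim_iff _ _).1 h
    have h1 : l.head < l ⟨1, by omega⟩ := l.strictMono (show (0 : Fin _) < ⟨1, by omega⟩ from Nat.zero_lt_one)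
    refine ⟨l ⟨1, by omega⟩, lt_of_le_of_lt (show q ≤ l.head from hq) h1, ?_, ?_⟩
    · exact (hq.trans h1.le) hxq
    · exact (le_supportDim_iff _ _).2 ⟨l.drop ⟨1, by omega⟩, by simp [RelSeries.drop]; omega,
        by simp [RelSeries.drop, RelSeries.head]⟩
  · have h1 := (Module.supportDim_le_supportDim_quotSMulTop_succ (M := R ⧸ q.asIdeal) hx)
    have h2 : (n : WithBot ℕ∞) ≤ Module.supportDim R (QuotSMulTop x (R ⧸ q.asIdeal)) := by
      have h3 := h.trans h1
      revert h3
      generalize Module.supportDim R (QuotSMulTop x (R ⧸ q.asIdeal)) = a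
      cases a with
      | bot => simp
      | coe a =>
        cases a with
        | top => simp
        | coe a => norm_cast; omega
    rw [Module.supportDim, Order.le_krullDim_iff] at h2
    obtain ⟨l, hl⟩ := h2
    have hmem : ∀ i, q ≤ (l i).1 ∧ x ∈ (l i).1.asIdeal := by
      intro i
      have key : ∀ z ∈ Module.support R (QuotSMulTop x (R ⧸ q.asIdeal)),
          z ∈ PrimeSpectrum.zeroLocus (q.asIdeal : Set R) ∩ PrimeSpectrum.zeroLocus {x} := fun z hz => by
        rwa [Module.support_quotSMulTop, support_quotient_prime] at hz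
      have := key _ (l i).2
      exact ⟨this.1, (PrimeSpectrum.mem_zeroLocus _ _).1 this.2 (Set.mem_singleton x)⟩
    refine ⟨l.head.1, lt_of_le_of_ne (hmem 0).1 fun he => hxq ?_, (hmem 0).2, ?_⟩
    · rw [he]; exact (hmem 0).2
    · exact (le_supportDim_iff _ _).2 ⟨l.map Subtype.val fun _ _ h => h, hl, le_rfl⟩

/-- A chain from `p` through given elements. -/
theorem exists_chain (p : PrimeSpectrum R) (m : ℕ) : ∀ (k : ℕ) (g : Fin k → R), (∀ i, g i ∈ maximalIdeal R) →
    ((m + k : ℕ) : WithBot ℕ∞) ≤ Module.supportDim R (R ⧸ p.asIdeal) →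
    ∃ l : LTSeries (PrimeSpectrum R), l.length = k ∧ l.head = p ∧ (∀ i, g i ∈ l.last.asIdeal) ∧
      (m : WithBot ℕ∞) ≤ Module.supportDim R (R ⧸ l.last.asIdeal) := by
  intro k
  induction k generalizing m with
  | zero => exact fun g _ h => ⟨RelSeries.singleton _ p, rfl, rfl, fun i => i.elim0, by rw [RelSeries.last_singleton]; simpa using h⟩
  | succ k ih =>
    intro g hg h
    obtain ⟨l, hl, hh, hmem, hd⟩ := ih (m + 1) (fun i => g i.castSucc) (fun i => hg _)
      (by rwa [show m + 1 + k = m + (k + 1) by omega])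
    obtain ⟨r, hr, hxr, hrd⟩ := exists_next l.last (hg (Fin.last k)) m hd
    refine ⟨l.snoc r hr, by simp [hl], by simp [hh], fun i => ?_, by rw [RelSeries.last_snoc]; exact hrd⟩
    rw [RelSeries.last_snoc]
    induction i using Fin.lastCases with
    | last => exact hxr
    | cast i => exact hr.le (hmem i)

theorem ncard_le_length (d : ℕ) : ∀ (R : Type u) [CommRing R] [IsNoetherianRing R] [IsLocalRing R]
    (g : Fin d → R), (∀ i, g i ∈ maximalIdeal R) → maximalIdeal R ≤ (Ideal.span (Set.range g)).radical →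
    (Set.ncard {p : Ideal R | p ∈ minimalPrimes R ∧ (d : WithBot ℕ∞) ≤ Module.supportDim R (R ⧸ p)} : ℕ∞) ≤
      Module.length R (R ⧸ Ideal.span (Set.range g)) := by
  induction d with
  | zero =>
    intro R _ _ _ g hg hsop
    have hne : Ideal.span (Set.range g) ≠ ⊤ := fun h => (maximalIdeal.isMaximal R).ne_top
      (top_le_iff.1 (h ▸ Ideal.span_le.2 (by rintro _ ⟨i, rfl⟩; exact hg i)))
    have : Nontrivial (R ⧸ Ideal.span (Set.range g)) := Ideal.Quotient.nontrivial_iff.2 hne
    refine le_trans ?_ (Order.one_le_iff_pos.2 Module.length_pos)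
    have h1 : {p : Ideal R | p ∈ minimalPrimes R ∧ ((0 : ℕ) : WithBot ℕ∞) ≤ Module.supportDim R (R ⧸ p)} ⊆
        {maximalIdeal R} := by
      intro p hp
      have := hp.1.isPrime
      have hle : maximalIdeal R ≤ p := hsop.trans ((Ideal.IsPrime.isRadical this).radical_le_iff.2
        (by rw [Set.range_eq_empty g, Ideal.span_empty]; exact bot_le))
      exact le_antisymm (le_maximalIdeal this.ne_top) hle
    exact_mod_cast (Set.ncard_le_ncard h1).trans_eq (Set.ncard_singleton _)
  | succ d ih =>
    intro R _ _ _ g hg hsop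
    classical
    set T := {p : Ideal R | p ∈ minimalPrimes R ∧ ((d + 1 : ℕ) : WithBot ℕ∞) ≤ Module.supportDim R (R ⧸ p)}
    by_cases hT : T = ∅
    · simp [hT]
    obtain ⟨p₀, hp₀⟩ := Set.nonempty_iff_ne_empty.2 hT
    let g' : Fin d → R := fun i => g i.castSucc
    let t := g (Fin.last d)
    let J := Ideal.span (Set.range g')
    have hspan : Ideal.span (Set.range g) = J ⊔ Ideal.span {t} := by
      rw [← Ideal.span_union]
      congr 1
      ext x
      constructor
      · rintro ⟨i, rfl⟩
        induction i using Fin.lastCases with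
        | last => exact Or.inr rfl
        | cast i => exact Or.inl ⟨i, rfl⟩
      · rintro (⟨i, rfl⟩ | rfl)
        · exact ⟨_, rfl⟩
        · exact ⟨_, rfl⟩
    have hJm : J ≤ maximalIdeal R := Ideal.span_le.2 (by rintro _ ⟨i, rfl⟩; exact hg _)
    have hpos : maximalIdeal R ∉ J.minimalPrimes := by
      intro hmin
      have h1 : (maximalIdeal R).height ≤ d := by
        refine (Ideal.height_le_card_of_mem_minimalPrimes_span_finset (s := Finset.univ.image g')
          (by rw [Finset.coe_image, Finset.coe_univ, Set.image_univ]; exact hmin)).trans ?_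
        exact_mod_cast Finset.card_image_le.trans_eq (Finset.card_fin d)
      obtain ⟨l, hl, -⟩ := (le_supportDim_iff p₀ (d + 1)).1 hp₀.2
      have h2 : ((d + 1 : ℕ) : WithBot ℕ∞) ≤ ringKrullDim R := by
        rw [← hl]; exact Order.LTSeries.length_le_krullDim l
      rw [← IsLocalRing.maximalIdeal_height_eq_ringKrullDim] at h2
      have h3 : ((d + 1 : ℕ) : ℕ∞) ≤ (maximalIdeal R).height := by exact_mod_cast h2
      exact absurd (h3.trans h1) (by norm_cast; omega)
    have D : Groth.Agent.AssSch12.DimOne J t := ⟨hg _, fun q hq hJq htq => by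
      refine le_antisymm (le_maximalIdeal hq.ne_top) (hsop.trans ?_)
      rw [Ideal.IsPrime.isRadical hq |>.radical_le_iff, hspan]
      exact sup_le hJq ((Ideal.span_singleton_le_iff_mem _).2 htq), hpos⟩
    have hlen := (D.sum_le_and_eq_iff (R ⧸ J) (Ideal.annihilator_quotient (I := J)).ge).1
    have hquot : Module.length R ((R ⧸ J) ⧸ (Ideal.span {t} • (⊤ : Submodule R (R ⧸ J)))) =
        Module.length R (R ⧸ Ideal.span (Set.range g)) := by
      have he : (Ideal.span {t} • (⊤ : Submodule R (R ⧸ J))) =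
          Submodule.map (Submodule.mkQ J) (J ⊔ Ideal.span {t}) := by
        rw [Submodule.map_sup, show Submodule.map (Submodule.mkQ J) J = ⊥ by
          rw [eq_bot_iff]; rintro _ ⟨x, hx, rfl⟩; exact (Submodule.Quotient.mk_eq_zero _).2 hx, bot_sup_eq,
          ← LinearMap.range_eq_top.2 (Submodule.mkQ_surjective J), ← Submodule.map_top, ← Submodule.map_smul'',
          smul_eq_mul, Ideal.mul_top]
      exact ((Submodule.quotEquivOfEq _ _ he).trans
        ((Submodule.quotientQuotientEquivQuotient J (J ⊔ Ideal.span {t}) le_sup_left).trans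
          (Submodule.quotEquivOfEq _ _ hspan.symm))).length_eq
    rw [hquot] at hlen
    refine le_trans ?_ hlen
    have hfin : J.minimalPrimes.Finite := Ideal.finite_minimalPrimes_of_isNoetherianRing R J
    have : Fintype J.minimalPrimes := hfin.fintype
    rw [finsum_eq_sum_of_fintype]
    -- the primes of `T` below a given minimal prime of `J`
    let S : J.minimalPrimes → Set (Ideal R) := fun q => {p | p ∈ minimalPrimes R ∧
      ∃ l : LTSeries (PrimeSpectrum R), l.length = d ∧ l.head.asIdeal = p ∧ l.last.asIdeal = q.1}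
    have hcov : T ⊆ ⋃ q, S q := by
      rintro p ⟨hpmin, hpd⟩
      obtain ⟨l, hl, hh, hmem, hd⟩ := exists_chain (⟨p, hpmin.isPrime⟩ : PrimeSpectrum R) 1 d g'
        (fun i => hg _) (by rwa [add_comm 1 d])
      have hJl : J ≤ l.last.asIdeal := Ideal.span_le.2 (by rintro _ ⟨i, rfl⟩; exact hmem i)
      have hlm : l.last.asIdeal ≠ maximalIdeal R := by
        intro he
        obtain ⟨l', hl', hq'⟩ := (le_supportDim_iff _ _).1 hd
        have : l'.head < l' ⟨1, by omega⟩ := l'.strictMono (show (0 : Fin _) < ⟨1, by omega⟩ from Nat.zero_lt_one)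
        exact absurd (le_maximalIdeal (l' ⟨1, by omega⟩).isPrime.ne_top) fun hle =>
          this.not_ge (hle.trans (he ▸ hq'))
      have hqmin : l.last.asIdeal ∈ J.minimalPrimes := D.minimal l.last.isPrime hJl fun ht =>
        hlm (D.fin _ l.last.isPrime hJl ht)
      exact Set.mem_iUnion.2 ⟨⟨_, hqmin⟩, hpmin, l, hl, congrArg PrimeSpectrum.asIdeal hh, rfl⟩
    have hTfin : ∀ q, (S q).Finite := fun q => (minimalPrimes.finite_of_isNoetherianRing R).subset fun p hp => hp.1
    refine le_trans (b := ((∑ q, (S q).ncard : ℕ) : ℕ∞)) ?_ ?_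
    · exact_mod_cast (Set.ncard_le_ncard hcov (Set.finite_iUnion hTfin)).trans (Set.ncard_iUnion_le_of_fintype _)
    push_cast
    refine Finset.sum_le_sum fun q _ => ?_
    have : q.1.IsPrime := q.2.isPrime
    let Rq := Localization.AtPrime q.1
    let gq : Fin d → Rq := fun i => algebraMap R Rq (g' i)
    have hgq : ∀ i, gq i ∈ maximalIdeal Rq := fun i =>
      (IsLocalization.AtPrime.to_map_mem_maximal_iff Rq q.1 (g' i)).2 (q.2.1.2 (Ideal.subset_span ⟨i, rfl⟩))
    have hJq : Ideal.span (Set.range gq) = J.map (algebraMap R Rq) := by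
      rw [Ideal.map_span, ← Set.range_comp]; rfl
    have hsopq : maximalIdeal Rq ≤ (Ideal.span (Set.range gq)).radical := by
      rw [hJq, Ideal.radical_eq_sInf]
      refine le_sInf fun P ⟨hP, hPp⟩ => ?_
      let e := IsLocalization.AtPrime.primeSpectrumOrderIso Rq q.1
      have h1 : P.comap (algebraMap R Rq) ≤ q.1 := (e ⟨P, hPp⟩).2
      have h2 : q.1 ≤ P.comap (algebraMap R Rq) := q.2.2 ⟨hPp.comap _, Ideal.map_le_iff_le_comap.1 hP⟩ h1
      calc maximalIdeal Rq = q.1.map (algebraMap R Rq) := (IsLocalization.AtPrime.map_eq_maximalIdeal q.1 Rq).symm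
        _ ≤ P := Ideal.map_le_iff_le_comap.2 h2
    have key := ih Rq gq hgq hsopq
    have hS : (S q).ncard ≤ Set.ncard {P : Ideal Rq | P ∈ minimalPrimes Rq ∧
        (d : WithBot ℕ∞) ≤ Module.supportDim Rq (Rq ⧸ P)} := by
      have hle : ∀ p ∈ S q, p.IsPrime ∧ p ≤ q.1 := by
        rintro p ⟨hp, l, -, hh, hlast⟩
        exact ⟨hp.isPrime, hh ▸ hlast ▸ l.monotone (Fin.le_last 0)⟩
      have hdisj : ∀ p ∈ S q, Disjoint (q.1.primeCompl : Set R) (p : Set R) := fun p hp =>
        Set.disjoint_left.2 fun x hx hxp => hx ((hle p hp).2 hxp)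
      refine Set.ncard_le_ncard_of_injOn (fun p => p.map (algebraMap R Rq)) (fun p hp => ⟨?_, ?_⟩) ?_
        ((minimalPrimes.finite_of_isNoetherianRing Rq).subset fun P hP => hP.1)
      · have hprime := IsLocalization.isPrime_of_isPrime_disjoint q.1.primeCompl Rq p (hle p hp).1 (hdisj p hp)
        refine ⟨⟨hprime, bot_le⟩, fun P ⟨hP, _⟩ hPle => ?_⟩
        rw [← IsLocalization.map_under q.1.primeCompl Rq P]
        refine Ideal.map_mono (hp.1.2 ⟨hP.comap _, bot_le⟩ ?_)
        rw [← IsLocalization.under_map_of_isPrime_disjoint q.1.primeCompl Rq (I := p) (hle p hp).1 (hdisj p hp)]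
        exact Ideal.comap_mono hPle
      · obtain ⟨hpm, l, hl, hh, hlast⟩ := hp
        rw [le_supportDim_iff]
        let e := IsLocalization.AtPrime.primeSpectrumOrderIso Rq q.1
        have hin : ∀ i, l i ∈ Set.Iic (⟨q.1, q.2.isPrime⟩ : PrimeSpectrum R) := fun i => by
          show (l i).asIdeal ≤ q.1
          rw [← hlast]; exact l.monotone (Fin.le_last i)
        let l' : LTSeries (Set.Iic (⟨q.1, q.2.isPrime⟩ : PrimeSpectrum R)) :=
          ⟨l.length, fun i => ⟨l i, hin i⟩, fun i => l.step i⟩
        refine ⟨l'.map e.symm e.symm.strictMono, hl, Ideal.map_le_iff_le_comap.2 ?_⟩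
        have h1 : (e (e.symm ⟨l.head, hin 0⟩)).1.asIdeal = p := by rw [e.apply_symm_apply]; exact hh
        exact h1.ge
      · intro a ha b hb hab
        have := congrArg (Ideal.under R) hab
        simp only at this
        rwa [IsLocalization.under_map_of_isPrime_disjoint q.1.primeCompl Rq (hle a ha).1 (hdisj a ha),
          IsLocalization.under_map_of_isPrime_disjoint q.1.primeCompl Rq (hle b hb).1 (hdisj b hb)] at this
    refine le_trans (by exact_mod_cast hS) (key.trans (le_of_eq ?_))
    rw [hJq]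
    exact ((LocalizedModule.isBaseChange q.1.primeCompl (R ⧸ J)).equiv.symm.trans
      (Algebra.TensorProduct.quotIdealMapEquivTensorQuot Rq J).symm.toLinearEquiv).length_eq.symm

end Groth.Agent.CAlgMisc2
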