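import Mathlib

/-! Spreading homomorphisms and isomorphisms out of local rings. -/
set_option autoImplicit false
universe u

namespace Groth.Agent.CAlgMisc2

variable {R : Type u} [CommRing R] {T : Type u} [CommRing T] [Algebra R T] (q : Ideal T) [q.IsPrime]

/-- The canonical map from a principal localization to the local ring. -/
noncomputable def awayToPrime (g : T) (hg : g ∉ q) :
    Localization.Away g →ₐ[T] Localization.AtPrime q :=
  IsLocalization.liftAlgHom (M := Submonoid.powers g) (f := Algebra.ofId T _) fun y => by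
    obtain ⟨n, hn⟩ := y.2
    exact IsLocalization.map_units (Localization.AtPrime q)
      (⟨y.1, fun h => hg (Ideal.IsPrime.mem_of_pow_mem (I := q) inferInstance n (by rw [show g ^ n = y.1 from hn]; exact h))⟩ : q.primeCompl)

theorem exists_kill {g : T} (hg : g ∉ q) (s : Finset (Localization.Away g))
    (hs : ∀ x ∈ s, awayToPrime q g hg x = 0) :
    ∃ u ∉ q, ∀ x ∈ s, algebraMap T (Localization.Away g) u * x = 0 := by
  classical
  induction s using Finset.induction_on with
  | empty => exact ⟨1, q.ne_top_iff_one.1 (Ideal.IsPrime.ne_top'), by simp⟩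
  | insert a s _ ih =>
    obtain ⟨u, hu, hus⟩ := ih fun x hx => hs x (Finset.mem_insert_of_mem hx)
    obtain ⟨⟨b, m⟩, hbm⟩ := IsLocalization.surj (Submonoid.powers g) a
    have h0 : algebraMap T (Localization.AtPrime q) b = 0 := by
      have := congrArg (awayToPrime q g hg) hbm
      rw [map_mul, hs a (Finset.mem_insert_self _ _), zero_mul, AlgHom.commutes] at this
      exact this.symm
    obtain ⟨w, hw⟩ := (IsLocalization.map_eq_zero_iff q.primeCompl _ _).1 h0
    refine ⟨u * w, fun h => (Ideal.IsPrime.mem_or_mem' h).elim hu w.2, fun x hx => ?_⟩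
    rcases Finset.mem_insert.1 hx with rfl | hx
    · refine (IsLocalization.map_units (Localization.Away g) m).mul_left_eq_zero.1 ?_
      rw [mul_assoc, hbm, ← map_mul, mul_assoc, hw, mul_zero, map_zero]
    · rw [map_mul, mul_comm (algebraMap T _ u), mul_assoc, hus x hx, mul_zero]

/-- A map from a finitely presented algebra to a local ring spreads to a principal localization. -/
theorem exists_lift_away {S : Type u} [CommRing S] [Algebra R S] [Algebra.FinitePresentation R S]
    (φ : S →ₐ[R] Localization.AtPrime q) :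
    ∃ (g : T) (hg : g ∉ q) (φ₁ : S →ₐ[R] Localization.Away g), ∀ s, awayToPrime q g hg (φ₁ s) = φ s := by
  classical
  obtain ⟨n, π, hπ, hker⟩ := Algebra.FinitePresentation.out (R := R) (A := S)
  obtain ⟨d, hd⟩ := IsLocalization.exist_integer_multiples_of_finite q.primeCompl
    (fun i => φ (π (MvPolynomial.X i)))
  choose b hb using hd
  let g₀ : T := d
  have hg₀ : g₀ ∉ q := d.2
  let A₀ := Localization.Away g₀
  let χ : MvPolynomial (Fin n) R →ₐ[R] A₀ :=
    MvPolynomial.aeval fun i => algebraMap T A₀ (b i) * IsLocalization.Away.invSelf g₀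
  have hdu : IsUnit (algebraMap T (Localization.AtPrime q) g₀) := IsLocalization.map_units _ d
  have hχ : ((awayToPrime q g₀ hg₀).restrictScalars R).comp χ = φ.comp π := MvPolynomial.algHom_ext fun i => by
    apply hdu.mul_left_cancel
    show _ * awayToPrime q g₀ hg₀ (χ (MvPolynomial.X i)) = _ * φ (π (MvPolynomial.X i))
    simp only [χ, MvPolynomial.aeval_X]
    rw [← Algebra.smul_def (A := Localization.AtPrime q) g₀ (φ (π (MvPolynomial.X i))), ← hb i,
      ← (awayToPrime q g₀ hg₀).commutes g₀, ← map_mul, ← mul_assoc, mul_comm (algebraMap T A₀ g₀), mul_assoc,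
      IsLocalization.Away.mul_invSelf, mul_one, AlgHom.commutes]
  obtain ⟨rel, hrel⟩ := hker
  obtain ⟨u, hu, hku⟩ := exists_kill q hg₀ (rel.image χ) (by
    intro x hx
    obtain ⟨p, hp, rfl⟩ := Finset.mem_image.1 hx
    have h0 : π p = 0 := hrel.le (Ideal.subset_span hp)
    have := AlgHom.congr_fun hχ p
    simp only [AlgHom.comp_apply, AlgHom.coe_restrictScalars', h0, map_zero] at this
    exact this)
  have hg : g₀ * u ∉ q := fun h => (Ideal.IsPrime.mem_or_mem' h).elim hg₀ hu
  let A := Localization.Away (g₀ * u)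
  have hg₀u : IsUnit (algebraMap T A g₀) :=
    isUnit_of_mul_isUnit_left (y := algebraMap T A u) (by rw [← map_mul]; exact IsLocalization.Away.algebraMap_isUnit _)
  have huu : IsUnit (algebraMap T A u) :=
    isUnit_of_mul_isUnit_right (x := algebraMap T A g₀) (by rw [← map_mul]; exact IsLocalization.Away.algebraMap_isUnit _)
  let L : A₀ →ₐ[T] A := IsLocalization.liftAlgHom (M := Submonoid.powers g₀) (f := Algebra.ofId T A) fun y => by
    obtain ⟨k, hk⟩ := y.2
    show IsUnit (algebraMap T A y.1)
    rw [← show g₀ ^ k = y.1 from hk, map_pow]; exact hg₀u.pow k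
  let χ' := (L.restrictScalars R).comp χ
  have hle : RingHom.ker π ≤ RingHom.ker χ' := by
    rw [show RingHom.ker π = RingHom.ker π.toRingHom from rfl, ← hrel]
    refine Ideal.span_le.2 fun p hp => ?_
    show χ' p = 0
    refine huu.mul_right_eq_zero.1 ?_
    show algebraMap T A u * L (χ p) = 0
    rw [← L.commutes u, ← map_mul, hku _ (Finset.mem_image_of_mem χ hp), map_zero]
  refine ⟨g₀ * u, hg, AlgHom.liftOfSurjective π hπ χ' hle, fun s => ?_⟩
  obtain ⟨p, rfl⟩ := hπ s
  refine (congrArg _ (AlgHom.liftOfSurjective_apply π hπ χ' hle p)).trans ?_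
  have hL : (awayToPrime q (g₀ * u) hg).comp L = awayToPrime q g₀ hg₀ :=
    IsLocalization.algHom_ext (Submonoid.powers g₀) (Subsingleton.elim _ _)
  show awayToPrime q (g₀ * u) hg (L (χ p)) = _
  rw [← AlgHom.comp_apply, hL]
  exact AlgHom.congr_fun hχ p

end Groth.Agent.CAlgMisc2
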