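import Groth.Agent.CAlgMisc2.Spread
import Mathlib

/-! Spreading isomorphisms of local rings. -/
set_option autoImplicit false
universe u

namespace Groth.Agent.CAlgMisc2

variable {R : Type u} [CommRing R]

theorem isUnit_awayToPrime {T : Type u} [CommRing T] (q : Ideal T) [q.IsPrime] {g : T} (hg : g ∉ q)
    {x : Localization.Away g} {a : T} {n : ℕ}
    (hx : x * algebraMap T (Localization.Away g) g ^ n = algebraMap T _ a)
    (h : IsUnit (awayToPrime q g hg x)) : a ∉ q := by
  intro ha
  have h1 := congrArg (awayToPrime q g hg) hx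
  rw [map_mul, map_pow, AlgHom.commutes, AlgHom.commutes] at h1
  have hu : IsUnit (algebraMap T (Localization.AtPrime q) a) := h1 ▸ h.mul
    ((IsLocalization.map_units (Localization.AtPrime q) (⟨g, hg⟩ : q.primeCompl)).pow n)
  exact (IsLocalization.AtPrime.isUnit_to_map_iff (Localization.AtPrime q) q a).1 hu ha

theorem exists_iso_of_iso_atPrime {S S' : Type u} [CommRing S] [CommRing S'] [Algebra R S]
    [Algebra R S'] [Algebra.FinitePresentation R S] [Algebra.FinitePresentation R S'] (q : Ideal S) [q.IsPrime]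
    (q' : Ideal S') [q'.IsPrime] (e : Localization.AtPrime q ≃ₐ[R] Localization.AtPrime q') :
    ∃ (g : S) (g' : S'), g ∉ q ∧ g' ∉ q' ∧ Nonempty (Localization.Away g ≃ₐ[R] Localization.Away g') := by
  classical
  obtain ⟨g₁, hg₁, φ, hφ⟩ := exists_lift_away q' (e.toAlgHom.comp (IsScalarTower.toAlgHom R S _))
  let T := Localization.Away g₁
  let τ : T →ₐ[R] Localization.AtPrime q' := (awayToPrime q' g₁ hg₁).restrictScalars R
  have : Algebra.FinitePresentation S' T := IsLocalization.Away.finitePresentation g₁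
  have : Algebra.FinitePresentation R T := Algebra.FinitePresentation.trans R S' T
  obtain ⟨sS, hsS⟩ := (Algebra.FiniteType.out : (⊤ : Subalgebra R S).FG)
  obtain ⟨sT, hsT⟩ := (Algebra.FiniteType.out : (⊤ : Subalgebra R T).FG)
  obtain ⟨h₁, hh₁, ψ₁, hψ₁⟩ := exists_lift_away q (e.symm.toAlgHom.comp τ)
  -- make `ψ ∘ φ` the canonical map
  have hsec : ∀ s, awayToPrime q h₁ hh₁ (ψ₁ (φ s)) = algebraMap S _ s := fun s => by
    rw [hψ₁]
    show e.symm (τ (φ s)) = _
    rw [show τ (φ s) = e (algebraMap S _ s) from hφ s, AlgEquiv.symm_apply_apply]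
  obtain ⟨u, hu, hku⟩ := exists_kill q hh₁ (sS.image fun s => ψ₁ (φ s) - algebraMap S _ s) (by
    intro x hx
    obtain ⟨s, -, rfl⟩ := Finset.mem_image.1 hx
    rw [map_sub, hsec, AlgHom.commutes, sub_self])
  -- general principle: pass to a multiple
  have hext : ∀ {U : Type u} [CommRing U] [Algebra R U] (f f' : S →ₐ[R] U), (∀ s ∈ sS, f s = f' s) → f = f' :=
    fun f f' h => AlgHom.ext_of_adjoin_eq_top hsS fun s hs => h s hs
  have hh₂ : h₁ * u ∉ q := fun h => (Ideal.IsPrime.mem_or_mem' h).elim hh₁ hu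
  let L : Localization.Away h₁ →ₐ[S] Localization.Away (h₁ * u) :=
    IsLocalization.Away.liftAlgHom h₁ (f := Algebra.ofId S _) (show IsUnit (algebraMap S _ h₁) from isUnit_of_mul_isUnit_left
      (y := algebraMap S _ u) (by rw [← map_mul]; exact IsLocalization.Away.algebraMap_isUnit _))
  let ψ₂ : T →ₐ[R] Localization.Away (h₁ * u) := (L.restrictScalars R).comp ψ₁
  have hψφ : ψ₂.comp φ = IsScalarTower.toAlgHom R S _ := hext _ _ fun s hs => by
    have h1 := congrArg L (hku _ (Finset.mem_image_of_mem _ hs))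
    rw [map_mul, map_zero, AlgHom.commutes, map_sub, AlgHom.commutes] at h1
    have huu : IsUnit (algebraMap S (Localization.Away (h₁ * u)) u) :=
      isUnit_of_mul_isUnit_right (x := algebraMap S _ h₁) (by rw [← map_mul]; exact IsLocalization.Away.algebraMap_isUnit _)
    exact sub_eq_zero.1 (huu.mul_right_eq_zero.1 h1)
  have hψ₂ : ∀ x, awayToPrime q (h₁ * u) hh₂ (ψ₂ x) = e.symm (τ x) := fun x => by
    have hL : (awayToPrime q (h₁ * u) hh₂).comp L = awayToPrime q h₁ hh₁ :=
      IsLocalization.algHom_ext (Submonoid.powers h₁) (Subsingleton.elim _ _)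
    show awayToPrime q (h₁ * u) hh₂ (L (ψ₁ x)) = _
    rw [← AlgHom.comp_apply, hL, hψ₁]; rfl
  obtain ⟨h₂, hh₂, ψ₂, hψφ, hψ₂⟩ : ∃ (h₂ : S) (hh₂ : h₂ ∉ q) (ψ₂ : T →ₐ[R] Localization.Away h₂),
      ψ₂.comp φ = IsScalarTower.toAlgHom R S _ ∧ ∀ x, awayToPrime q h₂ hh₂ (ψ₂ x) = e.symm (τ x) :=
    ⟨_, hh₂, ψ₂, hψφ, hψ₂⟩
  -- `T₁ = T[1/φ h₂]`
  have hτu : ∀ s ∉ q, IsUnit (τ (φ s)) := fun s hs => by
    rw [show τ (φ s) = e (algebraMap S _ s) from hφ s]
    exact (IsLocalization.map_units _ (⟨s, hs⟩ : q.primeCompl)).map e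
  let T₁ := Localization.Away (φ h₂)
  let φh : Localization.Away h₂ →ₐ[R] T₁ := IsLocalization.Away.mapₐ _ T₁ φ h₂
  let τ₁ : T₁ →ₐ[R] Localization.AtPrime q' := IsLocalization.Away.liftAlgHom (φ h₂) (f := τ) (hτu _ hh₂)
  have hτ₁ : ∀ y, τ₁ (φh y) = e (awayToPrime q h₂ hh₂ y) := fun y => by
    have : τ₁.comp φh = e.toAlgHom.comp ((awayToPrime q h₂ hh₂).restrictScalars R) :=
      IsLocalization.algHom_ext (Submonoid.powers h₂) (AlgHom.ext fun s => by
        show τ₁ (φh (algebraMap S _ s)) = e (awayToPrime q h₂ hh₂ (algebraMap S _ s))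
        rw [AlgHom.commutes, IsLocalization.Away.mapₐ_apply, IsLocalization.Away.map, IsLocalization.map_eq]
        show IsLocalization.Away.lift _ (hτu _ hh₂) (algebraMap T T₁ (φ s)) = _
        rw [IsLocalization.Away.lift_eq]
        exact hφ s)
    exact AlgHom.congr_fun this y
  -- an element killing the differences
  have hdiff : ∀ x : T, ∃ w : T, IsUnit (τ w) ∧ algebraMap T T₁ w * (φh (ψ₂ x) - algebraMap T T₁ x) = 0 := by
    intro x
    have h0 : τ₁ (φh (ψ₂ x) - algebraMap T T₁ x) = 0 := by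
      rw [map_sub, hτ₁, hψ₂, AlgEquiv.apply_symm_apply]
      show _ - IsLocalization.Away.lift _ (hτu _ hh₂) (algebraMap T T₁ x) = 0
      rw [IsLocalization.Away.lift_eq]
      exact sub_self _
    generalize φh (ψ₂ x) - algebraMap T T₁ x = z at h0
    obtain ⟨k, a, ha⟩ := IsLocalization.Away.surj (φ h₂) z
    obtain ⟨m, b, hb⟩ := IsLocalization.Away.surj g₁ a
    have h1 : τ a = 0 := by
      have := congrArg τ₁ ha
      rw [map_mul, h0, zero_mul] at this
      rw [show τ₁ (algebraMap T T₁ a) = τ a from IsLocalization.Away.lift_eq _ (hτu _ hh₂) a] at this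
      exact this.symm
    have h2 : algebraMap S' (Localization.AtPrime q') b = 0 := by
      have := congrArg (awayToPrime q' g₁ hg₁) hb
      rw [map_mul, show awayToPrime q' g₁ hg₁ a = 0 from h1, zero_mul, AlgHom.commutes] at this
      exact this.symm
    obtain ⟨w, hw⟩ := (IsLocalization.map_eq_zero_iff q'.primeCompl _ _).1 h2
    refine ⟨algebraMap S' T w, ?_, ?_⟩
    · show IsUnit (awayToPrime q' g₁ hg₁ _)
      rw [AlgHom.commutes]
      exact IsLocalization.map_units _ w
    · refine ((IsLocalization.Away.algebraMap_isUnit (φ h₂)).pow k).mul_left_eq_zero.1 ?_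
      rw [mul_assoc, ha, ← map_mul]
      suffices algebraMap S' T w * a = 0 by rw [this, map_zero]
      refine ((IsLocalization.Away.algebraMap_isUnit g₁).pow m).mul_left_eq_zero.1 ?_
      rw [mul_assoc, hb, ← map_mul, hw, map_zero]
  choose w hwu hw using hdiff
  let t : T := ∏ x ∈ sT, w x
  have htu : IsUnit (τ t) := by
    rw [map_prod]; exact IsUnit.prod_iff.2 fun x _ => hwu x
  -- invert the numerator of `ψ₂ t`
  obtain ⟨k, c, hc⟩ := IsLocalization.Away.surj h₂ (ψ₂ t)
  have hcq : c ∉ q := isUnit_awayToPrime q hh₂ hc (by rw [hψ₂]; exact htu.map e.symm)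
  let G := h₂ * c
  have hG : G ∉ q := fun h => (Ideal.IsPrime.mem_or_mem' h).elim hh₂ hcq
  let M : Localization.Away h₂ →ₐ[S] Localization.Away G :=
    IsLocalization.Away.liftAlgHom h₂ (f := Algebra.ofId S _) (show IsUnit (algebraMap S _ h₂) from isUnit_of_mul_isUnit_left
      (y := algebraMap S _ c) (by rw [← map_mul]; exact IsLocalization.Away.algebraMap_isUnit _))
  let ψ₃ : T →ₐ[R] Localization.Away G := (M.restrictScalars R).comp ψ₂
  have hψ₃φ : ∀ s, ψ₃ (φ s) = algebraMap S _ s := fun s => by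
    show M (ψ₂ (φ s)) = _
    rw [← AlgHom.comp_apply ψ₂ φ, hψφ]
    exact M.commutes s
  have hψ₃t : IsUnit (ψ₃ t) := by
    have h1 := congrArg M hc
    rw [map_mul, map_pow, AlgHom.commutes, AlgHom.commutes] at h1
    refine isUnit_of_mul_isUnit_left (y := algebraMap S (Localization.Away G) h₂ ^ k) (h1.symm ▸ ?_)
    exact isUnit_of_mul_isUnit_right (x := algebraMap S (Localization.Away G) h₂)
      (by rw [← map_mul]; exact IsLocalization.Away.algebraMap_isUnit _)
  let z : T := φ G * t
  let T₂ := Localization.Away z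
  have hzφ : IsUnit (algebraMap T T₂ (φ G)) :=
    isUnit_of_mul_isUnit_left (y := algebraMap T T₂ t) (by rw [← map_mul]; exact IsLocalization.Away.algebraMap_isUnit _)
  have hzt : IsUnit (algebraMap T T₂ t) :=
    isUnit_of_mul_isUnit_right (x := algebraMap T T₂ (φ G)) (by rw [← map_mul]; exact IsLocalization.Away.algebraMap_isUnit _)
  let Φ : Localization.Away G →ₐ[R] T₂ :=
    IsLocalization.Away.liftAlgHom G (f := (IsScalarTower.toAlgHom R T T₂).comp φ) hzφ
  let Ψ : T₂ →ₐ[R] Localization.Away G := IsLocalization.Away.liftAlgHom z (f := ψ₃) (by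
    rw [map_mul, hψ₃φ]; exact (IsLocalization.Away.algebraMap_isUnit _).mul hψ₃t)
  have hΨ : ∀ x, Ψ (algebraMap T T₂ x) = ψ₃ x := fun x => by
    simp [Ψ, IsLocalization.Away.lift_eq]
  have hΦ : ∀ s, Φ (algebraMap S _ s) = algebraMap T T₂ (φ s) := fun s => by
    exact IsLocalization.Away.lift_eq G hzφ s
  have hΨΦ : Ψ.comp Φ = AlgHom.id R _ := IsLocalization.algHom_ext (Submonoid.powers G) (AlgHom.ext fun s => by
    show Ψ (Φ (algebraMap S _ s)) = algebraMap S _ s
    rw [hΦ, hΨ, hψ₃φ])
  have hΦΨ : Φ.comp Ψ = AlgHom.id R _ := by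
    refine IsLocalization.algHom_ext (Submonoid.powers z) (AlgHom.ext_of_adjoin_eq_top hsT fun x hx => ?_)
    show Φ (Ψ (algebraMap T T₂ x)) = algebraMap T T₂ x
    rw [hΨ]
    have hh : IsUnit (algebraMap T T₂ (φ h₂)) :=
      isUnit_of_mul_isUnit_left (y := algebraMap T T₂ (φ c)) (by rw [← map_mul, ← map_mul]; exact hzφ)
    let N : T₁ →ₐ[R] T₂ := IsLocalization.Away.liftAlgHom (φ h₂) (f := IsScalarTower.toAlgHom R T T₂) hh
    have hN : ∀ y, N (algebraMap T T₁ y) = algebraMap T T₂ y := fun y => by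
      exact IsLocalization.Away.lift_eq (φ h₂) hh y
    have hNφ : ∀ y, N (φh y) = Φ (M y) := fun y => by
      have : N.comp φh = Φ.comp (M.restrictScalars R) :=
        IsLocalization.algHom_ext (Submonoid.powers h₂) (AlgHom.ext fun s => by
          show N (φh (algebraMap S _ s)) = Φ (M (algebraMap S _ s))
          rw [AlgHom.commutes, IsLocalization.Away.mapₐ_apply, IsLocalization.Away.map, IsLocalization.map_eq, hΦ]
          exact hN _)
      exact AlgHom.congr_fun this y
    have h1 := congrArg N (hw x)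
    rw [map_mul, map_zero, map_sub, hN, hN, hNφ] at h1
    have hwx : IsUnit (algebraMap T T₂ (w x)) :=
      isUnit_of_dvd_unit (map_dvd _ (Finset.dvd_prod_of_mem w hx)) hzt
    exact sub_eq_zero.1 (hwx.mul_right_eq_zero.1 h1)
  obtain ⟨m, b, hb⟩ := IsLocalization.Away.surj g₁ z
  have hzu : IsUnit (τ z) := by rw [map_mul]; exact (hτu G hG).mul htu
  have hbq : b ∉ q' := isUnit_awayToPrime q' hg₁ hb hzu
  have : IsLocalization.Away (g₁ * b) T₂ := by
    refine IsLocalization.Away.mul_of_associated (S := T) g₁ b z ?_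
    exact Associated.symm ⟨((IsLocalization.Away.algebraMap_isUnit g₁).pow m).unit, hb⟩
  let eT : T₂ ≃ₐ[S'] Localization.Away (g₁ * b) :=
    IsLocalization.algEquiv (Submonoid.powers (g₁ * b)) T₂ _
  exact ⟨G, g₁ * b, hG, fun h => (Ideal.IsPrime.mem_or_mem' h).elim hg₁ hbq,
    ⟨(AlgEquiv.ofAlgHom Φ Ψ hΦΨ hΨΦ).trans (eT.restrictScalars R)⟩⟩

theorem exists_retraction_of_bijective {S : Type u} [CommRing S] [Algebra R S]
    [Algebra.FinitePresentation R S] (q : Ideal S) [q.IsPrime] (p : Ideal R) [p.IsPrime] [q.LiesOver p]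
    (h : Function.Bijective (Localization.localRingHom p q (algebraMap R S) (q.over_def p))) :
    ∃ f : R, f ∉ p ∧ ∀ (Rf Sf : Type u) [CommRing Rf] [CommRing Sf] [Algebra R Rf] [IsLocalization.Away f Rf]
      [Algebra S Sf] [IsLocalization.Away (algebraMap R S f) Sf] [Algebra Rf Sf] [Algebra R Sf] [IsScalarTower R S Sf]
      [IsScalarTower R Rf Sf],
      ∃ (C : Type u) (_ : CommRing C) (_ : Algebra Rf C), Nonempty (Sf ≃ₐ[Rf] (Rf × C)) := by
  classical
  let ε : Localization.AtPrime p →ₐ[R] Localization.AtPrime q :=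
    { Localization.localRingHom p q (algebraMap R S) (q.over_def p) with
      commutes' := fun r => by
        show Localization.localRingHom p q (algebraMap R S) (q.over_def p) (algebraMap R _ r) = _
        rw [Localization.localRingHom_to_map, ← IsScalarTower.algebraMap_apply] }
  let e := AlgEquiv.ofBijective ε h
  obtain ⟨g, hg, φ, hφ⟩ := exists_lift_away p (e.symm.toAlgHom.comp (IsScalarTower.toAlgHom R S _))
  obtain ⟨sS, hsS⟩ := (Algebra.FiniteType.out : (⊤ : Subalgebra R S).FG)
  choose k a hka using fun x : S => IsLocalization.Away.surj g (φ x)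
  have hz : ∀ x, ∃ t ∉ q, t * (algebraMap R S g ^ k x * x - algebraMap R S (a x)) = 0 := by
    intro x
    have h1 := congrArg (awayToPrime p g hg) (hka x)
    rw [map_mul, map_pow, AlgHom.commutes, AlgHom.commutes, hφ] at h1
    have h2 := congrArg e h1
    rw [map_mul, map_pow, AlgEquiv.commutes, AlgEquiv.commutes] at h2
    have h3 : e ((e.symm.toAlgHom.comp (IsScalarTower.toAlgHom R S (Localization.AtPrime q))) x) =
        algebraMap S _ x := e.apply_symm_apply _
    rw [h3, IsScalarTower.algebraMap_apply R S (Localization.AtPrime q) g,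
      IsScalarTower.algebraMap_apply R S (Localization.AtPrime q) (a x), ← map_pow, ← map_mul, mul_comm x] at h2
    obtain ⟨t, ht⟩ := (IsLocalization.eq_iff_exists q.primeCompl _).1 h2
    exact ⟨t.1, t.2, by rw [mul_sub, sub_eq_zero]; exact ht⟩
  choose T hTq hT using hz
  let t := ∏ x ∈ sS, T x
  have htq : t ∉ q := fun h => by
    obtain ⟨x, -, hx⟩ := (Ideal.IsPrime.prod_mem_iff).1 h
    exact hTq x hx
  obtain ⟨m, c, hc⟩ := IsLocalization.Away.surj g (φ t)
  have hcp : c ∉ p := isUnit_awayToPrime p hg hc (by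
    rw [hφ]; exact (IsLocalization.map_units _ (⟨t, htq⟩ : q.primeCompl)).map e.symm)
  refine ⟨g * c, fun h => (Ideal.IsPrime.mem_or_mem' h).elim hg hcp, ?_⟩
  intro Rf Sf _ _ _ _ _ _ _ _ _ _
  have hgu : IsUnit (algebraMap R Rf g) :=
    isUnit_of_mul_isUnit_left (y := algebraMap R Rf c) (by rw [← map_mul]; exact IsLocalization.Away.algebraMap_isUnit _)
  let σ₀ : S →ₐ[R] Rf := (IsLocalization.Away.liftAlgHom g (f := Algebra.ofId R Rf) (show IsUnit (Algebra.ofId R Rf g) from hgu)).comp φ
  have hσ₀ : ∀ x, σ₀ x * algebraMap R Rf g ^ k x = algebraMap R Rf (a x) := fun x => by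
    have := congrArg (IsLocalization.Away.liftAlgHom g (f := Algebra.ofId R Rf) (show IsUnit (Algebra.ofId R Rf g) from hgu)) (hka x)
    rwa [map_mul, map_pow, AlgHom.commutes, AlgHom.commutes] at this
  have hvu : IsUnit (σ₀ t) := by
    have := congrArg (IsLocalization.Away.liftAlgHom g (f := Algebra.ofId R Rf) (show IsUnit (Algebra.ofId R Rf g) from hgu)) hc
    rw [map_mul, map_pow, AlgHom.commutes, AlgHom.commutes] at this
    refine isUnit_of_mul_isUnit_left (y := algebraMap R Rf g ^ m) ?_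
    show IsUnit (σ₀ t * _)
    rw [show σ₀ t * algebraMap R Rf g ^ m = algebraMap R Rf c from this]
    exact isUnit_of_mul_isUnit_right (x := algebraMap R Rf g) (by rw [← map_mul]; exact IsLocalization.Away.algebraMap_isUnit _)
  let σ : Sf →ₐ[R] Rf := IsLocalization.Away.liftAlgHom (algebraMap R S (g * c)) (f := σ₀)
    (by rw [AlgHom.commutes]; exact IsLocalization.Away.algebraMap_isUnit _)
  have hσS : ∀ x, σ (algebraMap S Sf x) = σ₀ x := fun x => by
    simp [σ, IsLocalization.Away.lift_eq]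
  have hσR : ∀ r : Rf, σ (algebraMap Rf Sf r) = r := by
    intro r
    have : σ.comp (IsScalarTower.toAlgHom R Rf Sf) = AlgHom.id R Rf :=
      IsLocalization.algHom_ext (Submonoid.powers (g * c)) (Subsingleton.elim _ _)
    exact AlgHom.congr_fun this r
  let ts := algebraMap S Sf t
  let ι := algebraMap Rf Sf
  -- `t` kills `y - ι (σ y)`
  have hgen : ∀ x : S, ts * algebraMap S Sf x = ts * ι (σ₀ x) := by
    intro x
    induction (hsS ▸ Algebra.mem_top : x ∈ Algebra.adjoin R (sS : Set S)) using Algebra.adjoin_induction with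
    | mem x hx =>
      have hu : IsUnit (algebraMap R Sf g ^ k x) := by
        rw [IsScalarTower.algebraMap_apply R Rf Sf]; exact (hgu.map _).pow _
      apply hu.mul_left_cancel
      have h1 : t * (algebraMap R S g ^ k x * x - algebraMap R S (a x)) = 0 := by
        obtain ⟨d, hd⟩ := Finset.dvd_prod_of_mem T hx
        rw [show t = T x * d from hd, mul_right_comm, hT, zero_mul]
      have h2 := congrArg (algebraMap S Sf) h1
      simp only [map_mul, map_sub, map_pow, map_zero, ← IsScalarTower.algebraMap_apply] at h2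
      have h3 := congrArg ι (hσ₀ x)
      simp only [map_mul, map_pow, ι, ← IsScalarTower.algebraMap_apply] at h3
      linear_combination h2 - ts * h3
    | algebraMap r =>
      rw [AlgHom.commutes, ← IsScalarTower.algebraMap_apply, ← IsScalarTower.algebraMap_apply]
    | add x y _ _ hx hy => rw [map_add, map_add, map_add, mul_add, mul_add, hx, hy]
    | mul x y _ _ hx hy =>
      rw [map_mul, map_mul, map_mul, ← mul_assoc, hx, mul_right_comm, hy]; ring
  have hker : ∀ y : Sf, ts * y = ts * ι (σ y) := by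
    intro y
    obtain ⟨n, b, hb⟩ := IsLocalization.Away.surj (algebraMap R S (g * c)) y
    have hu : IsUnit (algebraMap R Sf (g * c) ^ n) := by
      rw [IsScalarTower.algebraMap_apply R S Sf]; exact (IsLocalization.Away.algebraMap_isUnit _).pow n
    apply hu.mul_left_cancel
    have h2 := congrArg σ hb
    rw [← IsScalarTower.algebraMap_apply] at hb
    rw [← IsScalarTower.algebraMap_apply, map_mul, map_pow, AlgHom.commutes, hσS] at h2
    have h3 := congrArg ι h2
    simp only [map_mul, map_pow, ι, ← IsScalarTower.algebraMap_apply] at h3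
    have h4 := hgen b
    simp only [map_mul, mul_pow] at hb h3 ⊢
    linear_combination ts * hb + h4 - ts * h3
  let v := hvu.unit
  let el : Sf := ts * ι (↑v⁻¹ : Rf)
  have hσe : σ el = 1 := by
    show σ (ts * ι _) = 1
    rw [map_mul, hσS, hσR, show σ₀ t = (v : Rf) from rfl, Units.mul_inv]
  have hel : ∀ y, el * y = el * ι (σ y) := fun y => by
    show ts * ι _ * y = ts * ι _ * ι (σ y)
    rw [mul_right_comm, hker y, mul_right_comm]
  have hidem : el * el = el := by rw [hel el, hσe, map_one, mul_one]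
  let C := Sf ⧸ Ideal.span {el}
  let F : Sf →ₐ[Rf] Rf × C :=
    AlgHom.prod { σ.toRingHom with commutes' := hσR } (Ideal.Quotient.mkₐ Rf _)
  refine ⟨C, inferInstance, inferInstance, ⟨AlgEquiv.ofBijective F ⟨?_, ?_⟩⟩⟩
  · refine (injective_iff_map_eq_zero F).2 fun y hy => ?_
    obtain ⟨w, hw⟩ := Ideal.mem_span_singleton'.1 (Ideal.Quotient.eq_zero_iff_mem.1 (congrArg Prod.snd hy))
    have h1 : σ y = 0 := congrArg Prod.fst hy
    have : el * y = y := by rw [← hw, mul_left_comm, hidem]
    rw [← this, hel, h1, map_zero, mul_zero]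
  · rintro ⟨r, cc⟩
    obtain ⟨y, rfl⟩ := Ideal.Quotient.mk_surjective cc
    refine ⟨ι r * el + y * (1 - el), Prod.ext ?_ ((Ideal.Quotient.eq).2 (Ideal.mem_span_singleton'.2 ⟨ι r - y, by ring⟩))⟩
    show σ _ = r
    rw [map_add, map_mul σ (ι r) el, map_mul σ y (1 - el), map_sub σ 1 el, hσe, hσR, map_one, mul_one, sub_self, mul_zero, add_zero]

end Groth.Agent.CAlgMisc2
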